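import Mathlib
import Cfsg.Prelude.Def_LieTwisted
import Cfsg.Agent.TT.Def2
import Cfsg.Agent.KS.Defs

/-! Doubly transitive groups with a normal subgroup of odd prime order in the point stabilizer. -/

set_option autoImplicit false

namespace Cfsg.Agent.CY

open Subgroup MulAction Cfsg.Agent.TT Cfsg.Agent.Perm.TT Cfsg.Agent.Perm.TwoCount
open Cfsg.Agent.KS (St)
open scoped commutatorElement MatrixGroups

universe u v

section

variable {G : Type u} {Ω : Type v} [Group G] [MulAction G Ω]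

/-- `P x` is a normal subgroup of odd prime order `p` of the stabilizer of `x`. -/
structure Cy (P : Ω → Subgroup G) (p : ℕ) : Prop where
  two : Two G Ω
  prime : p.Prime
  ne_two : p ≠ 2
  card : ∀ x, Nat.card (P x) = p
  fix : ∀ x, ∀ u ∈ P x, u • x = x
  conj : ∀ (g : G) x, ∀ u ∈ P x, g * u * g⁻¹ ∈ P (g • x)

variable (P : Ω → Subgroup G)

/-- the centralizer of `P a` -/
def CP (a : Ω) : Subgroup G := centralizer (P a : Set G)

/-- the elements centralizing `P a` and fixing `b` -/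
def CC (a b : Ω) : Subgroup G := CP P a ⊓ stabilizer G b

/-- the line through `a` and `b` -/
def ln (a b : Ω) : Set Ω := {c | ∀ d ∈ CC P a b, d • c = c}

/-- the group generated by `P a` and `P b` -/
def HH (a b : Ω) : Subgroup G := P a ⊔ P b

/-- its second derived subgroup -/
def H2 (a b : Ω) : Subgroup G := ⁅⁅HH P a b, HH P a b⁆, ⁅HH P a b, HH P a b⁆⁆

/-- its torus -/
def Tor (a b : Ω) : Subgroup G := HH P a b ⊓ st2 G a b

/-- the group generated by all `P x` -/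
def LL : Subgroup G := ⨆ x, P x

/-- `z` is the central involution of the line -/
def Zl (a b : Ω) (z : G) : Prop := z ∈ HH P a b ∧ z ∈ CC P a b ∧ z ≠ 1

/-- the induced family on a constituent -/
def PC {N : Subgroup G} {B Δ : Type*} [Group B] (π : N →* B) (ι : Δ → Ω) (x : Δ) : Subgroup B :=
  ((P (ι x)).subgroupOf N).map π

/-- some torus element of prime power order fixes exactly two points -/
def Tt : Prop := ∃ a b : Ω, a ≠ b ∧ ∃ x ∈ Tor P a b, ∃ r k : ℕ, r.Prime ∧ x ^ r ^ k = 1 ∧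
  ∀ c : Ω, x • c = c → c = a ∨ c = b

/-- the pointwise stabilizers of lines are semiregular off their lines -/
def Semi : Prop := ∀ a b : Ω, a ≠ b → ∀ y ∈ CC P a b, ∀ c : Ω, c ∉ ln P a b → y • c = c → y = 1

/-- involutions fixing a line pointwise fix no other point -/
def IFx : Prop := ∀ a b : Ω, a ≠ b → ∀ t ∈ CC P a b, orderOf t = 2 → fixedBy Ω t = ln P a b

/-- the smallest Ree group -/
structure EE (p : ℕ) : Prop where
  p3 : p = 3
  card : Nat.card Ω = 28
  cc : ∀ a b : Ω, a ≠ b → CC P a b = ⊥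
  d2 : ∀ a b : Ω, a ≠ b → Nat.card (st2 G a b) = 2
  fix : ∀ u : G, orderOf u = 2 → (fixedBy Ω u).ncard = 4
  mem : ∀ u : G, orderOf u = 2 → u ∈ LL P
  iso : ∃ (F : Type) (_ : Field F) (_ : Fintype F), Fintype.card F = 8 ∧
    Nonempty (LL P ≃* PSL(2, F))
  ree : ∃ (K : Type) (_ : Field K) (_ : Fintype K), Fintype.card K = 3 ∧
    Nonempty (G ≃* Cfsg.Lie.twistedG2 K 1)

/-- the unitary groups -/
structure UU (p : ℕ) : Prop where
  card : Nat.card Ω = p ^ 3 + 1
  iso : ∃ (F : Type) (_ : Field F) (_ : Fintype F), Fintype.card F = p ^ 2 ∧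
    Nonempty (LL P ≃* Cfsg.PSU 3 F p)
  cen : ∀ a b : Ω, a ≠ b → ∃ z, Zl P a b z
  fix : ∀ u : G, orderOf u = 2 → ∃ c : Ω, u • c = c

/-- the conclusion -/
def Res (p : ℕ) : Prop := HasReg G Ω ∨ Nat.card Ω = p + 1 ∨ EE P p ∨ UU P p

/-- the unitary conclusion for the constituent of `N` on `S` -/
def US (N : Subgroup G) (S : Set Ω) (a b : Ω) : Prop :=
  (∃ z, Zl P a b z ∧ ∃ c ∈ S, z • c ≠ c) ∧
    ∀ g ∈ N, (∀ c ∈ S, (g * g) • c = c) → ∃ c ∈ S, g • c = c

/-- facts about a projective line with `p + 1` points -/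
structure LX (p : ℕ) (a b : Ω) (w z : G) : Prop where
  ne : a ≠ b
  card : (ln P a b).ncard = p + 1
  wH : w ∈ HH P a b
  wa : w • a = b
  wb : w • b = a
  wsq : w * w = z
  zC : z ∈ CC P a b
  zsq : z * z = 1
  der : z ∈ H2 P a b
  hc : ∀ h ∈ HH P a b, h ∈ CC P a b → h = 1 ∨ h = z
  swap : ∀ g : G, g • a = b → g • b = a → g * g ∈ CC P a b
  sign : ∀ g : G, g • a = b → g • b = a → ∀ d ∈ st2 G a b, g * d * g⁻¹ * d ∈ CC P a b
  cyc : IsCyclic (Tor P a b)
  card1 : z = 1 → 2 * Nat.card (Tor P a b) + 1 = p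
  card2 : z ≠ 1 → Nat.card (Tor P a b) + 1 = p
  comm : ∀ d ∈ st2 G a b, ∀ t ∈ Tor P a b, Commute d t
  winv : ∀ t ∈ Tor P a b, w * t * w⁻¹ = t⁻¹
  perf : 5 ≤ p → ⁅HH P a b, HH P a b⁆ = HH P a b
  iso : z = 1 → ∃ (F : Type) (_ : Field F) (_ : Fintype F), Fintype.card F = p ∧
    Nonempty (HH P a b ≃* PSL(2, F))

end

/-- the theorem for groups of order less than `m` -/
def IH (p m : ℕ) : Prop :=
  ∀ (B Δ : Type v) [Group B] [Finite B] [MulAction B Δ] [Finite Δ] (P : Δ → Subgroup B),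
    Nat.card B < m → Cy P p → Res P p

variable {G : Type u} {Ω : Type v} [Group G] [MulAction G Ω]

/-- the inductive situation with projective lines -/
structure Cx (P : Ω → Subgroup G) (p : ℕ) : Prop where
  cy : Cy P p
  nreg : ¬ HasReg G Ω
  ih : IH.{v} p (Nat.card G)
  lx : ∀ a b : Ω, a ≠ b → ∃ w z, LX P p a b w z
  p3 : p = 3 → ∀ a b : Ω, a ≠ b → ∃ z, Zl P a b z ∧ fixedBy Ω z = ln P a b
  ne_bot : ∀ a b : Ω, a ≠ b → CC P a b ≠ ⊥

/-- the pointwise stabilizers of lines have odd order -/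
structure C4 (P : Ω → Subgroup G) (p : ℕ) : Prop extends Cx P p where
  odd : ∀ a b : Ω, a ≠ b → Odd (Nat.card (CC P a b))

/-- the pointwise stabilizers of lines have even order -/
structure C5 (P : Ω → Subgroup G) (p : ℕ) : Prop extends Cx P p where
  even : ∀ a b : Ω, a ≠ b → Even (Nat.card (CC P a b))

/-- the two-point stabilizer is the direct product of `C₀` of odd order and `⟨e⟩` -/
structure OC (a b : Ω) (e w : G) (C₀ : Subgroup G) : Prop where
  two : Two G Ω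
  even : Even (Nat.card Ω)
  nreg : ¬ HasReg G Ω
  ne : a ≠ b
  e2 : orderOf e = 2
  ea : e • a = a
  eb : e • b = b
  third : ∃ c : Ω, c ≠ a ∧ c ≠ b ∧ e • c = c
  le : C₀ ≤ st2 G a b
  odd : Odd (Nat.card C₀)
  dec : ∀ d ∈ st2 G a b, d ∈ C₀ ∨ d * e ∈ C₀
  ce : ∀ c ∈ C₀, Commute c e
  w2 : orderOf w = 2
  wa : w • a = b
  cw : ∀ c ∈ C₀, Commute c w

/-- `O` has odd order, is normal in the stabilizer of `a` and transitive on the other points -/
structure OT (P : Ω → Subgroup G) (a : Ω) (O : Subgroup G) : Prop where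
  le : O ≤ CP P a
  ge : P a ≤ O
  odd : Odd (Nat.card O)
  norm : ∀ g : G, g • a = a → ∀ x ∈ O, g * x * g⁻¹ ∈ O
  tr : ∀ c d : Ω, c ≠ a → d ≠ a → ∃ x ∈ O, x • c = d

/-- `O` is moreover regular, abelian modulo `P a` and inverted modulo `P a` by involutions -/
structure KT (P : Ω → Subgroup G) (a : Ω) (K : Subgroup G) : Prop extends OT P a K where
  free : ∀ x ∈ K, ∀ c : Ω, c ≠ a → x • c = c → x = 1
  comm : ∀ x ∈ K, ∀ y ∈ K, ⁅x, y⁆ ∈ P a
  inv : ∀ t ∈ CP P a, orderOf t = 2 → ∀ x ∈ K, t * x * t⁻¹ * x ∈ P a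

/-- the data of Ree type -/
structure RD (P : Ω → Subgroup G) (p : ℕ) : Prop where
  p8 : p % 8 = 3
  noz : ∀ a b : Ω, a ≠ b → ∀ z, ¬ Zl P a b z
  one : ∀ s t : G, orderOf s = 2 → orderOf t = 2 → IsConj s t
  syl : ∀ S : Subgroup G, IsPGroup 2 S → Nat.card S ≤ 8 ∧ ∀ x ∈ S, x * x = 1

variable {P : Ω → Subgroup G} {a b c : Ω} {d : G}

omit [MulAction G Ω] in
theorem mem_CP : d ∈ CP P a ↔ ∀ u ∈ P a, Commute u d := Iff.rfl

theorem mem_CC : d ∈ CC P a b ↔ d ∈ CP P a ∧ d • b = b := Iff.rfl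

theorem mem_ln : c ∈ ln P a b ↔ ∀ d ∈ CC P a b, d • c = c := Iff.rfl

theorem mem_Tor : d ∈ Tor P a b ↔ d ∈ HH P a b ∧ d • a = a ∧ d • b = b := Iff.rfl

theorem right_mem_ln : b ∈ ln P a b := fun _ hd => hd.2

omit [MulAction G Ω] in
theorem P_le_LL (x : Ω) : P x ≤ LL P := le_iSup P x

end Cfsg.Agent.CY
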