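import Mathlib
import Cfsg.Agent.CY.Defs
import Cfsg.Agent.Perm.Witt

/-! The basic properties of the family `P` -/

set_option autoImplicit false
set_option linter.unusedSectionVars false

namespace Cfsg.Agent.CY

open Subgroup MulAction Cfsg.Agent.TT Cfsg.Agent.Perm.TT Cfsg.Agent.Perm.TwoCount
open Cfsg.Agent.KS (St)
open Cfsg.Agent.Loc.PC (OneCl)
open scoped commutatorElement MatrixGroups

universe u v

variable {G : Type u} {Ω : Type v} [Group G] [MulAction G Ω] [Finite G] [Finite Ω]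
  {P : Ω → Subgroup G} {p : ℕ} {a b c d x y : Ω} {g k t u v w z e : G} {N : Subgroup G}
  {S : Set Ω}

namespace Bas

theorem card_conj {A B : Subgroup G} (g : G) (e : ∀ k, g * k * g⁻¹ ∈ B ↔ k ∈ A) : Nat.card B = Nat.card A :=
  (Nat.card_coe_set_eq (B : Set G)).trans ((ncard_conj g fun x => (e x).symm).symm.trans
    (Nat.card_coe_set_eq (A : Set G)).symm)

theorem eq_of_sq {Y : Type*} [Group Y] [Finite Y] [IsCyclic Y] {x y : Y} (hx : x * x = 1) (hy : y * y = 1)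
    (x1 : x ≠ 1) (y1 : y ≠ 1) : x = y := by
  classical
  have := Fintype.ofFinite Y
  by_contra hne
  have h1 := IsCyclic.card_pow_eq_one_le (α := Y) (n := 2) two_pos
  have h2 : ({1, x, y} : Finset Y) ⊆ Finset.univ.filter (fun a => a ^ 2 = 1) := by
    intro a
    simp only [Finset.mem_insert, Finset.mem_singleton, Finset.mem_filter, Finset.mem_univ, true_and, sq]
    rintro (rfl | rfl | rfl)
    exacts [one_mul 1, hx, hy]
  have h3 := Finset.card_le_card h2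
  rw [Finset.card_eq_three.2 ⟨1, x, y, x1.symm, y1.symm, hne, rfl⟩] at h3
  omega

end Bas

open Bas

namespace Cy

variable (h : Cy P p)
include h

theorem three_le : 3 ≤ p := by
  have := h.prime.two_le
  have := h.ne_two
  omega

theorem exists_ne_one (a : Ω) : ∃ u ∈ P a, u ≠ 1 :=
  (P a).bot_or_exists_ne_one.resolve_left fun e => by
    have := h.card a
    rw [e, card_bot] at this
    exact h.prime.one_lt.ne this

theorem conj_iff : g * u * g⁻¹ ∈ P (g • x) ↔ u ∈ P x :=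
  ⟨fun e => by simpa [mul_assoc] using h.conj g⁻¹ _ _ e, h.conj g x u⟩

theorem conj_fix (hg : g • x = x) (hu : u ∈ P x) : g * u * g⁻¹ ∈ P x := by
  have := h.conj g x u hu
  rwa [hg] at this

theorem pow_p (hu : u ∈ P x) : u ^ p = 1 := by
  have := pow_card_eq_one' (x := (⟨u, hu⟩ : P x))
  rw [h.card] at this
  exact congrArg Subtype.val this

theorem ord (hu : u ∈ P x) (h1 : u ≠ 1) : orderOf u = p :=
  have := Fact.mk h.prime
  orderOf_eq_prime (h.pow_p hu) h1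

theorem zpowers_eq (hu : u ∈ P x) (h1 : u ≠ 1) : zpowers u = P x :=
  eq_of_le_of_card_ge (zpowers_le.2 hu) (by rw [Nat.card_zpowers, h.card, h.ord hu h1])

theorem semi (hu : u ∈ P a) (hc : c ≠ a) (e : u • c = c) : u = 1 := by
  by_contra h1
  refine h1 (h.two.faith u fun d => ?_)
  by_cases hd : d = a
  · rw [hd, h.fix a u hu]
  obtain ⟨g, ga, rfl⟩ := h.two.two hc.symm (Ne.symm hd)
  have h2 : zpowers (g * u * g⁻¹) ≤ stabilizer G (g • c) := zpowers_le.2 (conj_smul_iff.2 e)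
  rw [h.zpowers_eq (h.conj_fix ga hu) (by simpa using h1)] at h2
  exact h2 hu

theorem exists_ne (a : Ω) : ∃ b, b ≠ a := by
  obtain ⟨u, -, h1⟩ := h.exists_ne_one a
  by_contra! hn
  exact h1 (h.two.faith u fun c => (hn _).trans (hn c).symm)

theorem comm (hu : u ∈ P x) (hv : v ∈ P x) : Commute u v := by
  by_cases h1 : u = 1
  · rw [h1]; exact Commute.one_left v
  obtain ⟨k, rfl⟩ := mem_zpowers_iff.1 ((h.zpowers_eq hu h1).ge hv)
  exact Commute.self_zpow u k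

theorem isPGroup (x : Ω) : IsPGroup p (P x) := IsPGroup.of_card (n := 1) (by rw [h.card, pow_one])

theorem P_le_CP (x : Ω) : P x ≤ CP P x := fun _ hu _ hv => h.comm hv hu

theorem mem_CP_of (hu : u ∈ P a) (h1 : u ≠ 1) (hc : Commute u g) : g ∈ CP P a := fun v hv => by
  obtain ⟨k, rfl⟩ := mem_zpowers_iff.1 ((h.zpowers_eq hu h1).ge hv)
  exact hc.zpow_left k

theorem CP_fix (hg : g ∈ CP P a) : g • a = a := by
  obtain ⟨u, hu, h1⟩ := h.exists_ne_one a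
  by_contra hn
  exact h1 (h.semi hu hn (smul_fix_of_commute (mem_CP.1 hg u hu).symm (h.fix a u hu)))

theorem CC_le : CC P a b ≤ st2 G a b := fun _ hk => ⟨h.CP_fix hk.1, hk.2⟩

theorem conj_CP : g * k * g⁻¹ ∈ CP P (g • a) ↔ k ∈ CP P a :=
  ⟨fun e u hu => (Commute.conj_iff g).1 (mem_CP.1 e _ (h.conj g a u hu)), fun e u hu => by
    obtain ⟨u, rfl⟩ := (MulAut.conj g).surjective u
    exact (Commute.conj_iff g).2 (mem_CP.1 e u (h.conj_iff.1 hu))⟩

theorem conj_CC : g * k * g⁻¹ ∈ CC P (g • a) (g • b) ↔ k ∈ CC P a b :=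
  and_congr h.conj_CP conj_smul_iff

theorem conj_HH : g * k * g⁻¹ ∈ HH P (g • a) (g • b) ↔ k ∈ HH P a b := by
  have key : ∀ (g : G) (a b : Ω), HH P a b ≤ (HH P (g • a) (g • b)).comap (MulAut.conj g).toMonoidHom :=
    fun g a b => sup_le (fun u hu => mem_sup_left (h.conj g a u hu)) fun u hu => mem_sup_right (h.conj g b u hu)
  exact ⟨fun e => by simpa [mul_assoc] using key g⁻¹ _ _ e, fun e => key g a b e⟩

theorem conj_Tor : g * k * g⁻¹ ∈ Tor P (g • a) (g • b) ↔ k ∈ Tor P a b :=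
  and_congr h.conj_HH (and_congr conj_smul_iff conj_smul_iff)

theorem smul_ln : g • c ∈ ln P (g • a) (g • b) ↔ c ∈ ln P a b :=
  ⟨fun e d hd => conj_smul_iff.1 (e _ (h.conj_CC.2 hd)), fun e d hd => by
    obtain ⟨d, rfl⟩ := (MulAut.conj g).surjective d
    exact conj_smul_iff.2 (e d (h.conj_CC.1 hd))⟩

theorem card_CC (hab : a ≠ b) (hcd : c ≠ d) : Nat.card (CC P c d) = Nat.card (CC P a b) := by
  obtain ⟨g, rfl, rfl⟩ := h.two.two hab hcd
  exact card_conj g fun _ => h.conj_CC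

theorem card_HH (hab : a ≠ b) (hcd : c ≠ d) : Nat.card (HH P c d) = Nat.card (HH P a b) := by
  obtain ⟨g, rfl, rfl⟩ := h.two.two hab hcd
  exact card_conj g fun _ => h.conj_HH

theorem ncard_ln (hab : a ≠ b) (hcd : c ≠ d) : (ln P c d).ncard = (ln P a b).ncard := by
  obtain ⟨g, rfl, rfl⟩ := h.two.two hab hcd
  rw [← Set.ncard_image_of_injective (ln P a b) (MulAction.injective g)]
  congr 1
  ext x
  obtain ⟨x, rfl⟩ := MulAction.surjective g x
  rw [h.smul_ln]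
  exact ((MulAction.injective g).mem_set_image).symm

theorem exists_th (hg : g • x = x) : ∃ i : ℕ, ¬ p ∣ i ∧ ∀ u ∈ P x, g * u * g⁻¹ = u ^ i := by
  obtain ⟨u, hu, h1⟩ := h.exists_ne_one x
  obtain ⟨i, hi⟩ := mem_powers_iff_mem_zpowers.2 ((h.zpowers_eq hu h1).ge (h.conj_fix hg hu))
  replace hi : u ^ i = g * u * g⁻¹ := hi
  refine ⟨i, fun hd => h1 ?_, fun v hv => ?_⟩
  · rw [← h.ord hu h1, orderOf_dvd_iff_pow_eq_one, hi] at hd
    simpa using hd
  · obtain ⟨k, rfl⟩ := mem_zpowers_iff.1 ((h.zpowers_eq hu h1).ge hv)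
    rw [← conj_zpow, ← hi, ← zpow_natCast, ← zpow_natCast, zpow_comm]

/-- The action of the stabilizer on `P a`. -/
theorem exists_hom (a : Ω) : IsCyclic (MulAut (P a)) ∧ Nat.card (MulAut (P a)) = p - 1 ∧
    ∃ θ : stabilizer G a →* MulAut (P a), ∀ g, θ g = 1 ↔ (g : G) ∈ CP P a := by
  have := Fact.mk h.prime
  have : IsCyclic (P a) := isCyclic_of_prime_card (h.card a)
  have : IsCyclic (ZMod (Nat.card (P a)))ˣ := by rw [h.card]; exact ZMod.isCyclic_units_prime h.prime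
  have hle : stabilizer G a ≤ normalizer (P a : Set G) := fun g hg =>
    mem_normalizer_fintype fun u hu => h.conj_fix hg hu
  refine ⟨isCyclic_of_surjective _ (IsCyclic.mulAutMulEquiv (P a)).symm.surjective,
    by rw [IsCyclic.card_mulAut, h.card, Nat.totient_prime h.prime],
    (P a).normalizerMonoidHom.comp (inclusion hle), fun g => ?_⟩
  rw [← MonoidHom.mem_ker, ← MonoidHom.comap_ker, normalizerMonoidHom_ker]
  rfl

theorem commutator_mem (hg : g • a = a) (hk : k • a = a) : ⁅g, k⁆ ∈ CP P a := by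
  obtain ⟨h1, -, θ, hθ⟩ := h.exists_hom a
  refine (hθ ⁅(⟨g, hg⟩ : stabilizer G a), (⟨k, hk⟩ : stabilizer G a)⁆).1 ?_
  rw [map_commutatorElement, commutatorElement_eq_one_iff_mul_comm]
  exact h1.isMulCommutative.is_comm.comm _ _

theorem pow_mem_CP (hg : g • a = a) : g ^ (p - 1) ∈ CP P a := by
  obtain ⟨-, h2, θ, hθ⟩ := h.exists_hom a
  refine (hθ (⟨g, hg⟩ ^ (p - 1))).1 ?_
  rw [map_pow, ← h2, pow_card_eq_one']

theorem mem_CP_of_comm (hg : g • a = a) (hb : b ≠ a) (hc : ∀ u ∈ P a, ⁅g, u⁆ • b = b) :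
    g ∈ CP P a := fun u hu =>
  (commutatorElement_eq_one_iff_commute.1
    (h.semi (mul_mem (h.conj_fix hg hu) (inv_mem hu)) hb (hc u hu))).symm

theorem mem_CP_of_three (hg : g • a = a) (hb : b ≠ a) (gb : g • b = b) (hu : u ∈ P a) (h1 : u ≠ 1)
    (e : g • u • b = u • b) : g ∈ CP P a := by
  have := h.semi (mul_mem (inv_mem hu) (h.conj_fix hg hu)) hb (by
    rw [mul_smul, mul_smul, mul_smul, inv_smul_eq_iff.2 gb.symm, e, inv_smul_smul])
  exact h.mem_CP_of hu h1 (eq_mul_inv_iff_mul_eq.1 (inv_mul_eq_one.1 this))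

theorem fix_of_norm (hab : a ≠ b) (hn : ¬ CC P a b ≤ CC P b a) (hg : ∀ k ∈ CC P a b, g * k * g⁻¹ ∈ CC P a b) :
    g • a = a := by
  by_contra ga
  have h1 : ∀ k ∈ CC P a b, k ∈ CP P (g • a) := fun k hk => by
    obtain ⟨k, rfl⟩ := (MulAut.conj g).surjective k
    exact h.conj_CP.2 ((mem_normalizer_iff.1 (mem_normalizer_fintype (S := (CC P a b : Set G)) hg) k).2 hk).1
  have h2 : CC P a b = CC P a (g • a) := eq_of_le_of_card_ge (fun k hk => ⟨hk.1, h.CP_fix (h1 k hk)⟩)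
    (h.card_CC hab (Ne.symm ga)).le
  obtain ⟨t, ta, tb⟩ := h.two.two (Ne.symm ga) hab
  refine hn fun k hk => ⟨?_, h.CP_fix hk.1⟩
  obtain ⟨k, rfl⟩ := (MulAut.conj t).surjective k
  have h3 : t * k * t⁻¹ ∈ CC P (t • a) (t • g • a) := by rw [ta, tb]; exact hk
  have h4 := (h.conj_CP (g := t)).2 (h1 k (h2.ge (h.conj_CC.1 h3)))
  rw [tb] at h4
  exact h4

theorem CC_le_CC (hab : a ≠ b) : CC P a b ≤ CC P b a := by
  by_contra hn
  obtain ⟨u, hu, h1⟩ := h.exists_ne_one a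
  have hb : b ≠ u • b := fun e => h1 (h.semi hu hab.symm e.symm)
  have f1 : ∀ k ∈ CC P a b, k • u • b = u • b := fun k hk => smul_fix_of_commute (mem_CP.1 hk.1 u hu) hk.2
  have e1 : CC P a b ⊓ CC P b a = CC P b (u • b) ⊓ CC P (u • b) b := by
    refine eq_of_le_of_card_ge (fun k hk => ⟨⟨hk.2.1, f1 k hk.1⟩, ?_, hk.1.2⟩) ?_
    · have := (h.conj_CP (g := u)).2 hk.2.1
      rwa [(mem_CP.1 hk.1.1 u hu).eq, mul_inv_cancel_right] at this
    · obtain ⟨t, ta, tb⟩ := h.two.two hab hb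
      have := card_conj (A := CC P a b ⊓ CC P b a) (B := CC P (t • a) (t • b) ⊓ CC P (t • b) (t • a)) t
        fun _ => and_congr h.conj_CC h.conj_CC
      rw [ta, tb] at this
      exact this.le
  have e2 : st2 G b (u • b) = st2 G a b := by
    refine eq_of_le_of_card_ge (fun g hg => ⟨h.fix_of_norm hab hn fun k hk => ?_, hg.1⟩) (h.two.card_st2 hb hab).le
    have c1 := h.commutator_mem hg.1 hk.2
    have c2 := h.commutator_mem hg.2 (f1 k hk)
    have := mul_mem (e1.ge ⟨⟨c1, h.CP_fix c2⟩, c2, h.CP_fix c1⟩).1 hk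
    rwa [commutatorElement_def, inv_mul_cancel_right] at this
  refine hn (eq_of_le_of_card_ge (fun k hk => ?_) (h.card_CC hab.symm hab).le).ge
  have kb := h.CP_fix hk.1
  exact ⟨h.mem_CP_of_three hk.2 hab.symm kb hu h1 (e2.ge ⟨hk.2, kb⟩).2, kb⟩

/-- the key symmetry -/
theorem CP_of_fix (hg : g ∈ CP P a) (hc : g • c = c) : g ∈ CP P c := by
  by_cases e : a = c
  · exact e ▸ hg
  · exact (h.CC_le_CC e ⟨hg, hc⟩).1

theorem CC_symm : CC P a b = CC P b a :=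
  le_antisymm (fun _ hk => ⟨h.CP_of_fix hk.1 hk.2, h.CP_fix hk.1⟩) fun _ hk => ⟨h.CP_of_fix hk.1 hk.2, h.CP_fix hk.1⟩

theorem ln_symm : ln P a b = ln P b a := by
  unfold ln
  rw [h.CC_symm]

theorem left_mem_ln : a ∈ ln P a b := fun _ hd => h.CP_fix hd.1

theorem mem_CC_of_CP (hg : g ∈ CP P x) (ga : g • a = a) (gb : g • b = b) : g ∈ CC P a b :=
  ⟨h.CP_of_fix hg ga, gb⟩

theorem CC_eq (hab : a ≠ b) (hc : c ∈ ln P a b) (hd : d ∈ ln P a b) (hcd : c ≠ d) :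
    CC P c d = CC P a b :=
  (eq_of_le_of_card_ge (H := CC P a b) (fun k hk => h.mem_CC_of_CP (mem_CC.1 hk).1 (hc k hk) (hd k hk))
    (h.card_CC hab hcd).le).symm

theorem ln_eq (hab : a ≠ b) (hc : c ∈ ln P a b) (hd : d ∈ ln P a b) (hcd : c ≠ d) :
    ln P c d = ln P a b := by
  unfold ln
  rw [h.CC_eq hab hc hd hcd]

theorem P_comm (hc : c ∈ ln P a b) (hu : u ∈ P c) (hk : k ∈ CC P a b) : Commute u k :=
  mem_CP.1 (h.CP_of_fix hk.1 (hc k hk)) u hu

theorem HH_comm (hg : g ∈ HH P a b) (hk : k ∈ CC P a b) : Commute g k :=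
  mem_centralizer_singleton_iff.1 ((sup_le
    (fun _ hu => mem_centralizer_singleton_iff.2 (h.P_comm h.left_mem_ln hu hk))
    fun _ hu => mem_centralizer_singleton_iff.2 (h.P_comm right_mem_ln hu hk) : HH P a b ≤ centralizer {k}) hg)

theorem mem_St_of_pair (hab : a ≠ b) (hc : c ∈ ln P a b) (hd : d ∈ ln P a b) (hcd : c ≠ d)
    (gc : g • c ∈ ln P a b) (gd : g • d ∈ ln P a b) : g ∈ St G (ln P a b) := fun x => by
  have := h.smul_ln (g := g) (c := x) (a := c) (b := d)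
  rwa [h.ln_eq hab gc gd ((MulAction.injective g).ne hcd), h.ln_eq hab hc hd hcd] at this

theorem P_le_St (hc : c ∈ ln P a b) : P c ≤ St G (ln P a b) := fun _ hu =>
  KS.mem_St_of fun _ hx k hk => smul_fix_of_commute (h.P_comm hc hu hk) (hx k hk)

theorem HH_le_St : HH P a b ≤ St G (ln P a b) :=
  sup_le (h.P_le_St h.left_mem_ln) (h.P_le_St right_mem_ln)

theorem st2_le_St (hab : a ≠ b) : st2 G a b ≤ St G (ln P a b) := fun _ hg =>
  h.mem_St_of_pair hab h.left_mem_ln right_mem_ln hab (by rw [(mem_st2.1 hg).1]; exact h.left_mem_ln)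
    (by rw [(mem_st2.1 hg).2]; exact right_mem_ln)

theorem swap_mem_St (hab : a ≠ b) (ga : g • a = b) (gb : g • b = a) : g ∈ St G (ln P a b) :=
  h.mem_St_of_pair hab h.left_mem_ln right_mem_ln hab (by rw [ga]; exact right_mem_ln)
    (by rw [gb]; exact h.left_mem_ln)

theorem St_norm (hab : a ≠ b) (hg : g ∈ St G (ln P a b)) (hk : k ∈ CC P a b) :
    g * k * g⁻¹ ∈ CC P a b := by
  rw [← h.CC_eq hab (KS.St.smul_mem hg h.left_mem_ln) (KS.St.smul_mem hg right_mem_ln)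
    ((MulAction.injective g).ne hab)]
  exact h.conj_CC.2 hk

theorem mem_CC_of_fix (hab : a ≠ b) (hg : ∀ c ∈ ln P a b, g • c = c) : g ∈ CC P a b := by
  obtain ⟨u, hu, h1⟩ := h.exists_ne_one a
  exact ⟨h.mem_CP_of_three (hg a h.left_mem_ln) hab.symm (hg b right_mem_ln) hu h1
    (hg _ (KS.St.smul_mem (h.P_le_St h.left_mem_ln hu) right_mem_ln)), hg b right_mem_ln⟩

theorem t2_ln (hab : a ≠ b) : T2 (St G (ln P a b)) (ln P a b) :=
  T2.of_base (a := a) (b := b) (fun _ hg _ hc => KS.St.smul_mem hg hc) fun x hx y hy hxy => by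
    obtain ⟨g, rfl, rfl⟩ := h.two.two hab hxy
    exact ⟨g, h.mem_St_of_pair hab h.left_mem_ln right_mem_ln hab hx hy, rfl, rfl⟩

theorem ln_univ (hb : CC P a b = ⊥) : ln P a b = Set.univ :=
  Set.eq_univ_of_forall fun c d hd => by rw [mem_bot.1 (hb.le hd), one_smul]

theorem exists_notMem_ln (hb : CC P a b ≠ ⊥) : ∃ c, c ∉ ln P a b := by
  by_contra! hn
  exact hb (eq_bot_iff.2 fun d hd => h.two.faith d fun c => hn c d hd)

theorem ln_dvd (hab : a ≠ b) : (ln P a b).ncard - 1 ∣ Nat.card Ω - 1 ∧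
    (ln P a b).ncard * ((ln P a b).ncard - 1) ∣ Nat.card Ω * (Nat.card Ω - 1) := by
  have h1 := (h.t2_ln hab).card_stab h.left_mem_ln right_mem_ln hab
  have h2 := (h.t2_ln hab).t1.card h.left_mem_ln
  rw [inf_assoc, inf_eq_right.2 (h.st2_le_St hab)] at h1
  have h3 := card_dvd_of_le (inf_le_right : St G (ln P a b) ⊓ stabilizer G a ≤ _)
  have h4 := card_subgroup_dvd_card (St G (ln P a b))
  rw [h1, h.two.card_stab hab] at h3
  rw [h2, h1, h.two.card_eq hab, ← mul_assoc, ← mul_assoc] at h4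
  exact ⟨Nat.dvd_of_mul_dvd_mul_right Nat.card_pos h3, Nat.dvd_of_mul_dvd_mul_right Nat.card_pos h4⟩

theorem dvd_sub (ha : a ∈ S) (hS : ∀ u ∈ P a, ∀ c ∈ S, u • c ∈ S) : p ∣ S.ncard - 1 := by
  have := Fact.mk h.prime
  have h1 := Perm.ncard_modEq_fixed (h.isPGroup a) S S.toFinite hS
  obtain ⟨u, hu, u1⟩ := h.exists_ne_one a
  have e : {x ∈ S | ∀ g ∈ P a, g • x = x} = {a} := Set.eq_singleton_iff_unique_mem.2
    ⟨⟨ha, h.fix a⟩, fun x hx => by_contra fun hn => u1 (h.semi hu hn (hx.2 u hu))⟩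
  rw [e, Set.ncard_singleton] at h1
  exact (Nat.modEq_iff_dvd' ((Set.ncard_pos S.toFinite).2 ⟨a, ha⟩)).1 h1.symm

theorem p_dvd (a : Ω) : p ∣ Nat.card Ω - 1 ∧ p + 1 ≤ Nat.card Ω := by
  have h1 := h.dvd_sub (Set.mem_univ a) fun _ _ _ _ => Set.mem_univ _
  obtain ⟨b, hb⟩ := h.exists_ne a
  have h2 := two_le_ncard (Set.mem_univ a) (Set.mem_univ b) hb.symm
  rw [Set.ncard_univ] at h1 h2
  have := Nat.le_of_dvd (by omega) h1
  exact ⟨h1, by omega⟩

theorem exists_gen (a b : Ω) : ∃ g ∈ st2 G a b, ∀ k ∈ st2 G a b, ∃ i : ℕ, ∃ c ∈ CC P a b,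
    k = g ^ i * c := by
  obtain ⟨h1, -, θ, hθ⟩ := h.exists_hom a
  let φ := θ.comp (inclusion (inf_le_left : st2 G a b ≤ stabilizer G a))
  obtain ⟨⟨_, g, rfl⟩, hg⟩ := IsCyclic.exists_generator (α := φ.range)
  refine ⟨g, g.2, fun k hk => ?_⟩
  obtain ⟨i, hi⟩ := mem_powers_iff_mem_zpowers.2 (hg ⟨_, ⟨k, hk⟩, rfl⟩)
  replace hi : φ g ^ i = φ ⟨k, hk⟩ := congrArg Subtype.val hi
  have h2 : φ ((g ^ i)⁻¹ * ⟨k, hk⟩) = 1 := by rw [map_mul, map_inv, map_pow, hi, inv_mul_cancel]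
  exact ⟨i, _, ⟨(hθ _).1 h2, ((g ^ i)⁻¹ * ⟨k, hk⟩).2.2⟩, (mul_inv_cancel_left _ _).symm⟩

theorem card_st2 (a b : Ω) : ∃ m, m ∣ p - 1 ∧ Nat.card (st2 G a b) = m * Nat.card (CC P a b) := by
  obtain ⟨-, h2, θ, hθ⟩ := h.exists_hom a
  let φ := θ.comp (inclusion (inf_le_left : st2 G a b ≤ stabilizer G a))
  have e : φ.ker = (CC P a b).subgroupOf (st2 G a b) :=
    Subgroup.ext fun g => ⟨fun hg => ⟨(hθ _).1 hg, g.2.2⟩, fun hg => (hθ _).2 hg.1⟩
  refine ⟨Nat.card φ.range, h2 ▸ card_subgroup_dvd_card _, ?_⟩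
  rw [← φ.ker.index_mul_card, index_ker, e, Nat.card_congr (subgroupOfEquivOfLe h.CC_le).toEquiv]

theorem cyc_of_inf {R : Subgroup G} (hR : R ≤ stabilizer G a) (hb : R ⊓ CP P a = ⊥) :
    IsCyclic R ∧ Nat.card R ∣ p - 1 := by
  obtain ⟨h1, h2, θ, hθ⟩ := h.exists_hom a
  have hi : Function.Injective (θ.comp (inclusion hR)) := (injective_iff_map_eq_one _).2 fun g hg =>
    Subtype.ext (hb.le ⟨g.2, (hθ _).1 hg⟩)
  exact ⟨isCyclic_of_injective _ hi, h2 ▸ card_dvd_of_injective _ hi⟩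

theorem inv_mul_mem (hs : g • a = a) (ht : k • a = a) (h1 : g * g ∈ CP P a) (h2 : k * k ∈ CP P a)
    (h3 : g ∉ CP P a) (h4 : k ∉ CP P a) : g * k ∈ CP P a := by
  obtain ⟨h5, -, θ, hθ⟩ := h.exists_hom a
  have e1 := (hθ (⟨g, hs⟩ * ⟨g, hs⟩)).2 h1
  have e2 := (hθ (⟨k, ht⟩ * ⟨k, ht⟩)).2 h2
  rw [map_mul] at e1 e2
  refine (hθ (⟨g, hs⟩ * ⟨k, ht⟩)).1 ?_
  rw [map_mul, eq_of_sq e1 e2 (mt (hθ _).1 h3) (mt (hθ _).1 h4), e2]

theorem trans_sub (hN : ∀ g ∈ N, ∀ c ∈ S, g • c ∈ S) (hP : ∀ x ∈ S, P x ≤ N) : T1 N S :=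
  ⟨hN, Perm.gleason_trans h.prime N S hN fun x hx => ⟨P x, hP x hx, h.isPGroup x, h.fix x, fun y _ hy => by
    obtain ⟨u, hu, u1⟩ := h.exists_ne_one x
    exact by_contra fun hn => u1 (h.semi hu hn (hy u hu))⟩⟩

theorem t2_of (hN : ∀ g ∈ N, ∀ c ∈ S, g • c ∈ S) (hP : ∀ x ∈ S, P x ≤ N) (ha : a ∈ S)
    (ht : ∀ c ∈ S, ∀ d ∈ S, c ≠ a → d ≠ a → ∃ g ∈ N, g • a = a ∧ g • c = d) : T2 N S :=
  ⟨hN, fun x hx y hy x' hx' y' hy' hxy hxy' => by
    obtain ⟨g, hg, rfl⟩ := (h.trans_sub hN hP).tr a ha x hx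
    obtain ⟨k, hk, rfl⟩ := (h.trans_sub hN hP).tr a ha x' hx'
    obtain ⟨m, hm, ma, my⟩ := ht _ (hN _ (inv_mem hg) y hy) _ (hN _ (inv_mem hk) y' hy')
      (fun e => hxy (inv_smul_eq_iff.1 e).symm) fun e => hxy' (inv_smul_eq_iff.1 e).symm
    exact ⟨k * m * g⁻¹, mul_mem (mul_mem hk hm) (inv_mem hg), by rw [mul_smul, inv_smul_smul, mul_smul, ma],
      by rw [mul_smul, mul_smul, my, smul_inv_smul]⟩⟩

theorem t2_gleason (hN : ∀ g ∈ N, ∀ c ∈ S, g • c ∈ S) (hP : ∀ x ∈ S, P x ≤ N) (ha : a ∈ S)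
    {r : ℕ} (hr : r.Prime) (ht : ∀ c ∈ S, c ≠ a → ∃ R ≤ N, IsPGroup r R ∧ R ≤ st2 G a c ∧
      ∀ d ∈ S, (∀ g ∈ R, g • d = d) → d = a ∨ d = c) : T2 N S := by
  have key := Perm.gleason_trans hr (N ⊓ stabilizer G a) (S \ {a})
    (fun g hg x hx => ⟨hN g hg.1 x hx.1, fun e => hx.2 (smul_left_cancel g
      ((show g • x = a from e).trans (show g • a = a from hg.2).symm))⟩) fun c hc => by
    obtain ⟨R, r1, r2, r3, r4⟩ := ht c hc.1 hc.2
    exact ⟨R, le_inf r1 (r3.trans inf_le_left), r2, fun g hg => (r3 hg).2,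
      fun y hy e => (r4 y hy.1 e).resolve_left hy.2⟩
  exact h.t2_of hN hP ha fun c hc d hd ca da => by
    obtain ⟨g, hg, e⟩ := key c ⟨hc, ca⟩ d ⟨hd, da⟩
    exact ⟨g, hg.1, hg.2, e⟩

theorem LL_normal : (LL P).Normal :=
  ⟨fun _ hn g => (iSup_le fun x u hu => P_le_LL (g • x) (h.conj g x u hu) :
    LL P ≤ (LL P).comap (MulAut.conj g).toMonoidHom) hn⟩

theorem LL_ne_bot (a : Ω) : LL P ≠ ⊥ := fun e => by
  obtain ⟨u, hu, u1⟩ := h.exists_ne_one a
  exact u1 (e.le (P_le_LL a hu))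

theorem normalClosure_eq (a : Ω) : normalClosure (P a : Set G) = LL P := by
  have := h.LL_normal
  refine le_antisymm (normalClosure_le_normal (P_le_LL a)) (iSup_le fun x u hu => ?_)
  obtain ⟨g, rfl⟩ := h.two.trans a x
  obtain ⟨u, rfl⟩ := (MulAut.conj g).surjective u
  exact normalClosure_normal.conj_mem _ (subset_normalClosure (h.conj_iff.1 hu)) g

theorem HH_le_LL : HH P a b ≤ LL P := sup_le (P_le_LL a) (P_le_LL b)

end Cy

end Cfsg.Agent.CY
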