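import Mathlib
import Cfsg.Agent.CY.Bas

/-! Constituents. -/

set_option autoImplicit false
set_option linter.unusedSectionVars false

namespace Cfsg.Agent.CY

open Subgroup MulAction Cfsg.Agent.TT Cfsg.Agent.Perm.TT Cfsg.Agent.Perm.TwoCount
open Cfsg.Agent.KS (St)
open Cfsg.Agent.Loc.PC (OneCl)
open scoped commutatorElement MatrixGroups

universe u v

variable {G : Type u} {Ω : Type v} [Group G] [MulAction G Ω] [Finite G] [Finite Ω]
  {P : Ω → Subgroup G} {p : ℕ} {a b c d x y : Ω} {g k t u v w z e : G} {N : Subgroup G}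
  {S : Set Ω}

namespace Cy

section con

variable (h : Cy P p) {B Δ : Type*} [Group B] [MulAction B Δ] {π : N →* B} {ι : Δ → Ω}
  (hc : Con N S π ι) (h2 : T2 N S) (hP : ∀ x ∈ S, P x ≤ N) (hS : S.Nontrivial)
include h hc h2 hP hS

theorem con : Cy (PC P π ι) p where
  two := hc.two h2
  prime := h.prime
  ne_two := h.ne_two
  card x := by
    have hle := hP _ (hc.mem x)
    have e : Nat.card ((P (ι x)).subgroupOf N) = p := (Nat.card_congr (subgroupOfEquivOfLe hle).toEquiv).trans (h.card _)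
    refine ((Nat.dvd_prime h.prime).1 (e ▸ card_map_dvd _ π)).resolve_left fun e1 => ?_
    obtain ⟨u, hu, u1⟩ := h.exists_ne_one (ι x)
    obtain ⟨c, cS, ca⟩ := hS.exists_ne (ι x)
    have : π ⟨u, hle hu⟩ ∈ (⊥ : Subgroup B) := card_eq_one.1 e1 ▸ mem_map_of_mem π hu
    exact u1 (h.semi hu ca (hc.eq_one_iff.1 this c cS))
  fix := by
    rintro x _ ⟨u, hu, rfl⟩
    exact hc.smul_iff.2 (h.fix _ _ hu)
  conj := by
    rintro β x _ ⟨u, hu, rfl⟩
    obtain ⟨g, rfl⟩ := hc.surj β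
    refine ⟨g * u * g⁻¹, ?_, by simp only [map_mul, map_inv]⟩
    rw [hc.smul]
    exact h.conj _ _ _ hu

theorem con_CC {g : N} {x y : Δ} : π g ∈ CC (PC P π ι) x y ↔ (g : G) ∈ CC P (ι x) (ι y) := by
  have := hc.finite
  have := hc.finite_pts
  refine and_congr ⟨fun e => ?_, fun e => ?_⟩ hc.smul_iff
  · obtain ⟨c, cS, ca⟩ := hS.exists_ne (ι x)
    refine h.mem_CP_of_comm (hc.smul_iff.1 ((h.con hc h2 hP hS).CP_fix e)) ca fun u hu => ?_
    refine hc.eq_one_iff (g := ⁅g, ⟨u, hP _ (hc.mem x) hu⟩⁆).1 ?_ c cS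
    rw [map_commutatorElement]
    exact commutatorElement_eq_one_iff_commute.2 (mem_CP.1 e _ ⟨⟨u, _⟩, hu, rfl⟩).symm
  · rintro _ ⟨u, hu, rfl⟩
    exact (show Commute u g from Subtype.ext (e _ hu)).map π

theorem con_HH_eq (x y : Δ) : HH (PC P π ι) x y = ((HH P (ι x) (ι y)).subgroupOf N).map π := by
  rw [HH, HH, subgroupOf_sup (hP _ (hc.mem x)) (hP _ (hc.mem y)), Subgroup.map_sup, PC, PC]

theorem con_HH {β : B} {x y : Δ} :
    β ∈ HH (PC P π ι) x y ↔ ∃ g : N, (g : G) ∈ HH P (ι x) (ι y) ∧ π g = β := by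
  rw [h.con_HH_eq hc h2 hP hS]; rfl

theorem con_LL {β : B} :
    β ∈ LL (PC P π ι) ↔ ∃ g : N, (g : G) ∈ (⨆ x ∈ S, P x : Subgroup G) ∧ π g = β := by
  have e : (⨆ x, (P (ι x)).subgroupOf N) = (⨆ x ∈ S, P x : Subgroup G).subgroupOf N := by
    refine map_injective N.subtype_injective ?_
    rw [map_subgroupOf_eq_of_le (iSup₂_le hP), Subgroup.map_iSup, ← hc.range, iSup_range]
    exact iSup_congr fun x => map_subgroupOf_eq_of_le (hP _ (hc.mem x))
  have e' : LL (PC P π ι) = ((⨆ x ∈ S, P x : Subgroup G).subgroupOf N).map π := by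
    rw [← e, Subgroup.map_iSup]; rfl
  rw [e']; rfl

theorem con_H2 {x y : Δ} (e : H2 (PC P π ι) x y = ⊥) (hg : g ∈ H2 P (ι x) (ι y)) : ∀ c ∈ S, g • c = c := by
  have HN : HH P (ι x) (ι y) ≤ N := sup_le (hP _ (hc.mem x)) (hP _ (hc.mem y))
  rw [H2, ← map_subgroupOf_eq_of_le HN, ← map_commutator, ← map_commutator] at hg
  obtain ⟨g, hg, rfl⟩ := hg
  rw [H2, h.con_HH_eq hc h2 hP hS, ← map_commutator, ← map_commutator] at e
  exact hc.eq_one_iff.1 (mem_bot.1 (e ▸ mem_map_of_mem π hg))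

end con

theorem H2_bot (h : Cy P p) (hr : HasReg G Ω) (a b : Ω) : H2 P a b = ⊥ := by
  obtain ⟨V, -, hV, -, tr, -, cm, -⟩ := h.two.exists_reg hr a
  have h1 : HH P a b ≤ V ⊔ P a := sup_le le_sup_right fun w hw => by
    obtain ⟨v, hv, rfl⟩ := tr a b
    have : v⁻¹ * w * v ∈ P a := h.conj_iff.1 (show v * (v⁻¹ * w * v) * v⁻¹ ∈ _ by simpa [mul_assoc] using hw)
    simpa [mul_assoc] using mul_mem (mul_mem (mem_sup_left hv : v ∈ V ⊔ P a) (mem_sup_right this))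
      (inv_mem (mem_sup_left hv))
  have h3 : ⁅HH P a b, HH P a b⁆ ≤ V := commutator_le.2 fun g hg k hk => by
    obtain ⟨v, hv, u, hu, rfl⟩ := mem_sup_of_normal_left.1 (h1 hg)
    obtain ⟨v', hv', u', hu', rfl⟩ := mem_sup_of_normal_left.1 (h1 hk)
    rw [← QuotientGroup.eq_one_iff, ← QuotientGroup.mk'_apply, map_commutatorElement, map_mul, map_mul,
      show QuotientGroup.mk' V v = 1 from (QuotientGroup.eq_one_iff v).2 hv,
      show QuotientGroup.mk' V v' = 1 from (QuotientGroup.eq_one_iff v').2 hv', one_mul, one_mul]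
    exact commutatorElement_eq_one_iff_commute.2 ((h.comm hu hu').map _)
  exact eq_bot_iff.2 (commutator_le.2 fun g hg k hk =>
    mem_bot.2 (commutatorElement_eq_one_iff_mul_comm.2 (cm g (h3 hg) k (h3 hk))))

theorem line_con (h : Cy P p) (hab : a ≠ b) {B Δ : Type*} [Group B] [MulAction B Δ]
    {π : St G (ln P a b) →* B} {ι : Δ → Ω} (hc : Con (St G (ln P a b)) (ln P a b) π ι) :
    Cy (PC P π ι) p ∧ ∀ x y : Δ, x ≠ y → CC (PC P π ι) x y = ⊥ := by
  have hS : (ln P a b).Nontrivial := ⟨a, h.left_mem_ln, b, right_mem_ln, hab⟩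
  refine ⟨h.con hc (h.t2_ln hab) (fun _ => h.P_le_St) hS, fun x y hxy => eq_bot_iff.2 fun β hβ => ?_⟩
  obtain ⟨g, rfl⟩ := hc.surj β
  rw [h.con_CC hc (h.t2_ln hab) (fun _ => h.P_le_St) hS, h.CC_eq hab (hc.mem x) (hc.mem y) (hc.inj.ne hxy)] at hβ
  exact hc.eq_one_iff.2 fun c hc' => hc' _ hβ

theorem ln_subset (h : Cy P p) (hab : a ≠ b) (hl : (ln P a b).ncard = p + 1) (ha : a ∈ S)
    (hS : ∀ u ∈ P a, u • b ∈ S) : ln P a b ⊆ S := by
  have i : Set.InjOn (fun u : G => u • b) (P a) := fun u hu u' hu' e => by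
    have : (u'⁻¹ * u) • b = b := by rw [mul_smul, show u • b = u' • b from e, inv_smul_smul]
    exact (inv_mul_eq_one.1 (h.semi (mul_mem (inv_mem hu') hu) hab.symm this)).symm
  have e : insert a ((fun u : G => u • b) '' P a) = ln P a b := by
    refine Set.eq_of_subset_of_ncard_le (Set.insert_subset h.left_mem_ln ?_) ?_
    · rintro _ ⟨u, hu, rfl⟩
      exact (h.P_le_St h.left_mem_ln hu b).2 right_mem_ln
    · rw [Set.ncard_insert_of_notMem, i.ncard_image, hl, ← Nat.card_coe_set_eq]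
      · exact Nat.succ_le_succ (h.card a).ge
      · rintro ⟨u, hu, e⟩
        exact hab (smul_left_cancel u ((h.fix a u hu).trans e.symm))
  rw [← e]
  exact Set.insert_subset ha (by rintro _ ⟨u, hu, rfl⟩; exact hS u hu)

end Cy

theorem Cx.sub (h : Cx P p) (h2 : T2 N S) (hP : ∀ x ∈ S, P x ≤ N) (hk : k ∈ N) (k1 : k ≠ 1)
    (kS : ∀ c ∈ S, k • c = c) (ha : a ∈ S) (hb : b ∈ S) (hab : a ≠ b) :
    S = ln P a b ∨ US P N S a b := by
  obtain ⟨w, z, L⟩ := h.lx a b hab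
  have sub : ln P a b ⊆ S := h.cy.ln_subset hab L.card ha fun u hu => h2.inv u (hP a ha hu) b hb
  have hS : S.Nontrivial := ⟨a, ha, b, hb, hab⟩
  have HN : HH P a b ≤ N := sup_le (hP a ha) (hP b hb)
  obtain ⟨B, Δ, _, _, π, ι, hc⟩ := exists_con N S h2.inv
  have := hc.finite
  have := hc.finite_pts
  obtain ⟨x, rfl⟩ := hc.exists_eq ha
  obtain ⟨y, rfl⟩ := hc.exists_eq hb
  have hxy : x ≠ y := fun e => hab (congrArg ι e)
  have cy := h.cy.con hc h2 hP hS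
  rcases h.ih B Δ _ (hc.card_lt hk k1 kS) cy with r | r | r | r
  · have f := fun g => h.cy.con_H2 (g := g) hc h2 hP hS (cy.H2_bot r x y)
    by_cases p3 : p = 3
    · obtain ⟨z0, ⟨z1, z2, z3⟩, e⟩ := h.p3 p3 _ _ hab
      obtain rfl := (L.hc z0 z1 z2).resolve_left z3
      exact Or.inl (subset_antisymm (e ▸ f _ L.der) sub)
    · have e := L.perf (h.cy.prime.five_le_of_ne_two_of_ne_three h.cy.ne_two p3)
      obtain ⟨u, hu, u1⟩ := h.cy.exists_ne_one (ι x)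
      exact absurd (h.cy.semi hu hab.symm (f u (by rw [H2, e, e]; exact mem_sup_left hu) _ hb)) u1
  · exact Or.inl (Set.eq_of_subset_of_ncard_le sub (by rw [← hc.card_pts, r, L.card])).symm
  · obtain ⟨z0, ⟨z1, z2, -⟩, e⟩ := h.p3 r.p3 _ _ hab
    have m := (h.cy.con_CC hc h2 hP hS (g := ⟨z0, HN z1⟩)).2 z2
    rw [r.cc x y hxy] at m
    exact Or.inl (subset_antisymm (e ▸ hc.eq_one_iff.1 m) sub)
  · obtain ⟨β, z1, z2, z3⟩ := r.cen x y hxy
    obtain ⟨g, hg, rfl⟩ := (h.cy.con_HH hc h2 hP hS).1 z1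
    refine Or.inr ⟨⟨g, ⟨hg, (h.cy.con_CC hc h2 hP hS).1 z2, fun e => z3 (by rw [show g = 1 from Subtype.ext e, map_one])⟩,
      ?_⟩, fun g hg e => ?_⟩
    · simpa only [hc.eq_one_iff, ne_eq, not_forall, exists_prop] using z3
    · by_cases e1 : π ⟨g, hg⟩ = 1
      · exact ⟨_, ha, hc.eq_one_iff.1 e1 _ ha⟩
      · obtain ⟨c, e2⟩ := r.fix _ (orderOf_eq_prime (by
          rw [sq, ← map_mul]; exact hc.eq_one_iff.2 e) e1)
        exact ⟨_, hc.mem c, hc.smul_iff.1 e2⟩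

end Cfsg.Agent.CY
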