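import Mathlib
import Cfsg.Agent.CY.Defs
import Cfsg.Agent.TT.BGen

/-! The centraliser of the involution of the two-point stabilizer. -/

set_option autoImplicit false
set_option linter.unusedSectionVars false

namespace Cfsg.Agent.CY

open Subgroup MulAction Cfsg.Agent.TT Cfsg.Agent.Perm.TT Cfsg.Agent.Perm.TwoCount
open Cfsg.Agent.KS (St)
open Cfsg.Agent.Loc.PC (OneCl)
open scoped commutatorElement MatrixGroups

universe u v

variable {G : Type u} {Ω : Type v} [Group G] [MulAction G Ω] [Finite G] [Finite Ω]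
  {P : Ω → Subgroup G} {p : ℕ} {a b c d x y : Ω} {g k t u v w z e : G} {N : Subgroup G}
  {S : Set Ω}

theorem oc1_odd {H : Type*} [Group H] {K : Subgroup H} (ho : Odd (Nat.card K)) {x : H} (hx : x ∈ K) (h : x * x = 1) :
    x = 1 := by
  by_contra c
  exact (Nat.not_even_iff_odd.2 ho) (even_iff_two_dvd.2 (two_of h c ▸ orderOf_dvd_natCard K hx))

theorem OC.dec' {C₀ : Subgroup G} (h : OC a b e w C₀) (hk : k ∈ st2 G a b) : ∃ c ∈ C₀, k = c ∨ k = c * e :=
  (h.dec k hk).elim (fun m => ⟨k, m, Or.inl rfl⟩) fun m =>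
    ⟨_, m, Or.inr (by rw [mul_assoc, mul_self_two h.e2, mul_one])⟩

theorem OC.comm_e {C₀ : Subgroup G} (h : OC a b e w C₀) (hk : k ∈ st2 G a b) : Commute k e := by
  obtain ⟨c, hc, rfl | rfl⟩ := h.dec' hk
  exacts [h.ce _ hc, (h.ce _ hc).mul_left (Commute.refl e)]

theorem OC.sq_mem {C₀ : Subgroup G} (h : OC a b e w C₀) (hk : k ∈ st2 G a b) : k * k ∈ C₀ := by
  obtain ⟨c, hc, rfl | rfl⟩ := h.dec' hk
  · exact mul_mem hc hc
  · rw [(h.ce _ hc).symm.mul_mul_mul_comm, mul_self_two h.e2, mul_one]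
    exact mul_mem hc hc

theorem OC.uniq {C₀ : Subgroup G} (h : OC a b e w C₀) (ht : orderOf t = 2) (ta : t • a = a)
    (tb : t • b = b) : t = e := by
  rcases h.dec t ⟨ta, tb⟩ with m | m
  · exact absurd (oc1_odd h.odd m (mul_self_two ht)) (ne_one_two ht)
  · have := oc1_odd h.odd m (by
      rw [(h.comm_e ⟨ta, tb⟩).symm.mul_mul_mul_comm, mul_self_two ht, mul_self_two h.e2, mul_one])
    rw [eq_inv_of_mul_eq_one_left this, inv_two h.e2]

theorem OC.t2 {C₀ : Subgroup G} (h : OC a b e w C₀) :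
    T2 (centralizer ({e} : Set G)) (fixedBy Ω e) := by
  have := h.two.t2_of_weak h.ne (N := centralizer ({e} : Set G)) (X := {e}) (fun g hg x hx => by
    rw [hx, mul_assoc, ← mem_centralizer_singleton_iff.1 hg, inv_mul_cancel_left]; rfl) fun g hg => by
      have k := hg e rfl
      have := h.uniq (by simpa using two_conj h.e2 g⁻¹) k.1 k.2
      rw [mul_assoc, inv_mul_eq_iff_eq_mul] at this
      exact mem_centralizer_singleton_iff.2 this.symm
  simp only [Set.mem_singleton_iff, forall_eq] at this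
  exact this

namespace OC

variable {C₀ : Subgroup G} (h : OC a b e w C₀)
include h

theorem wb : w • b = a := by rw [← h.wa, smul_smul_two h.w2]

theorem we : Commute w e :=
  mul_inv_eq_iff_eq_mul.1 (h.uniq (two_conj h.e2 w) (h.wb ▸ conj_smul_iff.2 h.eb) (h.wa ▸ conj_smul_iff.2 h.ea))

theorem comm_w (hk : k ∈ st2 G a b) : Commute k w := by
  obtain ⟨c, hc, rfl | rfl⟩ := h.dec' hk
  exacts [h.cw _ hc, (h.cw _ hc).mul_left h.we.symm]

theorem kr_le (hk : k ∈ kr Ω e) : k ∈ st2 G a b := ⟨mem_kr.1 hk a h.ea, mem_kr.1 hk b h.eb⟩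

theorem even_f : Even (fixedBy Ω e).ncard := by
  have := parity_fixedBy (Ω := Ω) (mul_self_two h.e2)
  have := Nat.even_iff.1 h.even
  exact Nat.even_iff.2 (by omega)

theorem eq_of_fix (ht : orderOf t = 2) (te : Commute t e) (ec : e • c = c) (tc : t • c = c) : t = e := by
  have p1 := parity (Δ := fixedBy Ω e) (x := t) (fun _ hx => smul_fix_of_commute te hx) fun p _ => smul_smul_two ht p
  have p2 := Nat.even_iff.1 h.even_f
  have p3 : 0 < (fixedBy Ω e ∩ fixedBy Ω t).ncard := (Set.ncard_pos (Set.toFinite _)).2 ⟨c, ec, tc⟩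
  obtain ⟨d, hd, dc⟩ := Set.exists_ne_of_one_lt_ncard (s := fixedBy Ω e ∩ fixedBy Ω t) (by omega) c
  obtain ⟨g, hg, ga, gb⟩ := h.t2.tr c ec d hd.1 a h.ea b h.eb dc.symm h.ne
  have := h.uniq (two_conj ht g) (ga ▸ conj_smul_iff.2 tc) (gb ▸ conj_smul_iff.2 hd.2)
  rw [mul_inv_eq_iff_eq_mul, ← mem_centralizer_singleton_iff.1 hg] at this
  exact mul_left_cancel this

theorem conj_w (ht : orderOf t = 2) (te : Commute t e) (ne : t ≠ e) :
    ∃ g ∈ centralizer ({e} : Set G), g * t * g⁻¹ = w ∨ g * t * g⁻¹ = w * e := by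
  obtain ⟨g, hg, ga, gb⟩ := h.t2.tr a h.ea (t • a) (smul_fix_of_commute te h.ea) a h.ea b h.eb
    (fun c => ne (h.eq_of_fix ht te h.ea c.symm)) h.ne
  have s2 := two_conj ht g
  have sa : (g * t * g⁻¹) • a = b := by rw [← gb, ← ga, mul_smul, mul_smul, inv_smul_smul, ga]
  refine ⟨g, hg, ?_⟩
  generalize g * t * g⁻¹ = s at s2 sa
  have m : w * s ∈ st2 G a b := ⟨(mul_smul _ _ _).trans (sa ▸ h.wb), (mul_smul _ _ _).trans (by
    rw [← sa, smul_smul_two s2, h.wa, sa])⟩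
  have e1 : s = w * (w * s) := by rw [← mul_assoc, mul_self_two h.w2, one_mul]
  have e2 : w * s * (w * s) = 1 := by
    have := mul_self_two s2
    rwa [e1, (h.comm_w m).mul_mul_mul_comm, mul_self_two h.w2, one_mul] at this
  by_cases c : w * s = 1
  · exact Or.inl (by rw [e1, c, mul_one])
  · exact Or.inr (by rw [e1, h.uniq (two_of e2 c) m.1 m.2])

theorem comm_kr (ht : orderOf t = 2) (te : Commute t e) (hk : k ∈ kr Ω e) : Commute t k := by
  by_cases c : t = e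
  · exact c ▸ (h.comm_e (h.kr_le hk)).symm
  obtain ⟨g, hg, r⟩ := h.conj_w ht te c
  have m : g * k * g⁻¹ ∈ kr Ω e := by
    have := (conj_mem_kr (g := g)).2 hk
    rwa [mem_centralizer_singleton_iff.1 hg, mul_inv_cancel_right] at this
  have : Commute (g * t * g⁻¹) (g * k * g⁻¹) := by
    rcases r with r | r <;> rw [r]
    exacts [(h.comm_w (h.kr_le m)).symm, (h.comm_w (h.kr_le m)).symm.mul_left (h.comm_e (h.kr_le m)).symm]
  exact (MulAut.conj g).injective (by simpa only [map_mul, MulAut.conj_apply] using this.eq)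

theorem exists_move (ec : e • c = c) (ed : e • d = d) (cd : c ≠ d) : ∃ s : G, orderOf s = 2 ∧ Commute s e ∧ s • c = d := by
  obtain ⟨g, hg, rfl, rfl⟩ := h.t2.tr a h.ea b h.eb c ec d ed h.ne cd
  have ge : Commute g e := mem_centralizer_singleton_iff.1 hg
  exact ⟨_, two_conj h.w2 g, (ge.mul_left h.we).mul_left ge.inv_left, by rw [mul_smul, mul_smul, inv_smul_smul, h.wa]⟩

end OC

/-- the involutions commuting with `e` -/
theorem OC.aff {C₀ : Subgroup G} (h : OC a b e w C₀) {B Δ : Type v} [Group B] [MulAction B Δ]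
    {π : centralizer ({e} : Set G) →* B} {ι : Δ → Ω}
    (hc : Con (centralizer {e}) (fixedBy Ω e) π ι) : HasReg B Δ ∧
    (∃ j : ℕ, (fixedBy Ω e).ncard = 2 ^ j) ∧
    (∀ c d : Ω, e • c = c → e • d = d → c ≠ d → ∃ s : G, orderOf s = 2 ∧ Commute s e ∧ s • c = d) ∧
    (∀ s : G, orderOf s = 2 → Commute s e → ∀ k ∈ kr Ω e, Commute s k) ∧
    ∀ s s' : G, orderOf s = 2 → orderOf s' = 2 → Commute s e → Commute s' e → Commute s s' := by
  have := hc.finite
  have := hc.finite_pts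
  obtain ⟨x, rfl⟩ := hc.exists_eq h.ea
  obtain ⟨y, rfl⟩ := hc.exists_eq h.eb
  have hxy : x ≠ y := fun c => h.ne (congrArg ι c)
  have mem : ∀ {s : G}, Commute s e → s ∈ centralizer ({e} : Set G) := mem_centralizer_singleton_iff.2
  have pe : π ⟨e, mem (Commute.refl e)⟩ = 1 := hc.eq_one_iff.2 fun _ hc => hc
  have eD : st2 B x y = (C₀.subgroupOf _).map π := by
    refine le_antisymm (fun β hβ => ?_) ?_
    · obtain ⟨g, rfl⟩ := hc.surj β
      obtain ⟨c, m, r | r⟩ := h.dec' (hc.mem_st2.1 hβ)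
      · exact ⟨g, (r ▸ m : g.1 ∈ C₀), rfl⟩
      · refine ⟨⟨c, mem (h.ce c m)⟩, m, ?_⟩
        rw [show g = ⟨c, mem (h.ce c m)⟩ * ⟨e, mem (Commute.refl e)⟩ from Subtype.ext r, map_mul, pe, mul_one]
    · rintro _ ⟨g, m, rfl⟩
      exact hc.mem_st2.2 (h.le m)
  have oD : Odd (Nat.card (st2 B x y)) := Odd.of_dvd_nat h.odd (eD ▸
    (card_map_dvd _ _).trans (card_comap_dvd_of_injective _ _ Subtype.val_injective))
  have ev : Even (Nat.card Δ) := hc.card_pts ▸ h.even_f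
  obtain ⟨W, hW⟩ : ∃ W, W = π ⟨w, mem h.we⟩ := ⟨_, rfl⟩
  have Wx : W • x = y := hW ▸ hc.smul_iff.2 h.wa
  have Wy : W • y = x := hW ▸ hc.smul_iff.2 h.wb
  have W2 : W * W = 1 := by rw [hW, ← map_mul, show _ * _ = (1 : centralizer {e}) from Subtype.ext (mul_self_two h.w2), map_one]
  have hr : HasReg B Δ := by
    by_contra hr
    have bg : BG B Δ x y := ⟨hc.two h.t2, ev, hxy, oD⟩
    obtain ⟨L, -, -, -, -, l1, -, -, l2, -⟩ := bg.zl_data hr (bg.main.resolve_left hr)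
    obtain ⟨⟨β, hβ⟩, b1⟩ := ne_bot_iff_exists_ne_one.1 ((one_lt_card_iff_ne_bot _).1 (lt_of_lt_of_le (by norm_num) l2))
    have i := l1 W ⟨two_of W2 fun c => hxy (by rw [← Wx, c, one_smul]), Wx⟩ β hβ
    have cm : Commute β W := by
      obtain ⟨g, m, rfl⟩ : β ∈ (C₀.subgroupOf _).map π := eD ▸ hβ.2
      exact hW ▸ (show Commute g ⟨w, _⟩ from Subtype.ext (h.cw _ m)).map π
    rw [← cm.eq, mul_inv_cancel_right] at i
    exact b1 (Subtype.ext (oc1_odd oD hβ.2 (mul_eq_one_iff_eq_inv.2 i)))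
  obtain ⟨V, r, hV, hp, tr, fr, cm, ex, cV⟩ := (hc.two h.t2).exists_reg hr x
  have := Fact.mk hp
  obtain ⟨j, hj⟩ := IsPGroup.iff_card.1 (show IsPGroup r V from fun v => ⟨1, Subtype.ext (by simpa using ex v v.2)⟩)
  obtain rfl : r = 2 := hp.even_iff.1 (Nat.even_pow.1 (hj ▸ cV ▸ ev)).1
  have WV : W ∈ V := by
    obtain ⟨v, hv, vx⟩ := tr y x
    have v2 : v * v = 1 := (sq v).symm.trans (ex v hv)
    have m : W * v ∈ st2 B x y := ⟨(mul_smul _ _ _).trans (by rw [← vx, ← mul_smul v, v2, one_smul, Wy, vx]),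
      (mul_smul _ _ _).trans (vx ▸ Wx)⟩
    have m2 : W * v * (W * v) ∈ V := by
      have := mul_mem (hV.conj_mem v hv W) hv
      rwa [inv_eq_of_mul_eq_one_right W2, mul_assoc] at this
    exact eq_inv_of_mul_eq_one_left (oc1_odd oD m (fr x _ m2 (mul_mem m m).1)) ▸ inv_mem hv
  have sV : ∀ s (hs : Commute s e), orderOf s = 2 → π ⟨s, mem hs⟩ ∈ V := fun s hs s2 => by
    by_cases c : s = e
    · subst c; exact pe ▸ one_mem V
    obtain ⟨g, hg, r⟩ := h.conj_w s2 hs c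
    suffices m : π ⟨g, hg⟩ * π ⟨s, mem hs⟩ * (π ⟨g, hg⟩)⁻¹ ∈ V by
      simpa only [inv_mul_cancel_left] using hV.mem_comm m
    rw [← map_inv, ← map_mul, ← map_mul]
    rcases r with r | r
    · rw [show (⟨g, hg⟩ * ⟨s, mem hs⟩ * ⟨g, hg⟩⁻¹ : centralizer {e}) = ⟨w, mem h.we⟩ from Subtype.ext r]
      exact hW ▸ WV
    · rw [show (⟨g, hg⟩ * ⟨s, mem hs⟩ * ⟨g, hg⟩⁻¹ : centralizer {e}) = ⟨w, mem h.we⟩ * ⟨e, mem (Commute.refl e)⟩ from
        Subtype.ext r, map_mul, pe, mul_one]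
      exact hW ▸ WV
  have kr' : ∀ g : centralizer ({e} : Set G), π g ∈ V → g.1 • ι x = ι x → g.1 ∈ kr Ω e := fun g m f =>
    mem_kr.2 (hc.eq_one_iff.1 (fr x _ m (hc.smul_iff.2 f)))
  refine ⟨hr, ⟨j, by rw [← hc.card_pts, ← cV, hj]⟩, fun c d => h.exists_move, fun s s2 se k => h.comm_kr s2 se,
    fun s s' s2 s2' se se' => ?_⟩
  have tV : π (⟨s, mem se⟩ * ⟨s', mem se'⟩) ∈ V := map_mul π _ _ ▸ mul_mem (sV s se s2) (sV s' se' s2')
  by_cases c : (s * s') • ι x = ι x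
  · exact mul_left_cancel (a := s) ((h.comm_kr s2 se (kr' _ tV c)).eq.trans (mul_assoc s s' s))
  obtain ⟨q, q2, qe, qa⟩ := h.exists_move h.ea (smul_fix_of_commute (se.mul_left se') h.ea) (Ne.symm c)
  have m : q * (s * s') ∈ kr Ω e := kr' (⟨q, mem qe⟩ * (⟨s, mem se⟩ * ⟨s', mem se'⟩))
    (map_mul π _ _ ▸ mul_mem (sV q qe q2) tV) ((mul_smul q (s * s') _).trans (qa ▸ smul_smul_two q2 (ι x)))
  have e1 : s * s' * (s * s') = q * (s * s') * (q * (s * s')) := by
    conv_lhs => rw [show s * s' = q * (q * (s * s')) by rw [← mul_assoc, mul_self_two q2, one_mul]]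
    rw [(h.comm_kr q2 qe m).symm.mul_mul_mul_comm, mul_self_two q2, one_mul]
  have e2 := (h.comm_kr s2 se (e1 ▸ mul_mem m m)).eq
  have e3 : s * s' * (s * s') = 1 := oc1_odd h.odd (e1 ▸ h.sq_mem (h.kr_le m)) (by
    calc _ = s * s' * (s * s') * s * (s' * (s * s')) := by group
      _ = s * s * (s' * (s * (s' * s') * s) * s') := by rw [← e2]; group
      _ = 1 := by simp only [mul_self_two s2, mul_self_two s2', mul_one])
  rw [mul_eq_one_iff_eq_inv, mul_inv_rev, inv_two s2, inv_two s2'] at e3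
  exact e3

end Cfsg.Agent.CY
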