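import Mathlib
import Cfsg.Agent.CY.OC1
import Cfsg.Agent.TT.Aff
import Cfsg.Agent.S1238

set_option autoImplicit false
set_option linter.unusedSectionVars false

namespace Cfsg.Agent.CY

open Subgroup MulAction Cfsg.Agent.TT Cfsg.Agent.Perm.TT Cfsg.Agent.Perm.TwoCount
open Cfsg.Agent.KS (St)
open Cfsg.Agent.Loc.PC (OneCl)
open scoped commutatorElement MatrixGroups

universe u v

variable {G : Type u} {Ω : Type v} [Group G] [MulAction G Ω] [Finite G] [Finite Ω]
  {P : Ω → Subgroup G} {p : ℕ} {a b c d x y : Ω} {g k t u v w z e : G} {N : Subgroup G}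
  {S : Set Ω}

namespace OC2

variable {C₀ : Subgroup G}

theorem conj (h : OC a b e w C₀) (g : G) :
    OC (g • a) (g • b) (g * e * g⁻¹) (g * w * g⁻¹) (C₀.map (MulAut.conj g).toMonoidHom) where
  two := h.two
  even := h.even
  nreg := h.nreg
  ne := (MulAction.injective g).ne h.ne
  e2 := two_conj h.e2 g
  ea := conj_smul_iff.2 h.ea
  eb := conj_smul_iff.2 h.eb
  third :=
    let ⟨c, h1, h2, h3⟩ := h.third
    ⟨g • c, (MulAction.injective g).ne h1, (MulAction.injective g).ne h2, conj_smul_iff.2 h3⟩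
  le := map_conj_st2 g a b ▸ map_mono h.le
  odd := by
    rw [card_map_of_injective (MulAut.conj g).injective]
    exact h.odd
  dec := fun d hd => by
    rw [← map_conj_st2] at hd
    obtain ⟨d, hd, rfl⟩ := hd
    exact (h.dec d hd).imp (fun k => ⟨d, k, rfl⟩) fun k => ⟨d * e, k, map_mul _ d e⟩
  ce := by
    rintro _ ⟨c, hc, rfl⟩
    exact (h.ce c hc).map (MulAut.conj g)
  w2 := two_conj h.w2 g
  wa := by simp [mul_smul, h.wa]
  cw := by
    rintro _ ⟨c, hc, rfl⟩
    exact (h.cw c hc).map (MulAut.conj g)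

theorem aff (h : OC a b e w C₀) :
    (∀ c d : Ω, e • c = c → e • d = d → c ≠ d → ∃ s : G, orderOf s = 2 ∧ Commute s e ∧ s • c = d) ∧
    (∀ s : G, orderOf s = 2 → Commute s e → ∀ k ∈ kr Ω e, Commute s k) ∧
    ∀ s s' : G, orderOf s = 2 → orderOf s' = 2 → Commute s e → Commute s' e → Commute s s' := by
  obtain ⟨B, Δ, _, _, π, ι, hc⟩ := exists_con _ _ h.t2.inv
  exact (h.aff hc).2.2

theorem eq_pow (h : OC a b e w C₀) (hk : k ∈ C₀) : ∃ n : ℕ, k = (k * k) ^ n := by
  obtain ⟨n, hn⟩ := h.odd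
  have : k ^ (2 * n + 1) = 1 := by
    rw [← hn]
    exact congrArg Subtype.val (pow_card_eq_one' (x := (⟨k, hk⟩ : C₀)))
  exact ⟨n + 1, by rw [← sq, ← pow_mul, show 2 * (n + 1) = 2 * n + 1 + 1 by ring, pow_succ, this, one_mul]⟩

theorem odd_two (h : OC a b e w C₀) (hk : k ∈ C₀) {n : ℕ} (hn : k ^ 2 ^ n = 1) : k = 1 := by
  induction n generalizing k with
  | zero => simpa using hn
  | succ n ih =>
    obtain ⟨m, hm⟩ := eq_pow h hk
    rw [hm, ih (mul_mem hk hk) (by rw [← sq, ← pow_mul, ← pow_succ', hn]), one_pow]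

theorem comm_e (h : OC a b e w C₀) (hk : k ∈ st2 G a b) : Commute k e := by
  rcases h.dec k hk with h1 | h1
  · exact h.ce k h1
  · simpa [mul_assoc, mul_self_two h.e2] using (h.ce _ h1).mul_left (Commute.refl e)

theorem two_el (h : OC a b e w C₀) (hk : k ∈ st2 G a b) {n : ℕ} (hn : k ^ 2 ^ n = 1) : k = 1 ∨ k = e := by
  refine (h.dec k hk).imp (fun h1 => odd_two h h1 hn) fun h1 => ?_
  have := odd_two h h1 (n := n + 1) (by
    rw [(comm_e h hk).mul_pow, pow_succ, pow_mul, hn, one_pow, one_mul, mul_comm, pow_mul, sq, mul_self_two h.e2, one_pow])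
  rw [eq_inv_of_mul_eq_one_left this, inv_two h.e2]

theorem kr_odd (h : OC a b e w C₀) (hk : k ∈ C₀) (hk' : k ∈ kr Ω e) : k = 1 := by
  refine h.two.faith k fun c => ?_
  by_cases hc : e • c = c
  · exact mem_kr.1 hk' c hc
  obtain ⟨g, h1, h2⟩ := h.two.two h.ne (Ne.symm hc)
  have h' := conj h g
  rw [h1, h2] at h'
  generalize g * e * g⁻¹ = s at h'
  have es : Commute e s := mul_inv_eq_iff_eq_mul.1 (h'.uniq (two_conj h'.e2 e)
    (by rw [conj_smul_iff', inv_two h.e2]; exact h'.eb) (conj_smul_iff.2 h'.ea))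
  have ks := ((aff h).2.1 s h'.e2 es.symm k hk').symm
  by_contra hne
  obtain ⟨s', o, c1, c2⟩ := (aff h').1 c (k • c) h'.ea (smul_fix_of_commute ks h'.ea) (Ne.symm hne)
  have c3 := (aff h).2.1 s' o ((aff h').2.2 s' e o h.e2 c1 es) k hk'
  have c4 : k * k ∈ stabilizer G c := by
    show (k * k) • c = c
    rw [mul_smul]
    conv_lhs => rw [← c2, ← mul_smul, ← c3.eq, mul_smul, ← c2, smul_smul_two o]
  obtain ⟨n, hn⟩ := eq_pow h hk
  exact hne (hn ▸ pow_mem c4 n : k ∈ stabilizer G c)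

theorem kr_le (h : OC a b e w C₀) (hk : k ∈ kr Ω e) : k = 1 ∨ k = e :=
  (h.dec k ⟨mem_kr.1 hk a h.ea, mem_kr.1 hk b h.eb⟩).imp (fun h1 => kr_odd h h1 hk) fun h1 => by
    rw [eq_inv_of_mul_eq_one_left (kr_odd h h1 (mul_mem hk (self_mem_kr e))), inv_two h.e2]

theorem mem_zp (h : k = 1 ∨ k = e) : k ∈ zpowers e := by
  rcases h with rfl | rfl
  exacts [one_mem _, mem_zpowers _]

theorem ln (h : OC a b e w C₀) : Ln G Ω a b e where
  two := h.two
  even := h.even
  ne := h.ne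
  ord := h.e2
  ta := h.ea
  tb := h.eb
  uniq := fun _ h1 h2 h3 => h.uniq h1 h2 h3
  third := h.third
  cyc := fun Q hQ hp => isCyclic_of_le (H' := zpowers e) fun x hx =>
    let ⟨n, hn⟩ := hp ⟨x, hx⟩
    mem_zp (two_el h (hQ hx) (n := n) (congrArg Subtype.val hn))
  kcyc := isCyclic_of_le (H' := zpowers e) fun _ hx => mem_zp (kr_le h hx)
  kcomm := fun k hk d hd => by
    rcases kr_le h hk with rfl | rfl
    exacts [Commute.one_left d, (comm_e h hd).symm]
  inv1 := fun d hd _ _ h1 _ h2 _ => by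
    have : d ^ 2 ^ 2 = 1 := by
      rw [show 2 ^ 2 = 2 * 2 from rfl, pow_mul, sq, sq]
      rcases kr_le h h2 with k | k <;> rw [k]
      exacts [one_mul 1, mul_self_two h.e2]
    rcases two_el h hd this with rfl | rfl
    exacts [absurd (one_mem _) h1, absurd (self_mem_kr _) h1]

end OC2

theorem OC.main {C₀ : Subgroup G} (h : OC a b e w C₀) (hk : k ∈ C₀) (hc : c ≠ a) (hc' : c ≠ b)
    (kc : k • c = c) : k = 1 := by
  obtain ⟨B, Δ, _, _, π, ι, hcon⟩ := exists_con _ _ h.t2.inv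
  rcases (OC2.ln h).out_of_aff hcon (h.aff hcon).1 with h1 | ⟨-, h1 | h1⟩
  · exact absurd h1 h.nreg
  · exfalso
    obtain ⟨x, xa, xb, ex⟩ := h.third
    obtain ⟨s, o, c1, c2⟩ := (OC2.aff h).1 a b h.ea h.eb h.ne
    obtain ⟨s', o', c1', c2'⟩ := (OC2.aff h).1 a x h.ea ex xa.symm
    have := S1238.eq_mul h1.1 h.e2 o (fun q => h.ne (by rw [← c2, q, h.ea])) c1.symm o' c1'.symm
      ((OC2.aff h).2.2 s s' o o' c1 c1') (fun q => xa (by rw [← c2', q, h.ea])) fun q => xb (by rw [← c2', q, c2])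
    exact xb (by rw [← c2', this, mul_smul, c2, h.eb])
  · by_contra h2
    have := h1.1 k (h.le hk) h2 c hc hc' kc
    exact h2 (OC2.odd_two h hk (n := 1) (by rw [this, pow_one, sq, mul_self_two h.e2]))

end Cfsg.Agent.CY
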