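import Mathlib
import Cfsg.Agent.CY.Cst

set_option autoImplicit false
set_option linter.unusedSectionVars false

namespace Cfsg.Agent.CY

open Subgroup MulAction Cfsg.Agent.TT Cfsg.Agent.Perm.TT Cfsg.Agent.Perm.TwoCount
open Cfsg.Agent.KS (St)
open Cfsg.Agent.Loc.PC (OneCl)
open scoped commutatorElement MatrixGroups

universe u v

variable {G : Type u} {Ω : Type v} [Group G] [MulAction G Ω] [Finite G] [Finite Ω]
  {P : Ω → Subgroup G} {p : ℕ} {a b c d x y : Ω} {g k t u v w z e : G} {N : Subgroup G}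
  {S : Set Ω}

namespace Cx

variable (h : Cx P p)
include h

theorem ncard_ln (hab : a ≠ b) : (ln P a b).ncard = p + 1 := by
  obtain ⟨w, z, hl⟩ := h.lx a b hab
  exact hl.card

theorem ncard_ln_sdiff (hab : a ≠ b) (hc : c ∈ ln P a b) : (ln P a b \ {c}).ncard = p := by
  rw [Set.ncard_sdiff_singleton_of_mem hc, h.ncard_ln hab, Nat.add_sub_cancel]

theorem odd_p : Odd p := h.cy.prime.odd_of_ne_two h.cy.ne_two

theorem smul_ne (hu : u • a = a) (hc : c ≠ a) : u • c ≠ a := fun e =>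
  hc (smul_left_cancel u (e.trans hu.symm))

theorem mem_ln_iff (hab : a ≠ b) : c ∈ ln P a b ↔ c = a ∨ ∃ u ∈ P a, u • b = c := by
  have hsub : (fun u : G => u • b) '' (P a : Set G) ⊆ ln P a b \ {a} := by
    rintro _ ⟨u, hu, rfl⟩
    exact ⟨KS.St.smul_mem (h.cy.P_le_St h.cy.left_mem_ln hu) right_mem_ln,
      h.smul_ne (h.cy.fix a u hu) hab.symm⟩
  have hc : ((fun u : G => u • b) '' (P a : Set G)).ncard = p := by
    rw [Set.InjOn.ncard_image, ← Nat.card_coe_set_eq]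
    · exact h.cy.card a
    · intro u hu v hv e
      have e' : u • b = v • b := e
      have := h.cy.semi (mul_mem (inv_mem hv) hu) hab.symm (by rw [mul_smul, e', inv_smul_smul])
      exact (inv_mul_eq_one.1 this).symm
  have he := Set.eq_of_subset_of_ncard_le hsub
    (by rw [hc, h.ncard_ln_sdiff hab h.cy.left_mem_ln])
  refine ⟨fun hm => ?_, ?_⟩
  · by_cases e : c = a
    · exact Or.inl e
    · exact Or.inr (he.symm.subset ⟨hm, e⟩)
  · rintro (rfl | ⟨u, hu, rfl⟩)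
    · exact h.cy.left_mem_ln
    · exact (hsub ⟨u, hu, rfl⟩).1

theorem ln_sub (hab : a ≠ b) (ha : a ∈ S) (hb : b ∈ S) (hS : ∀ u ∈ P a, ∀ c ∈ S, u • c ∈ S) :
    ln P a b ⊆ S := by
  intro c hc
  rcases (h.mem_ln_iff hab).1 hc with rfl | ⟨u, hu, rfl⟩
  · exact ha
  · exact hS u hu b hb

theorem exists_third (hab : a ≠ b) : ∃ c ∈ ln P a b, c ≠ a ∧ c ≠ b := by
  obtain ⟨u, hu, h1⟩ := h.cy.exists_ne_one a
  exact ⟨u • b, (h.mem_ln_iff hab).2 (Or.inr ⟨u, hu, rfl⟩), h.smul_ne (h.cy.fix a u hu) hab.symm,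
    fun e => h1 (h.cy.semi hu hab.symm e)⟩

theorem P_le_HH (hab : a ≠ b) (hc : c ∈ ln P a b) : P c ≤ HH P a b := by
  rcases (h.mem_ln_iff hab).1 hc with rfl | ⟨u, hu, rfl⟩
  · exact le_sup_left
  · intro v hv
    have e : v = u * (u⁻¹ * v * u) * u⁻¹ := by group
    have h1 : u⁻¹ * v * u ∈ P b := h.cy.conj_iff.1 (e ▸ hv)
    have hu' : u ∈ HH P a b := (le_sup_left : P a ≤ P a ⊔ P b) hu
    rw [e]
    exact mul_mem (mul_mem hu' ((le_sup_right : P b ≤ P a ⊔ P b) h1)) (inv_mem hu')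

theorem t2_HH' (hab : a ≠ b) : T2 (HH P a b) (ln P a b) := by
  refine h.cy.t2_of (fun g hg c hc => KS.St.smul_mem (h.cy.HH_le_St hg) hc)
    (fun x hx => h.P_le_HH hab hx) h.cy.left_mem_ln fun c hc d hd ca da => ?_
  obtain ⟨u, hu, rfl⟩ := ((h.mem_ln_iff hab).1 hc).resolve_left ca
  obtain ⟨v, hv, rfl⟩ := ((h.mem_ln_iff hab).1 hd).resolve_left da
  have := mul_mem hv (inv_mem hu)
  exact ⟨v * u⁻¹, (le_sup_left : P a ≤ P a ⊔ P b) this, h.cy.fix a _ this, by simp [mul_smul]⟩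

theorem HH_eq (hab : a ≠ b) (hc : c ∈ ln P a b) (hd : d ∈ ln P a b) (hcd : c ≠ d) :
    HH P c d = HH P a b := by
  obtain ⟨g, hg, rfl, rfl⟩ := (h.t2_HH' hab).tr a h.cy.left_mem_ln b right_mem_ln c hc d hd hab hcd
  ext k
  have e : k = g * (g⁻¹ * k * g) * g⁻¹ := by group
  rw [e, h.cy.conj_HH, ← e]
  exact (mul_mem_cancel_right hg).trans (mul_mem_cancel_left (inv_mem hg))

theorem St_norm_HH (hab : a ≠ b) (hg : g ∈ St G (ln P a b)) (hk : k ∈ HH P a b) :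
    g * k * g⁻¹ ∈ HH P a b := by
  rw [← h.HH_eq hab (KS.St.smul_mem hg h.cy.left_mem_ln) (KS.St.smul_mem hg right_mem_ln)
    fun e => hab (smul_left_cancel g e)]
  exact h.cy.conj_HH.2 hk

theorem t2_HH (hab : a ≠ b) : T2 (HH P a b) (ln P a b) :=
  h.t2_HH' hab

theorem mem_CC_of_ln (hab : a ≠ b) (hg : g ∈ st2 G a b) (hc : c ∈ ln P a b) (ca : c ≠ a)
    (cb : c ≠ b) (gc : g • c = c) : g ∈ CC P a b := by
  obtain ⟨u, hu, rfl⟩ := ((h.mem_ln_iff hab).1 hc).resolve_left ca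
  exact ⟨h.cy.mem_CP_of_three hg.1 hab.symm hg.2 hu (by rintro rfl; exact cb (one_smul _ _)) gc,
    hg.2⟩

theorem St_dec (hab : a ≠ b) (hg : g ∈ St G (ln P a b)) (hk : g ∈ CP P a) :
    ∃ u ∈ P a, ∃ c ∈ CC P a b, g = u * c := by
  obtain ⟨u, hu, e⟩ := ((h.mem_ln_iff hab).1 (KS.St.smul_mem hg right_mem_ln)).resolve_left
    (h.smul_ne (h.cy.CP_fix hk) hab.symm)
  refine ⟨u, hu, u⁻¹ * g, mem_CC.2 ⟨mul_mem (inv_mem (h.cy.P_le_CP a hu)) hk, ?_⟩, by group⟩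
  rw [mul_smul, ← e, inv_smul_smul]

theorem th_mul (hab : a ≠ b) (ga : g • a = a) (gb : g • b = b) {i j : ℕ}
    (hi : ∀ u ∈ P a, g * u * g⁻¹ = u ^ i) (hj : ∀ u ∈ P b, g * u * g⁻¹ = u ^ j) :
    (i : ZMod p) * j = 1 := by
  obtain ⟨w, z, hl⟩ := h.lx a b hab
  obtain ⟨u, hu, h1⟩ := h.cy.exists_ne_one a
  have hs := (mem_CP.1 (hl.sign w hl.wa hl.wb g ⟨ga, gb⟩).1 u hu).eq
  have h2 : w⁻¹ * u * w ∈ P b := by
    refine (h.cy.conj_iff (g := w)).1 ?_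
    rw [hl.wb, show w * (w⁻¹ * u * w) * w⁻¹ = u by group]
    exact hu
  have h3 : (w * g * w⁻¹) * u * (w * g * w⁻¹)⁻¹ = u ^ j := by
    have := hj _ h2
    rw [show w⁻¹ * u * w = w⁻¹ * u * w⁻¹⁻¹ by group, conj_pow] at this
    calc _ = w * (g * (w⁻¹ * u * w⁻¹⁻¹) * g⁻¹) * w⁻¹ := by group
      _ = _ := by rw [this]; group
  have h4 : u ^ (j * i) = u ^ 1 := by
    rw [pow_mul, ← h3, conj_pow, ← hi u hu, pow_one]
    calc _ = (w * g * w⁻¹ * g) * u * (w * g * w⁻¹ * g)⁻¹ := by group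
      _ = u := by rw [← hs]; group
  rw [pow_eq_pow_iff_modEq, h.cy.ord hu h1, ← ZMod.natCast_eq_natCast_iff] at h4
  push_cast at h4
  rw [mul_comm, h4]

theorem sq_mem (hab : a ≠ b) (hg : g ∈ st2 G a b) (ca : c ≠ a) (cb : c ≠ b) (gc : g • c = c) :
    g * g ∈ CC P a b := by
  obtain ⟨i, -, hi⟩ := h.cy.exists_th (x := a) hg.1
  obtain ⟨j, -, hj⟩ := h.cy.exists_th (x := b) hg.2
  obtain ⟨k, -, hk⟩ := h.cy.exists_th gc
  have h1 := h.th_mul hab hg.1 hg.2 hi hj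
  have h2 := h.th_mul cb.symm hg.2 gc hj hk
  have h3 := h.th_mul ca gc hg.1 hk hi
  have h4 : ((i * i : ℕ) : ZMod p) = (1 : ℕ) := by
    push_cast
    linear_combination (-(i : ZMod p) * i) * h2 + ((k : ZMod p) * i) * h1 + h3
  refine mem_CC.2 ⟨mem_CP.2 fun u hu => ?_, by rw [mul_smul, show g • b = b from hg.2]; exact hg.2⟩
  by_cases e : u = 1
  · exact e ▸ Commute.one_left _
  rw [ZMod.natCast_eq_natCast_iff, ← h.cy.ord hu e, ← pow_eq_pow_iff_modEq, pow_mul, pow_one,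
    ← hi u hu, conj_pow, ← hi u hu] at h4
  exact (calc u * (g * g) = g * (g * u * g⁻¹) * g⁻¹ * (g * g) := by rw [h4]
    _ = g * g * u := by group)

theorem z_mem_Tor (hl : LX P p a b w z) : z ∈ Tor P a b :=
  ⟨hl.wsq ▸ mul_mem hl.wH hl.wH, h.cy.CC_le hl.zC⟩

theorem relIndex_Tor (hl : LX P p a b w z) : 2 * (CC P a b).relIndex (Tor P a b) + 1 = p := by
  have h1 := ((CC P a b).subgroupOf (Tor P a b)).index_mul_card
  rw [← inf_subgroupOf_right, Nat.card_congr (subgroupOfEquivOfLe inf_le_right).toEquiv,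
    inf_subgroupOf_right] at h1
  have h2 : CC P a b ⊓ Tor P a b = zpowers z := by
    refine le_antisymm (fun k hk => ?_)
      (zpowers_le.2 (mem_inf.2 ⟨hl.zC, h.z_mem_Tor hl⟩))
    rcases hl.hc k hk.2.1 hk.1 with rfl | rfl
    · exact one_mem _
    · exact mem_zpowers _
  rw [h2, Nat.card_zpowers] at h1
  rw [relIndex]
  by_cases e : z = 1
  · have := hl.card1 e
    rw [e, orderOf_one] at h1
    omega
  · have := hl.card2 e
    rw [two_of hl.zsq e] at h1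
    omega

theorem dec (hab : a ≠ b) (hl : LX P p a b w z) :
    (∀ g ∈ st2 G a b, ∃ t ∈ Tor P a b, ∃ c ∈ CC P a b, g = t * c) ∨ ∃ s ∈ st2 G a b,
      (∀ t ∈ Tor P a b, ∀ c ∈ CC P a b, s ≠ t * c) ∧ ∀ g ∈ st2 G a b, ∃ t ∈ Tor P a b,
        ∃ c ∈ CC P a b, g = t * c ∨ g = t * c * s := by
  have hn : ((CC P a b).subgroupOf (st2 G a b)).Normal :=
    ⟨fun k hk g => h.cy.St_norm hab (h.cy.st2_le_St hab g.2) hk⟩
  set K := (Tor P a b).subgroupOf (st2 G a b) ⊔ (CC P a b).subgroupOf (st2 G a b) with hK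
  have hm : ∀ g : st2 G a b, g ∈ K ↔ ∃ t ∈ Tor P a b, ∃ c ∈ CC P a b, (g : G) = t * c := by
    intro g
    rw [hK, mem_sup_of_normal_right]
    exact ⟨fun ⟨t, ht, c, hc, e⟩ => ⟨t, ht, c, hc, e ▸ rfl⟩, fun ⟨t, ht, c, hc, e⟩ =>
      ⟨⟨t, ht.2⟩, ht, ⟨c, h.cy.CC_le hc⟩, hc, Subtype.ext e.symm⟩⟩
  have hi : K.index ∣ 2 := by
    obtain ⟨m, hm, hc⟩ := h.cy.card_st2 a b
    have h1 := ((CC P a b).subgroupOf (st2 G a b)).index_mul_card
    rw [Nat.card_congr (subgroupOfEquivOfLe h.cy.CC_le).toEquiv, hc] at h1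
    have h2 := relIndex_mul_index
      (le_sup_right : (CC P a b).subgroupOf (st2 G a b) ≤ (Tor P a b).subgroupOf _ ⊔ _)
    rw [relIndex_sup_right, relIndex_subgroupOf (show Tor P a b ≤ st2 G a b from inf_le_right),
      ← hK,
      Nat.eq_of_mul_eq_mul_right Nat.card_pos h1] at h2
    have h3 := h.relIndex_Tor hl
    have h4 := h.cy.three_le
    rw [← h2, show p - 1 = (CC P a b).relIndex (Tor P a b) * 2 by omega] at hm
    exact Nat.dvd_of_mul_dvd_mul_left (by omega) hm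
  obtain ⟨s, hs⟩ := index_dvd_two_iff.1 hi
  by_cases e : s ∈ K
  · exact Or.inl fun g hg => (hm ⟨g, hg⟩).1 ((hs ⟨g, hg⟩).elim (mul_mem_cancel_right e).1 id)
  · refine Or.inr ⟨(s⁻¹ : st2 G a b), (s⁻¹).2, fun t ht c hc e' =>
      e (inv_mem_iff.1 ((hm _).2 ⟨t, ht, c, hc, e'⟩)), fun g hg => ?_⟩
    rcases hs ⟨g, hg⟩ with h1 | h1
    · obtain ⟨t, ht, c, hc, e'⟩ := (hm _).1 h1
      exact ⟨t, ht, c, hc, Or.inr (by rw [← e']; simp)⟩
    · obtain ⟨t, ht, c, hc, e'⟩ := (hm _).1 h1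
      exact ⟨t, ht, c, hc, Or.inl e'⟩

theorem zl_sq (hab : a ≠ b) (hz : Zl P a b z) : orderOf z = 2 := by
  obtain ⟨w, z', hl⟩ := h.lx a b hab
  obtain rfl := (hl.hc z hz.1 hz.2.1).resolve_left hz.2.2
  exact two_of hl.zsq hz.2.2

theorem zl_uniq (hab : a ≠ b) (hz : Zl P a b z) (hk : k ∈ HH P a b) (hk' : k ∈ CC P a b) :
    k = 1 ∨ k = z := by
  obtain ⟨w, z', hl⟩ := h.lx a b hab
  obtain rfl := (hl.hc z hz.1 hz.2.1).resolve_left hz.2.2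
  exact hl.hc k hk hk'

theorem zl_eq (hl : LX P p a b w z) {z' : G} (hz : Zl P a b z') : z = z' :=
  ((hl.hc z' hz.1 hz.2.1).resolve_left hz.2.2).symm

theorem zl_conj (hz : Zl P a b z) (g : G) : Zl P (g • a) (g • b) (g * z * g⁻¹) :=
  ⟨h.cy.conj_HH.2 hz.1, h.cy.conj_CC.2 hz.2.1, fun e => hz.2.2 (conj_eq_one_iff.1 e)⟩

theorem zl_all (hab : a ≠ b) (hz : Zl P a b z) (hcd : c ≠ d) : ∃ z', IsConj z z' ∧ Zl P c d z' := by
  obtain ⟨g, rfl, rfl⟩ := h.cy.two.two hab hcd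
  exact ⟨_, isConj_iff.2 ⟨g, rfl⟩, h.zl_conj hz g⟩

theorem zl_of_mem (hab : a ≠ b) (hz : Zl P a b z) (hc : c ∈ ln P a b) (hd : d ∈ ln P a b)
    (hcd : c ≠ d) : Zl P c d z := by
  rw [Zl, h.HH_eq hab hc hd hcd, h.cy.CC_eq hab hc hd hcd]
  exact hz

theorem zl_comm (hab : a ≠ b) (hz : Zl P a b z) (hg : g ∈ St G (ln P a b)) : Commute g z := by
  have := (h.zl_uniq hab hz (h.St_norm_HH hab hg hz.1) (h.cy.St_norm hab hg hz.2.1)).resolve_left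
    fun e => hz.2.2 (conj_eq_one_iff.1 e)
  exact mul_inv_eq_iff_eq_mul.1 this

theorem mem_CC_two (hab : a ≠ b) (hg : g ∈ CP P x) (h2 : g * g = 1) (hs : g ∈ St G (ln P a b))
    (hc : c ∈ ln P a b) (gc : g • c = c) : g ∈ CC P a b := by
  obtain ⟨d, hd, gd⟩ := exists_fix (Δ := ln P a b \ {c}) (x := g)
    (fun d hd => ⟨KS.St.smul_mem hs hd.1, h.smul_ne gc hd.2⟩)
    (fun d _ => by rw [← mul_smul, h2, one_smul]) (by rw [h.ncard_ln_sdiff hab hc]; exact h.odd_p)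
  rw [← h.cy.CC_eq hab hc hd.1 (Ne.symm hd.2)]
  exact h.cy.mem_CC_of_CP hg gc gd

theorem le_CC_two (hab : a ≠ b) {R : Subgroup G} (hR : IsPGroup 2 R) (h1 : R ≤ CP P a)
    (hs : R ≤ St G (ln P a b)) : R ≤ CC P a b := by
  have : Fact (Nat.Prime 2) := ⟨Nat.prime_two⟩
  obtain ⟨d, hd, gd⟩ := Perm.Fx.exists_fixed_of_not_dvd hR (ln P a b \ {a})
    (fun g hg d hd => ⟨KS.St.smul_mem (hs hg) hd.1, h.smul_ne (h.cy.CP_fix (h1 hg)) hd.2⟩)
    (by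
      rw [Nat.card_coe_set_eq, h.ncard_ln_sdiff hab h.cy.left_mem_ln]
      exact h.odd_p.not_two_dvd_nat)
  rw [← h.cy.CC_eq hab h.cy.left_mem_ln hd.1 (Ne.symm hd.2)]
  exact fun g hg => ⟨h1 hg, gd g hg⟩

theorem t2_parity (hN : ∀ g ∈ N, ∀ c ∈ S, g • c ∈ S) (hP : ∀ x ∈ S, P x ≤ N) (ha : a ∈ S)
    (ht : ∀ c ∈ S, c ≠ a → ∃ R ≤ N, IsPGroup 2 R ∧ R ≤ CC P a c ∧
      ∀ d ∈ S, (∀ g ∈ R, g • d = d) → d ∈ ln P a c) : T2 N S := by
  have : Fact (Nat.Prime 2) := ⟨Nat.prime_two⟩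
  have key : ∀ c ∈ S, ∀ d ∈ S, c ≠ a → Nat.card {e | ∃ g ∈ N, g • a = a ∧ g • d = e} ≡
      Nat.card {e | (∃ g ∈ N, g • a = a ∧ g • d = e) ∧ e ∈ ln P a c} [MOD 2] := by
    intro c hc d hd ca
    obtain ⟨R, h1, h2, h3, h4⟩ := ht c hc ca
    have := Perm.Fx.card_modEq_card_fixed h2 {e | ∃ g ∈ N, g • a = a ∧ g • d = e} (by
      rintro r hr _ ⟨g, hg, ga, rfl⟩
      exact ⟨r * g, mul_mem (h1 hr) hg, by rw [mul_smul, ga, h.cy.CP_fix (h3 hr).1], mul_smul _ _ _⟩)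
    convert this using 3
    ext e
    refine and_congr_right ?_
    rintro ⟨g, hg, -, rfl⟩
    exact ⟨fun he r hr => he r (h3 hr), h4 _ (hN g hg d hd)⟩
  refine h.cy.t2_of hN hP ha fun c hc d hd ca da => ?_
  by_contra hne
  have h1 := key c hc d hd ca
  have h2 := key d hd d hd da
  have e1 : {e | (∃ g ∈ N, g • a = a ∧ g • d = e) ∧ e ∈ ln P a c} = ∅ := by
    refine Set.eq_empty_of_forall_notMem ?_
    rintro _ ⟨⟨g, hg, ga, rfl⟩, he⟩
    obtain ⟨u, hu, e⟩ := ((h.mem_ln_iff ca.symm).1 he).resolve_left (h.smul_ne ga da)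
    refine hne ⟨g⁻¹ * u, mul_mem (inv_mem hg) (hP a ha hu), ?_, by rw [mul_smul, e, inv_smul_smul]⟩
    rw [mul_smul, h.cy.fix a u hu, inv_smul_eq_iff, ga]
  have e2 : {e | (∃ g ∈ N, g • a = a ∧ g • d = e) ∧ e ∈ ln P a d} = ln P a d \ {a} := by
    ext e
    refine ⟨?_, fun he => ⟨?_, he.1⟩⟩
    · rintro ⟨⟨g, hg, ga, rfl⟩, he⟩
      exact ⟨he, h.smul_ne ga da⟩
    · obtain ⟨u, hu, e⟩ := ((h.mem_ln_iff da.symm).1 he.1).resolve_left he.2
      exact ⟨u, hP a ha hu, h.cy.fix a u hu, e⟩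
  rw [e1] at h1
  rw [e2] at h2
  have h3 := h1.symm.trans h2
  rw [Nat.card_coe_set_eq, Nat.card_coe_set_eq, h.ncard_ln_sdiff da.symm h.cy.left_mem_ln,
    Set.ncard_empty, Nat.ModEq, Nat.odd_iff.1 h.odd_p] at h3
  omega

theorem P_le_cent (hk : k ∈ CP P a) (hc : k • c = c) : P c ≤ centralizer {k} :=
  fun u hu =>
  mem_centralizer_singleton_iff.2 (mem_CP.1 (h.cy.CP_of_fix hk hc) u hu).eq

theorem t2_torus (ht : Tt P) (hk : k ∈ CP P a) : T2 (centralizer ({k} : Set G)) (fixedBy Ω k) := by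
  obtain ⟨a', b', hab, x, hx, r, n, hr, hn, hf⟩ := ht
  refine h.cy.t2_gleason
    (fun g hg c hc => smul_fix_of_commute (mem_centralizer_singleton_iff.1 hg) hc)
    (fun c hc => h.P_le_cent hk hc) (h.cy.CP_fix hk) hr fun c hc ca => ?_
  obtain ⟨g, rfl, rfl⟩ := h.cy.two.two hab ca.symm
  have h1 := (h.cy.conj_Tor (g := g)).2 hx
  refine ⟨zpowers (g * x * g⁻¹), zpowers_le.2 (mem_centralizer_singleton_iff.2
    (h.cy.HH_comm h1.1 ⟨hk, hc⟩).eq), ?_, zpowers_le.2 h1.2, fun d _ hd => ?_⟩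
  · rintro ⟨_, i, rfl⟩
    refine ⟨n, Subtype.ext ?_⟩
    change ((g * x * g⁻¹) ^ i) ^ r ^ n = 1
    rw [← zpow_natCast, ← zpow_mul, mul_comm i, zpow_mul, zpow_natCast, conj_pow, hn]
    simp
  · have := hf _ (conj_smul_iff'.1 (hd _ (mem_zpowers _)))
    rwa [inv_smul_eq_iff, inv_smul_eq_iff] at this

theorem tor_fix (hab : a ≠ b) (ht : t ∈ st2 G a b) (h2 : t * t ∉ CC P a b) (hc : t • c = c) :
    c = a ∨ c = b := by
  by_contra e
  push Not at e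
  exact h2 (h.sq_mem hab ht e.1 e.2 hc)

theorem exists_ord (hl : LX P p a b w z) {r : ℕ} (hr : r ∣ Nat.card (Tor P a b)) :
    ∃ x ∈ Tor P a b, orderOf x = r := by
  have := hl.cyc
  obtain ⟨τ, hτ⟩ := IsCyclic.exists_ofOrder_eq_natCard (α := Tor P a b)
  rw [← hτ] at hr
  exact ⟨_, (τ ^ (orderOf τ / r)).2, by
    rw [Subgroup.orderOf_coe, orderOf_pow_orderOf_div (orderOf_pos τ).ne' hr]⟩

theorem half_dvd (hl : LX P p a b w z) : (p - 1) / 2 ∣ Nat.card (Tor P a b) := by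
  by_cases e : z = 1
  · have := hl.card1 e
    exact ⟨1, by omega⟩
  · have := hl.card2 e
    have := Nat.odd_iff.1 h.odd_p
    exact ⟨2, by omega⟩

theorem ord_dvd (hl : LX P p a b w z) (ht : t ∈ Tor P a b) (hc : t ∈ CC P a b) : t * t = 1 := by
  rcases hl.hc t ht.1 hc with rfl | rfl
  · exact mul_one _
  · exact hl.zsq

theorem tt_of_seven (h7 : 7 ≤ p) : Tt P := by
  obtain ⟨a⟩ : Nonempty Ω := by
    by_contra e
    exact h.nreg ⟨⊥, inferInstance, fun x => (e ⟨x⟩).elim, fun x => (e ⟨x⟩).elim⟩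
  obtain ⟨b, hb⟩ := h.cy.exists_ne a
  obtain ⟨w, z, hl⟩ := h.lx a b hb.symm
  have key : ∀ r n : ℕ, r.Prime → r ^ n ∣ Nat.card (Tor P a b) →
      (∀ x ∈ Tor P a b, x * x ∈ CC P a b → orderOf x ≠ r ^ n) → Tt P := by
    intro r n hr h1 h2
    obtain ⟨x, hx, e⟩ := h.exists_ord hl h1
    exact ⟨a, b, hb.symm, x, hx, r, n, hr, e ▸ pow_orderOf_eq_one x,
      fun c hc => h.tor_fix hb.symm hx.2 (fun h3 => h2 x hx h3 e) hc⟩
  have h4 : ∀ x ∈ Tor P a b, x * x ∈ CC P a b → orderOf x ∣ 4 := fun x hx h2 =>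
    orderOf_dvd_of_pow_eq_one (by
      rw [← h.ord_dvd hl (mul_mem hx hx) h2, pow_succ, pow_three']; group)
  obtain h1 | ⟨r, hr, h1, h2⟩ :=
    Nat.four_dvd_or_exists_odd_prime_and_dvd_of_two_lt (show 2 < (p - 1) / 2 by omega)
  · by_cases e : z = 1
    · refine key 2 2 Nat.prime_two (h1.trans (h.half_dvd hl)) fun x hx h2 h3 => ?_
      have h5 : x ^ 2 = 1 := by
        rw [sq]
        exact (hl.hc _ (mul_mem hx.1 hx.1) h2).elim id fun h5 => h5.trans e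
      have := Nat.le_of_dvd two_pos (h3 ▸ orderOf_dvd_of_pow_eq_one h5)
      omega
    · have := hl.card2 e
      have := Nat.odd_iff.1 h.odd_p
      refine key 2 3 Nat.prime_two (by omega) fun x hx h2 h3 => ?_
      have := Nat.le_of_dvd four_pos (h3 ▸ h4 x hx h2)
      omega
  · refine key r 1 hr (by rw [pow_one]; exact h1.trans (h.half_dvd hl)) fun x hx h3 h5 => ?_
    have h6 := h4 x hx h3
    rw [h5, pow_one, show 4 = 2 ^ 2 from rfl] at h6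
    obtain rfl := (Nat.prime_dvd_prime_iff_eq hr Nat.prime_two).1 (hr.dvd_of_dvd_pow h6)
    exact absurd h2 (by decide)

theorem exists_odd (hab : a ≠ b) (h7 : 7 ≤ p) (h4 : p % 4 = 3 ∨ p % 8 = 5) :
    ∃ x ∈ Tor P a b, ∃ r : ℕ, r.Prime ∧ r ≠ 2 ∧ orderOf x = r ∧ r ∣ p - 1 ∧ x ∉ CC P a b := by
  obtain ⟨w, z, hl⟩ := h.lx a b hab
  obtain h1 | ⟨r, hr, h1, h2⟩ :=
    Nat.four_dvd_or_exists_odd_prime_and_dvd_of_two_lt (show 2 < (p - 1) / 2 by omega)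
  · omega
  obtain ⟨x, hx, e⟩ := h.exists_ord hl (h1.trans (h.half_dvd hl))
  have h3 : r ≠ 2 := by rintro rfl; exact absurd h2 (by decide)
  refine ⟨x, hx, r, hr, h3, e, h1.trans ⟨2, by omega⟩, fun hc => h3 ?_⟩
  refine (Nat.prime_dvd_prime_iff_eq hr Nat.prime_two).1 (e ▸ orderOf_dvd_of_pow_eq_one ?_)
  rw [sq, h.ord_dvd hl hx hc]

theorem card_eq (hab : a ≠ b) : ∃ m, Nat.card Ω = 1 + p * m ∧ 2 ≤ m := by
  obtain ⟨⟨m, hm⟩, h1⟩ := h.cy.p_dvd a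
  obtain ⟨c, hc⟩ := h.cy.exists_notMem_ln (h.ne_bot a b hab)
  have h2 := Set.ncard_lt_ncard (s := ln P a b) (t := Set.univ)
    (Set.ssubset_univ_iff.2 fun e => hc (e ▸ Set.mem_univ c))
  rw [h.ncard_ln hab, Set.ncard_univ] at h2
  refine ⟨m, by omega, ?_⟩
  by_contra h3
  have : p * m ≤ p * 1 := Nat.mul_le_mul_left _ (by omega)
  omega

end Cx

end Cfsg.Agent.CY
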