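import Mathlib
import Cfsg.Agent.CY.CxB
import Cfsg.Agent.Loc.MssSyl

/-! The case `p = 5` with lines of type `SL₂(5)`: a torus element fixes exactly two points. -/

set_option autoImplicit false
set_option linter.unusedSectionVars false

namespace Cfsg.Agent.CY

open Subgroup MulAction Cfsg.Agent.TT Cfsg.Agent.Perm.TT Cfsg.Agent.Perm.TwoCount
open Cfsg.Agent.KS (St)
open Cfsg.Agent.Loc.PC (OneCl)
open scoped commutatorElement MatrixGroups

universe u v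

variable {G : Type u} {Ω : Type v} [Group G] [MulAction G Ω] [Finite G] [Finite Ω]
  {P : Ω → Subgroup G} {p : ℕ} {a b c d x y : Ω} {g k t u v w z e : G} {N : Subgroup G}
  {S : Set Ω}

namespace MR

open Cfsg.Agent.Loc.Mss

theorem two_le {A B : Subgroup G} (h : A ≤ B) (h' : ¬ B ≤ A) : 2 * Nat.card A ≤ Nat.card B := by
  rw [← GT.card_mul_relIndex h, mul_comm]
  have h1 : A.relIndex B ≠ 1 := fun e => h' (relIndex_eq_one.1 e)
  have h0 : A.relIndex B ≠ 0 := FiniteIndex.index_ne_zero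
  exact Nat.mul_le_mul_left _ (by omega)

/-- the fixed points of a subgroup -/
def Fx (Ω : Type v) [MulAction G Ω] (R : Subgroup G) : Set Ω := {c | ∀ g ∈ R, g • c = c}

theorem fx_inv {R : Subgroup G} : ∀ g ∈ 𝐍[R], ∀ c ∈ Fx Ω R, g • c ∈ Fx Ω R := fun g hg c hc r hr => by
  have := hc _ ((mem_normalizer_iff.1 (inv_mem hg) r).1 hr)
  rwa [conj_smul_iff', inv_inv] at this

theorem le_CC (h : Cy P p) {R : Subgroup G} (hR : R ≤ CP P a) (hc : c ∈ Fx Ω R) (hd : d ∈ Fx Ω R) :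
    R ≤ CC P c d := fun r hr => ⟨h.CP_of_fix (hR hr) (hc r hr), hd r hr⟩

theorem P_le (h : Cy P p) {R : Subgroup G} (hR : R ≤ CP P a) : ∀ c ∈ Fx Ω R, P c ≤ 𝐍[R] :=
  fun c hc => norm_of_cent fun u hu => mem_cent.2 fun r hr =>
    (mem_CP.1 (h.CP_of_fix (hR hr) (hc r hr)) u hu).symm

theorem syl_of (h : Cy P p) {r : ℕ} {R : Subgroup G} (hab : a ≠ b) (hcd : c ≠ d)
    (hs : Syl r R (CC P a b)) (hR : R ≤ CC P c d) : Syl r R (CC P c d) := by
  refine ⟨hR, hs.pg, ?_⟩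
  have e := (GT.card_mul_relIndex hR).trans ((h.card_CC hab hcd).trans (GT.card_mul_relIndex hs.le).symm)
  rw [Nat.eq_of_mul_eq_mul_left Nat.card_pos e]
  exact hs.nd

/-- Witt's lemma for the pointwise stabilizer of a line -/
theorem t2_syl (h : Cy P p) {r : ℕ} [Fact r.Prime] {R : Subgroup G} (hab : a ≠ b)
    (hs : Syl r R (CC P a b)) : T2 𝐍[R] (Fx Ω R) := by
  refine T2.of_base (a := a) (b := b) fx_inv fun c hc d hd cd => ?_
  obtain ⟨g, rfl, rfl⟩ := h.two.two hab cd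
  have h1 := syl_of h hab cd hs (le_CC h (hs.le.trans inf_le_left) hc hd)
  have e : cj(g, CC P a b) = CC P (g • a) (g • b) := by
    ext x
    rw [mem_cj, ← h.conj_CC (g := g)]
    simp [mul_assoc]
  obtain ⟨k, hk, e'⟩ := (e ▸ hs.cj g).conj_eq h1
  rw [cj_cj, cj_eq_iff] at e'
  exact ⟨k * g, e', by rw [mul_smul, (h.CC_le hk).1], by rw [mul_smul, (h.CC_le hk).2]⟩

theorem tor (h : Cx P p) (h5 : p = 5) (hab : a ≠ b) (hz : Zl P a b z) (hcd : c ≠ d) :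
    Nat.card (Tor P c d) = 4 ∧ IsCyclic (Tor P c d) ∧ ¬ Tor P c d ≤ CC P c d ∧
      st2 G c d ≤ 𝐂[Tor P c d] := by
  obtain ⟨z', -, hz'⟩ := h.zl_all hab hz hcd
  obtain ⟨w, z'', l⟩ := h.lx c d hcd
  obtain rfl := h.zl_eq l hz'
  have c4 : Nat.card (Tor P c d) = 4 := by have := l.card2 hz'.2.2; omega
  refine ⟨c4, l.cyc, fun e => ?_, fun g hg => mem_cent.2 fun t ht => (l.comm g hg t ht).symm⟩
  have : Tor P c d ≤ zpowers z'' := fun t ht => by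
    rcases l.hc t ht.1 (e ht) with rfl | rfl
    exacts [one_mem _, mem_zpowers _]
  have := card_le_of_le this
  rw [c4, Nat.card_zpowers, h.zl_sq hcd hz'] at this
  omega

end MR

open MR Cfsg.Agent.Loc.Mss in
theorem Cx.maxR (h : Cx P p) (h5 : p = 5) (hab : a ≠ b) (hz : Zl P a b z) : Tt P := by
  have : Fact (Nat.Prime 2) := ⟨Nat.prime_two⟩
  by_contra nt
  have pg : ∀ {c d : Ω}, c ≠ d → IsPGroup 2 (Tor P c d) := fun cd =>
    IsPGroup.of_card (n := 2) (tor h h5 hab hz cd).1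
  obtain ⟨R, ⟨R2, a', b', hab', tR, Rs, e, ea, eb, eR⟩, mx⟩ := Set.exists_max_image
    {R : Subgroup G | IsPGroup 2 R ∧ ∃ c d : Ω, c ≠ d ∧ Tor P c d ≤ R ∧ R ≤ st2 G c d ∧
      ∃ e, e ≠ c ∧ e ≠ d ∧ e ∈ Fx Ω R} (fun R => Nat.card R) (Set.toFinite _) ⟨Tor P a b, by
    obtain ⟨x, hx⟩ := (tor h h5 hab hz hab).2.1.exists_generator
    obtain ⟨k, hk⟩ := pg_iff.1 (pg hab) x x.2
    have : ¬ ∀ c : Ω, (x : G) • c = c → c = a ∨ c = b := fun f =>
      nt ⟨a, b, hab, x, x.2, 2, k, Nat.prime_two, hk, f⟩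
    push Not at this
    obtain ⟨e, e1, e2, e3⟩ := this
    refine ⟨pg hab, a, b, hab, le_rfl, inf_le_right, e, e2, e3, fun t ht => ?_⟩
    obtain ⟨i, hi⟩ := hx ⟨t, ht⟩
    have e' : (x : G) ^ i = t := congrArg Subtype.val hi
    have m := zpow_mem (show (x : G) ∈ stabilizer G e from e1) i
    exact e' ▸ m⟩
  obtain ⟨z', -, hz'⟩ := h.zl_all hab hz hab'
  obtain ⟨x, xT, xC⟩ := SetLike.not_le_iff_exists.1 (tor h h5 hab hz hab').2.2.1
  have sq : ∀ g ∈ R, g * g ∈ CP P a' := fun g hg => (h.sq_mem hab' (Rs hg) ea eb (eR g hg)).1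
  have c2 : Nat.card R ≤ 2 * Nat.card ↥(R ⊓ CC P a' b') := by
    rw [← GT.card_mul_relIndex (inf_le_left : R ⊓ CC P a' b' ≤ R), mul_comm]
    refine Nat.mul_le_mul_right _ (Nat.le_of_dvd two_pos (relIndex_dvd_two_iff.2
      ⟨x, tR xT, fun g hg => or_iff_not_imp_right.2 fun hn => ?_⟩))
    have m := mul_mem hg (tR xT)
    exact ⟨m, h.cy.inv_mul_mem (Rs hg).1 xT.2.1 (sq g hg) (sq x (tR xT))
      (fun e => hn ⟨hg, e, (Rs hg).2⟩) (fun e => xC ⟨e, xT.2.2⟩), (Rs m).2⟩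
  have zR : z' ∈ R ⊓ CC P a' b' := ⟨tR ⟨hz'.1, h.cy.CC_le hz'.2.1⟩, hz'.2.1⟩
  have el : e ∉ ln P a' b' := fun el => xC (h.mem_CC_of_ln hab' xT.2 el ea eb (eR x (tR xT)))
  have eS : e ∈ Fx Ω (R ⊓ CC P a' b') := fun g hg => eR g hg.1
  have p0 : IsPGroup 2 ↥(R ⊓ CC P a' b') := R2.to_inf_left
  have l0 : R ⊓ CC P a' b' ≤ CC P a' b' := inf_le_right
  generalize R ⊓ CC P a' b' = R₀ at c2 zR eS p0 l0
  have l1 : R₀ ≤ CP P a' := l0.trans inf_le_left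
  have aS : a' ∈ Fx Ω R₀ := fun g hg => (h.cy.CC_le (l0 hg)).1
  have bS : b' ∈ Fx Ω R₀ := fun g hg => (l0 hg).2
  have t2 : T2 𝐍[R₀] (Fx Ω R₀) := by
    by_cases hs : Syl 2 R₀ (CC P a' b')
    · exact t2_syl h.cy hab' hs
    refine h.cy.t2_gleason fx_inv (P_le h.cy l1) aS Nat.prime_two fun c hc ca => ?_
    have l2 := le_CC h.cy l1 aS hc
    have : ¬ ∀ Q : Subgroup G, IsPGroup 2 Q → R₀ ≤ Q → Q ≤ CC P a' c → Q ≤ 𝐍[R₀] → Q ≤ R₀ :=
      fun f => hs (syl_of h.cy ca.symm hab' (Syl.of_norm p0 l2 f) l0)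
    push Not at this
    obtain ⟨Q, q1, q2, q3, q4, q5⟩ := this
    obtain ⟨-, -, t1, t3⟩ := tor h h5 hab hz ca.symm
    have q6 := q3.trans h.cy.CC_le
    have q7 := pg_sup q1 (pg ca.symm) (norm_of_cent (q6.trans t3))
    have q8 : Q ⊔ Tor P a' c ≤ st2 G a' c := sup_le q6 inf_le_right
    refine ⟨Q ⊔ Tor P a' c, sup_le q4 (norm_of_cent fun t ht => mem_cent.2 fun r hr =>
      (h.cy.HH_comm ht.1 (l2 hr)).symm), q7, q8, fun d _ hd => ?_⟩
    by_contra hn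
    push Not at hn
    have c1 := mx _ ⟨q7, a', c, ca.symm, le_sup_right, q8, d, hn.1, hn.2, hd⟩
    have c3 := two_le q2 q5
    have c4 := two_le (le_sup_left : Q ≤ Q ⊔ Tor P a' c) fun f => t1 (le_sup_right.trans (f.trans q3))
    have c5 := Nat.card_pos (α := R₀)
    omega
  rcases h.sub t2 (P_le h.cy l1) (le_normalizer zR) hz'.2.2 (fun c hc => hc _ zR) aS bS hab' with
    f | ⟨⟨z'', z1, c, hc, z2⟩, -⟩
  · exact el (f ▸ eS)
  · rcases h.zl_uniq hab' hz' z1.1 z1.2.1 with rfl | rfl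
    exacts [z1.2.2 rfl, z2 (hc _ zR)]

end Cfsg.Agent.CY
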