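import Mathlib
import Cfsg.Agent.CY.CxB
import Cfsg.Agent.Inv.FzBasic

set_option autoImplicit false
set_option linter.unusedSectionVars false

namespace Cfsg.Agent.CY

open Subgroup MulAction Cfsg.Agent.TT Cfsg.Agent.Perm.TT Cfsg.Agent.Perm.TwoCount
open Cfsg.Agent.KS (St)
open Cfsg.Agent.Loc.PC (OneCl)
open scoped commutatorElement MatrixGroups

universe u v

variable {G : Type u} {Ω : Type v} [Group G] [MulAction G Ω] [Finite G] [Finite Ω]
  {P : Ω → Subgroup G} {p : ℕ} {a b c d x y : Ω} {g k t u v w z e : G} {N : Subgroup G}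
  {S : Set Ω}

namespace MY

open Cfsg.Agent.Inv.Fz

/-- The fixed points of a subgroup. -/
def Fx (Ω : Type v) [MulAction G Ω] (Y : Subgroup G) : Set Ω := {c | ∀ y ∈ Y, y • c = c}

variable {Y : Subgroup G}

theorem fx_inv : ∀ g ∈ normalizer (Y : Set G), ∀ c ∈ Fx Ω Y, g • c ∈ Fx Ω Y := fun g hg c hc y hy => by
  have := hc _ ((mem_normalizer_iff''.1 hg y).1 hy)
  rwa [mul_smul, mul_smul, inv_smul_eq_iff] at this

variable (h : Cy P p)
include h

theorem cj_CC (g : G) (a b : Ω) : cj g (CC P a b) = CC P (g • a) (g • b) := by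
  ext k
  rw [mem_cj, ← h.conj_CC (g := g)]
  simp [mul_assoc]

theorem le_CC (hle : Y ≤ CP P x) (hc : c ∈ Fx Ω Y) (hd : d ∈ Fx Ω Y) : Y ≤ CC P c d := fun y hy =>
  h.mem_CC_of_CP (hle hy) (hc y hy) (hd y hy)

theorem P_le (hle : Y ≤ CP P x) : ∀ c ∈ Fx Ω Y, P c ≤ normalizer (Y : Set G) := fun _ hc u hu =>
  centralizer_le_normalizer _ fun y hy => (h.CP_of_fix (hle hy) (hc y hy) u hu).symm

/-- Witt's lemma, or the normaliser grows at every pair. -/
theorem dich (hab : a ≠ b) (hY : IsPGroup 2 Y) (hle : Y ≤ CC P a b) :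
    T2 (normalizer (Y : Set G)) (Fx Ω Y) ∨ ∀ c ∈ Fx Ω Y, c ≠ a →
      ∃ R : Subgroup G, IsPGroup 2 R ∧ Y < R ∧ R ≤ normalizer (Y : Set G) ∧ R ≤ CC P a c := by
  have hC : Y ≤ CP P a := hle.trans inf_le_left
  have ha : a ∈ Fx Ω Y := fun y hy => h.CP_fix (hC hy)
  obtain ⟨T, hT, hYT⟩ := exists_isSylIn hY hle
  rcases hYT.eq_or_lt with rfl | hlt
  · refine .inl (T2.of_base (a := a) (b := b) fx_inv fun c hc d hd hcd => ?_)
    obtain ⟨g, rfl, rfl⟩ := h.two.two hab hcd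
    have h1 := cj_CC h g a b ▸ hT.cj g
    obtain ⟨k, hk, e⟩ := (h1.of_card_ge hY (le_CC h hC hc hd) (card_cj g Y).le).exists_cj_eq h1
    rw [cj_cj] at e
    exact ⟨k * g, cj_eq_iff.1 e, by rw [mul_smul, (h.CC_le hk).1], by rw [mul_smul, (h.CC_le hk).2]⟩
  · refine .inr fun c hc hca => ?_
    obtain ⟨g, e1, e2⟩ := h.two.two hab hca.symm
    have h1 := cj_CC h g a b ▸ hT.cj g
    rw [e1, e2] at h1
    obtain ⟨T', hT', hYT'⟩ := exists_isSylIn hY (le_CC h hC ha hc)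
    have h2 : Y < T' := lt_of_le_of_ne hYT' fun e => by
      have := card_lt_of_lt hlt
      rw [e, hT'.card_eq h1, card_cj] at this
      exact this.false
    exact ⟨_, hT'.isPGroup.to_le inf_le_left, lt_inf_normalizer hT'.isPGroup h2, inf_le_right,
      inf_le_left.trans hT'.le⟩

end MY

open MY

theorem Cx.maxY (h : Cx P p) : IFx P ∨ ∃ a b z, a ≠ b ∧ Zl P a b z := by
  by_contra hc
  obtain ⟨h1, h2⟩ := not_or.1 hc
  obtain ⟨a, b, hab, t, ht, t2, hne⟩ : ∃ a b : Ω, a ≠ b ∧ ∃ t ∈ CC P a b, orderOf t = 2 ∧ fixedBy Ω t ≠ ln P a b := by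
    simpa only [IFx, not_forall, exists_prop] using h1
  have m : zpowers t ∈ {Y : Subgroup G | IsPGroup 2 Y ∧ ∃ c d, c ≠ d ∧ Y ≤ CC P c d ∧ Fx Ω Y ≠ ln P c d} :=
    ⟨.of_card (n := 1) (by rw [Nat.card_zpowers, t2]; rfl), a, b, hab, zpowers_le.2 ht, fun e => hne (e ▸ Set.ext fun c =>
      ⟨fun hc => (zpowers_le (H := stabilizer G c)).2 hc, fun hc => hc t (mem_zpowers t)⟩)⟩
  obtain ⟨Y, ⟨hY, a, b, hab, hle, hne⟩, hmax⟩ := Set.exists_max_image _ (fun Y : Subgroup G => Nat.card Y)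
    (Set.toFinite _) ⟨_, m⟩
  have hC : Y ≤ CP P a := hle.trans inf_le_left
  have ha : a ∈ Fx Ω Y := fun y hy => h.cy.CP_fix (hC hy)
  have hT : T2 (normalizer (Y : Set G)) (Fx Ω Y) := (dich h.cy hab hY hle).elim id fun hR =>
    h.t2_parity fx_inv (P_le h.cy hC) ha fun c hc hca => by
      obtain ⟨R, r1, r2, r3, r4⟩ := hR c hc hca
      refine ⟨R, r3, r1, r4, fun d _ hd => ?_⟩
      by_contra hd'
      exact (hmax R ⟨r1, a, c, hca.symm, r4, fun e => hd' (e ▸ hd)⟩).not_gt (Inv.Fz.card_lt_of_lt r2)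
  obtain ⟨⟨k, hk⟩, k1⟩ := ne_bot_iff_exists_ne_one.1 (show Y ≠ ⊥ from fun e => by
    have := hmax _ m
    rw [e, card_bot, Nat.card_zpowers, t2] at this
    omega)
  rcases h.sub hT (P_le h.cy hC) (le_normalizer hk) (fun e => k1 (Subtype.ext e)) (fun c hc => hc k hk) ha
    (fun y hy => (hle hy).2) hab with e | ⟨⟨z, hz, -⟩, -⟩
  exacts [hne e, h2 ⟨a, b, z, hab, hz⟩]

theorem Cx.ifx_of (h : Cx P p) (hz : ∀ a b : Ω, a ≠ b → ∃ z, Zl P a b z ∧ fixedBy Ω z = ln P a b) :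
    IFx P := by
  intro a b hab t ht t2
  have ha : a ∈ fixedBy Ω t := h.cy.CP_fix ht.1
  have hP : ∀ x ∈ fixedBy Ω t, P x ≤ centralizer {t} := fun x hx => h.P_le_cent ht.1 hx
  have hT : T2 (centralizer ({t} : Set G)) (fixedBy Ω t) :=
    h.t2_parity (fun g hg c hc => smul_fix_of_commute (mem_centralizer_singleton_iff.1 hg) hc) hP ha fun c hc hca => by
      obtain ⟨z, z1, z2⟩ := hz a c hca.symm
      exact ⟨zpowers z, zpowers_le.2 (mem_centralizer_singleton_iff.2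
        (h.cy.HH_comm z1.1 (h.cy.mem_CC_of_CP ht.1 ha hc))),
        .of_card (n := 1) (by rw [Nat.card_zpowers, h.zl_sq hca.symm z1]; rfl), zpowers_le.2 z1.2.1,
        fun d _ hd => z2 ▸ hd z (mem_zpowers z)⟩
  refine (h.sub hT hP (mem_centralizer_singleton_iff.2 rfl) (ne_one_two t2) (fun c hc => hc) ha ht.2 hab).resolve_right
    fun hU => ne_one_two t2 (h.cy.two.faith t fun γ => ?_)
  by_contra hγ
  obtain ⟨z, z1, z2⟩ := hz γ (t • γ) (Ne.symm hγ)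
  have hs := h.cy.swap_mem_St (Ne.symm hγ) rfl (smul_smul_two t2 γ)
  obtain ⟨c, hc, e⟩ := hU.2 z (mem_centralizer_singleton_iff.2 (h.zl_comm (Ne.symm hγ) z1 hs).symm) fun c _ => by
    rw [mul_self_two (h.zl_sq (Ne.symm hγ) z1), one_smul]
  exact hγ (h.cy.CC_le (h.mem_CC_two (Ne.symm hγ) ht.1 (mul_self_two t2) hs (z2 ▸ e) hc)).1

end Cfsg.Agent.CY
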