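import Mathlib
import Cfsg.Agent.CY.MY
import Cfsg.Agent.CY.MR

set_option autoImplicit false
set_option linter.unusedSectionVars false

namespace Cfsg.Agent.CY

open Subgroup MulAction Cfsg.Agent.TT Cfsg.Agent.Perm.TT Cfsg.Agent.Perm.TwoCount
open Cfsg.Agent.KS (St)
open Cfsg.Agent.Loc.PC (OneCl)
open scoped commutatorElement MatrixGroups

universe u v

variable {G : Type u} {Ω : Type v} [Group G] [MulAction G Ω] [Finite G] [Finite Ω]
  {P : Ω → Subgroup G} {p : ℕ} {a b c d x y : Ω} {g k t u v w z e : G} {N : Subgroup G}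
  {S : Set Ω}

theorem Cx.ifx (h : Cx P p) : IFx P := by
  rcases h.maxY with h1 | ⟨a, b, z, hab, hz⟩
  · exact h1
  refine h.ifx_of ?_
  by_cases h3 : p = 3
  · exact h.p3 h3
  have ht : Tt P := by
    by_cases h5 : p = 5
    · exact h.maxR h5 hab hz
    · refine h.tt_of_seven ?_
      have h1 := h.cy.three_le
      have h2 := h.cy.prime.eq_two_or_odd
      have := h.cy.ne_two
      omega
  intro c d hcd
  obtain ⟨z', -, hz'⟩ := h.zl_all hab hz hcd
  refine ⟨z', hz', ?_⟩
  have hC : z' ∈ CP P c := hz'.2.1.1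
  rcases h.sub (h.t2_torus ht hC) (fun x hx => h.P_le_cent hC hx)
    (mem_centralizer_singleton_iff.2 rfl) hz'.2.2 (fun _ hx => hx) (h.cy.CP_fix hC) hz'.2.1.2 hcd with
    e | ⟨⟨z₁, h1, x, hx, e⟩, -⟩
  · exact e
  · rcases h.zl_uniq hcd hz' h1.1 h1.2.1 with e1 | rfl
    · exact absurd e1 h1.2.2
    · exact absurd hx e

end Cfsg.Agent.CY
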