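import Mathlib
import Cfsg.Agent.CY.CxB

/-! Lines with pointwise stabilizers of even order: basic facts and the principle. -/

set_option autoImplicit false
set_option linter.unusedSectionVars false

namespace Cfsg.Agent.CY

open Subgroup MulAction Cfsg.Agent.TT Cfsg.Agent.Perm.TT Cfsg.Agent.Perm.TwoCount
open Cfsg.Agent.KS (St)
open Cfsg.Agent.Loc.PC (OneCl)
open scoped commutatorElement MatrixGroups

universe u v

variable {G : Type u} {Ω : Type v} [Group G] [MulAction G Ω] [Finite G] [Finite Ω]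
  {P : Ω → Subgroup G} {p : ℕ} {a b c d x y : Ω} {g k t u v w z e : G} {N : Subgroup G}
  {S : Set Ω}

namespace C5c

theorem odd_p (h : Cy P p) : p % 2 = 1 := h.prime.eq_two_or_odd.resolve_left h.ne_two

theorem exists_second (hs : Even S.ncard) (hx : x ∈ S) : ∃ y ∈ S, y ≠ x := by
  by_contra! e
  rw [Set.eq_singleton_iff_unique_mem.2 ⟨hx, e⟩] at hs
  simp at hs

/-- an element of `CP P a` other than the identity fixes at most one point on each line through a moved point -/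
theorem fix_le (h : Cx P p) (hk : k ∈ CP P a) (k1 : k ≠ 1) :
    (fixedBy Ω k).ncard * p ≤ Nat.card Ω - 1 := by
  obtain ⟨y, hy⟩ : ∃ y : Ω, k • y ≠ y := by
    by_contra! e
    exact k1 (h.cy.two.faith k e)
  have ne : ∀ s ∈ fixedBy Ω k, y ≠ s := fun s hs e => hy (e ▸ hs)
  rw [← h.cy.card y, ← SetLike.coe_sort_coe, Nat.card_coe_set_eq, ← Set.ncard_prod, ← Set.ncard_univ,
    ← Set.ncard_sdiff_singleton_of_mem (Set.mem_univ y)]
  refine Set.ncard_le_ncard_of_injOn (fun q => q.2 • q.1) (fun q hq => ⟨trivial, fun e => ne _ hq.1 ?_⟩) ?_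
  · exact smul_left_cancel q.2 ((h.cy.fix y _ hq.2).trans (Set.mem_singleton_iff.1 e).symm)
  rintro ⟨s, v⟩ ⟨hs, hv⟩ ⟨s', v'⟩ ⟨hs', hv'⟩ e
  have hm : v'⁻¹ * v ∈ P y := mul_mem (inv_mem hv') hv
  have e1 : (v'⁻¹ * v) • s = s' := by rw [mul_smul, inv_smul_eq_iff]; exact e
  obtain rfl : s = s' := by
    by_contra n
    have := h.cy.ln_eq (ne s hs) right_mem_ln ((h.mem_ln_iff (ne s hs)).2 (.inr ⟨_, hm, e1⟩)) n
    exact hy ((this.ge h.cy.left_mem_ln) k (h.cy.mem_CC_of_CP hk hs hs'))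
  rw [inv_mul_eq_one.1 (h.cy.semi hm (ne s hs).symm e1)]

end C5c

namespace C5

open C5c

variable (h : C5 P p) (hi : IFx P)
include h hi

theorem exists_inv (hab : a ≠ b) : ∃ t ∈ CC P a b, orderOf t = 2 := by
  obtain ⟨t, ht⟩ := exists_prime_orderOf_dvd_card' 2 (h.even a b hab).two_dvd
  exact ⟨t, t.2, by rw [Subgroup.orderOf_coe, ht]⟩

theorem even_card (a : Ω) : Even (Nat.card Ω) := by
  obtain ⟨b, hb⟩ := h.cy.exists_ne a
  obtain ⟨t, ht, h2⟩ := h.exists_inv hi hb.symm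
  have := parity_fixedBy (Ω := Ω) (mul_self_two h2)
  rw [hi a b hb.symm t ht h2, h.ncard_ln hb.symm] at this
  have := odd_p h.cy
  rw [Nat.even_iff]
  omega

theorem inv_mem (ht : t ∈ CP P a) (h2 : orderOf t = 2) : ∃ b, b ≠ a ∧ t ∈ CC P a b := by
  obtain ⟨b, hb, e⟩ := exists_second (S := fixedBy Ω t) (x := a) (by
    rw [Nat.even_iff, ← parity_fixedBy (mul_self_two h2), ← Nat.even_iff]
    exact h.even_card hi a) (h.cy.CP_fix ht)
  exact ⟨b, e, ht, hb⟩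

theorem inv_line (hab : a ≠ b) (ht : t ∈ CC P a b) (h2 : orderOf t = 2) (hc : c ≠ a)
    (hs : t ∈ St G (ln P a c)) : c ∈ ln P a b :=
  (hi a b hab t ht h2).le
    (h.mem_CC_two hc.symm ht.1 (mul_self_two h2) hs h.cy.left_mem_ln (h.cy.CP_fix ht.1)).2

theorem tr (hc : c ≠ a) (hd : d ≠ a) : ∃ g ∈ CP P a, g • c = d := by
  let O : Ω → Set Ω := fun c => {e | ∃ g ∈ CP P a, g • c = e}
  have key : ∀ c, c ≠ a → ∀ d, (O d).ncard % 2 = (O d ∩ ln P a c).ncard % 2 := fun c hc d => by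
    obtain ⟨t, ht, h2⟩ := h.exists_inv hi hc.symm
    rw [← hi a c hc.symm t ht h2]
    exact parity (fun _ ⟨g, hg, e⟩ => ⟨t * g, mul_mem ht.1 hg, by rw [mul_smul, e]⟩)
      fun q _ => smul_smul_two h2 q
  have na : ∀ g ∈ CP P a, g • d ≠ a := fun g hg e =>
    hd (smul_left_cancel g (e.trans (h.cy.CP_fix hg).symm))
  have h1 := key d hd d
  have e1 : O d ∩ ln P a d = ln P a d \ {a} := by
    ext x
    refine ⟨fun ⟨⟨g, hg, e⟩, hx⟩ => ⟨hx, e ▸ na g hg⟩, fun hx => ⟨?_, hx.1⟩⟩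
    obtain ⟨u, hu, e⟩ := ((h.mem_ln_iff hd.symm).1 hx.1).resolve_left hx.2
    exact ⟨u, h.cy.P_le_CP a hu, e⟩
  rw [e1, Set.ncard_sdiff_singleton_of_mem h.cy.left_mem_ln, h.ncard_ln hd.symm, Nat.add_sub_cancel,
    odd_p h.cy, key c hc d] at h1
  obtain ⟨x, ⟨g, hg, rfl⟩, hx⟩ := Set.nonempty_of_ncard_ne_zero (s := O d ∩ ln P a c) (by omega)
  obtain ⟨u, hu, e⟩ := ((h.mem_ln_iff hc.symm).1 hx).resolve_left (na g hg)
  exact ⟨g⁻¹ * u, mul_mem (Subgroup.inv_mem _ hg) (h.cy.P_le_CP a hu), by rw [mul_smul, e, inv_smul_smul]⟩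

theorem succ_dvd (a : Ω) : p + 1 ∣ Nat.card Ω := by
  obtain ⟨b, hb⟩ := h.cy.exists_ne a
  obtain ⟨t, ht, h2⟩ := h.exists_inv hi hb.symm
  have hs : ∀ γ : Ω, t • γ ≠ γ → t ∈ St G (ln P γ (t • γ)) := fun γ hγ =>
    h.cy.swap_mem_St hγ.symm rfl (smul_smul_two h2 γ)
  have h1 : ∀ γ : Ω, t • γ ≠ γ → ∀ δ ∈ ln P γ (t • γ), t • δ ≠ δ := fun γ hγ δ hδ e => hγ
    (h.cy.CP_fix (h.mem_CC_two hγ.symm ht.1 (mul_self_two h2) (hs γ hγ) hδ e).1)
  have h3 : ∀ γ : Ω, t • γ ≠ γ → ∀ δ ∈ ln P γ (t • γ), ln P δ (t • δ) = ln P γ (t • γ) :=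
    fun γ hγ δ hδ => h.cy.ln_eq hγ.symm hδ (KS.St.smul_mem (hs γ hγ) hδ) (h1 γ hγ δ hδ).symm
  have h4 := dcount (X := (fixedBy Ω t)ᶜ) (Y := (fun γ => ln P γ (t • γ)) '' (fixedBy Ω t)ᶜ) (Set.toFinite _)
    (Set.toFinite _) (fun x L => x ∈ L) (r := 1) (t := p + 1) (fun x hx => Set.ncard_eq_one.2
      ⟨_, Set.eq_singleton_iff_unique_mem.2 ⟨⟨⟨x, hx, rfl⟩, h.cy.left_mem_ln⟩, by
        rintro _ ⟨⟨γ, hγ, rfl⟩, e⟩; exact (h3 γ hγ x e).symm⟩⟩) (by
      rintro _ ⟨γ, hγ, rfl⟩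
      rw [← h.ncard_ln (Ne.symm hγ)]
      exact congrArg _ (Set.ext fun x => and_iff_right_of_imp (h1 γ hγ x)))
  rw [← Set.ncard_add_ncard_compl (fixedBy Ω t), ← mul_one (fixedBy Ω t)ᶜ.ncard, h4, hi a b hb.symm t ht h2,
    h.ncard_ln hb.symm]
  exact dvd_add dvd_rfl (dvd_mul_left _ _)

theorem faithful (hg : g ∈ CP P a) (hs : ∀ c, c ≠ a → g ∈ St G (ln P a c)) : g ∈ P a := by
  classical
  by_contra hn
  obtain ⟨b, hb⟩ := h.cy.exists_ne a
  obtain ⟨m, hm, h2⟩ := h.card_eq hb.symm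
  have ex : ∀ c, c ≠ a → ∃ u ∈ P a, (g * u) • c = c := fun c hc => by
    obtain ⟨u, hu, e⟩ := ((h.mem_ln_iff hc.symm).1 (KS.St.smul_mem (Subgroup.inv_mem _ (hs c hc)) right_mem_ln)).resolve_left
      fun e => hc (by rw [inv_smul_eq_iff, h.cy.CP_fix hg] at e; exact e)
    exact ⟨u, hu, by rw [mul_smul, e, smul_inv_smul]⟩
  choose! f hf using ex
  have h3 := Finset.card_le_mul_card_image_of_maps_to (s := (Set.toFinite (Set.univ \ {a} : Set Ω)).toFinset)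
    (t := (Set.toFinite (P a : Set G)).toFinset) (f := f) (fun c hc => by simpa using (hf c (by simpa using hc)).1)
    (m - 1) fun u hu => by
      have hu : u ∈ P a := by simpa using hu
      have hk := mul_mem hg (h.cy.P_le_CP a hu)
      have h4 := fix_le h.toCx hk fun e => hn (eq_inv_of_mul_eq_one_left e ▸ Subgroup.inv_mem _ hu)
      rw [hm, Nat.add_sub_cancel_left, mul_comm] at h4
      refine le_trans ?_ (Nat.sub_le_sub_right (Nat.le_of_mul_le_mul_left h4 h.cy.prime.pos) 1)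
      rw [← Set.ncard_sdiff_singleton_of_mem (show a ∈ fixedBy Ω (g * u) from h.cy.CP_fix hk),
        ← Set.ncard_coe_finset]
      refine Set.ncard_le_ncard fun c hc => ?_
      obtain ⟨hc', e⟩ : c ≠ a ∧ f c = u := by simpa using hc
      exact ⟨e ▸ (hf c hc').2, hc'⟩
  rw [← Set.ncard_eq_toFinset_card, ← Set.ncard_eq_toFinset_card, Set.ncard_sdiff_singleton_of_mem (Set.mem_univ a),
    Set.ncard_univ, ← Nat.card_coe_set_eq, SetLike.coe_sort_coe, h.cy.card, hm, Nat.add_sub_cancel_left,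
    mul_comm p] at h3
  have := Nat.le_of_mul_le_mul_right h3 h.cy.prime.pos
  omega

theorem principle {W : Subgroup G} (hW : W ≤ CP P a)
    (hn : ∀ g : G, g • a = a → ∀ x ∈ W, g * x * g⁻¹ ∈ W) (hab : a ≠ b) (hc : c ∉ ln P a b)
    (hf : ∀ x ∈ W, x • b = b → x • c = c) : ∀ x ∈ W, x • b = b → x = 1 := by
  intro k hk kb
  by_contra k1
  set Y := W ⊓ stabilizer G b
  set S : Set Ω := {x | ∀ y ∈ Y, y • x = x}
  have hl : ln P a b ⊆ S := fun x hx y hy => hx y ⟨hW hy.1, hy.2⟩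
  have ha := hl h.cy.left_mem_ln
  have hb := hl right_mem_ln
  have hA : ∀ g : G, g • a = a → g • b ∈ S → g ∈ normalizer (Y : Set G) := fun g ga gb =>
    (inv_mem_iff (x := g)).1 (mem_normalizer_fintype fun y hy => ⟨hn g⁻¹ (inv_smul_eq_iff.2 ga.symm) y hy.1,
      conj_smul_iff'.2 (by rw [inv_inv]; exact gb y hy)⟩)
  have hN : ∀ g ∈ normalizer (Y : Set G), ∀ x ∈ S, g • x ∈ S := fun g hg x hx y hy => by
    have := hx _ ((mem_normalizer_iff''.1 hg y).1 hy)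
    rwa [mul_smul, mul_smul, inv_smul_eq_iff] at this
  have hP : ∀ x ∈ S, P x ≤ normalizer (Y : Set G) := fun x hx u hu => centralizer_le_normalizer _
    fun y hy => (h.cy.CP_of_fix (hW hy.1) (hx y hy) u hu).symm
  have h2 : T2 (normalizer (Y : Set G)) S := h.cy.t2_of hN hP ha fun x hx y hy xa ya => by
    obtain ⟨g, g1, rfl⟩ := h.cy.two.two hab xa.symm
    obtain ⟨g', g2, rfl⟩ := h.cy.two.two hab ya.symm
    exact ⟨g' * g⁻¹, mul_mem (hA g' g2 hy) (Subgroup.inv_mem _ (hA g g1 hx)),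
      by rw [mul_smul, inv_smul_eq_iff.2 g1.symm, g2], by rw [mul_smul, inv_smul_smul]⟩
  have hB : ∀ g : G, g • a ∈ S → g • b ∈ S → g ∈ normalizer (Y : Set G) := fun g ga gb => by
    obtain ⟨n, hn, e1, e2⟩ := h2.tr a ha b hb _ ga _ gb hab ((MulAction.injective g).ne hab)
    exact (mul_mem_cancel_left (Subgroup.inv_mem _ hn)).1 (hA _ (by rw [mul_smul, ← e1, inv_smul_smul])
      (by rw [mul_smul, ← e2, inv_smul_smul]; exact hb))
  have hkY : k ∈ Y := ⟨hk, kb⟩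
  obtain ⟨-, hU⟩ := (h.sub h2 hP (le_normalizer hkY) k1 (fun x hx => hx k hkY) ha hb hab).resolve_left
    fun e => hc (e.le fun y hy => hf y hy.1 hy.2)
  obtain ⟨t, ht, t2⟩ := h.exists_inv hi hab
  have hF := hi a b hab t ht t2
  have par : ∀ s ∈ normalizer (Y : Set G), orderOf s = 2 → S.ncard % 2 = (S ∩ fixedBy Ω s).ncard % 2 :=
    fun s hs s2 => parity (hN s hs) fun q _ => smul_smul_two s2 q
  have ev := par t (hA t (h.cy.CP_fix ht.1) (by rw [show t • b = b from ht.2]; exact hb)) t2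
  rw [hF, Set.inter_eq_right.2 hl, h.ncard_ln hab] at ev
  obtain ⟨γ, hγ⟩ : ∃ γ : Ω, k • γ ≠ γ := by
    by_contra! e
    exact k1 (h.cy.two.faith k e)
  obtain ⟨g, rfl, gb⟩ := h.cy.two.two hab (c := γ) (d := t • γ) fun e => hγ (hl (hF.le e.symm) k hkY)
  have s2 := two_conj t2 g⁻¹
  have hs : g⁻¹ * t * g⁻¹⁻¹ ∈ normalizer (Y : Set G) := hB _
    (by rw [inv_inv, mul_smul, mul_smul, ← gb, inv_smul_smul]; exact hb)
    (by rw [inv_inv, mul_smul, mul_smul, gb, smul_smul_two t2, inv_smul_smul]; exact ha)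
  obtain ⟨x, hx, ex⟩ := hU _ hs fun x _ => by rw [mul_self_two s2, one_smul]
  obtain ⟨y, ⟨hy, ey⟩, xy⟩ := exists_second (S := S ∩ fixedBy Ω (g⁻¹ * t * g⁻¹⁻¹)) (x := x) (by
    have := odd_p h.cy
    rw [Nat.even_iff, ← par _ hs s2]
    omega) ⟨hx, ex⟩
  obtain ⟨n, hn, rfl, rfl⟩ := h2.tr a ha b hb x hx y hy hab xy.symm
  have back : ∀ q : Ω, (g⁻¹ * t * g⁻¹⁻¹) • n • q = n • q → (g * n) • q ∈ S := fun q e => hl (hF.le (by
    rw [conj_smul_iff', inv_inv, ← mul_smul g] at e; exact e))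
  exact hγ (hN g ((mul_mem_cancel_right hn).1 (hB _ (back a ex) (back b ey))) a ha k hkY)

end C5

end Cfsg.Agent.CY
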