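import Mathlib
import Cfsg.Agent.CY.C5c
import Cfsg.Agent.GT.MinNormal
import Cfsg.Agent.S0205

/-! A regular normal subgroup of the point stabilizer. -/

set_option autoImplicit false
set_option linter.unusedSectionVars false

namespace Cfsg.Agent.CY

open Subgroup MulAction Cfsg.Agent.TT Cfsg.Agent.Perm.TT Cfsg.Agent.Perm.TwoCount
open Cfsg.Agent.KS (St)
open Cfsg.Agent.Loc.PC (OneCl)
open scoped commutatorElement MatrixGroups

universe u v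

variable {G : Type u} {Ω : Type v} [Group G] [MulAction G Ω] [Finite G] [Finite Ω]
  {P : Ω → Subgroup G} {p : ℕ} {a b c d x y : Ω} {g k t u v w z e : G} {N : Subgroup G}
  {S : Set Ω}

namespace C5d

/-- `V` is normal in the stabilizer of `a` -/
def NA (a : Ω) (V : Subgroup G) : Prop := ∀ g : G, g • a = a → ∀ x ∈ V, g * x * g⁻¹ ∈ V

theorem inv_fix (h : g • a = a) : g⁻¹ • a = a := inv_smul_eq_iff.2 h.symm

theorem NA.comm {V : Subgroup G} (h : NA a V) : NA a ⁅V, V⁆ := fun g hg x hx => by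
  have h1 : V.map (MulAut.conj g).toMonoidHom ≤ V := by
    rintro _ ⟨y, hy, rfl⟩
    exact h g hg y hy
  have h2 := mem_map_of_mem (MulAut.conj g).toMonoidHom hx
  rw [map_commutator] at h2
  exact commutator_mono h1 h1 h2

theorem exists_sqrt {s : G} (h : Odd (orderOf s)) : ∃ j : ℕ, s ^ j * s ^ j * s = 1 := by
  obtain ⟨j, e⟩ := h
  exact ⟨j, by rw [← pow_add, ← pow_succ, ← two_mul, ← e, pow_orderOf_eq_one]⟩

theorem sq_one (h : orderOf t = 2) : t * t = 1 := by rw [← pow_two, ← h, pow_orderOf_eq_one]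

theorem cen (hu : u ∈ P a) (hg : g ∈ CP P a) : g * u * g⁻¹ = u := by
  rw [← (mem_CP.1 hg u hu).eq, mul_inv_cancel_right]

/-- the elements of `O` that centralize `V` modulo `P a` -/
def KK (h : Cy P p) {O : Subgroup G} (hO : O ≤ CP P a) (V : Subgroup G) : Subgroup G where
  carrier := {k | k ∈ O ∧ ∀ v ∈ V, ⁅k, v⁆ ∈ P a}
  one_mem' := ⟨one_mem _, fun v _ => by simp⟩
  mul_mem' := fun {k l} hk hl => ⟨mul_mem hk.1 hl.1, fun v hv => by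
    have e : ⁅k * l, v⁆ = k * ⁅l, v⁆ * k⁻¹ * ⁅k, v⁆ := by simp only [commutatorElement_def]; group
    rw [e]
    exact mul_mem (h.conj_fix (h.CP_fix (hO hk.1)) (hl.2 v hv)) (hk.2 v hv)⟩
  inv_mem' := fun {k} hk => ⟨inv_mem hk.1, fun v hv => by
    have e : ⁅k⁻¹, v⁆ = k⁻¹ * ⁅k, v⁆⁻¹ * k⁻¹⁻¹ := by simp only [commutatorElement_def]; group
    rw [e]
    exact h.conj_fix (h.CP_fix (hO (inv_mem hk.1))) (inv_mem (hk.2 v hv))⟩

theorem exists_V (h : C5 P p) {O : Subgroup G} (hO : OT P a O) :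
    ∃ V ≤ O, ¬ V ≤ P a ∧ NA a V ∧ ⁅V, V⁆ ≤ P a := by
  have h0 : ¬ O ≤ P a := fun hle => by
    obtain ⟨b, hb⟩ := h.cy.exists_ne a
    obtain ⟨c, hc⟩ := h.cy.exists_notMem_ln (h.ne_bot a b hb.symm)
    obtain ⟨x, hx, e⟩ := hO.tr b c hb (fun e => hc (e ▸ h.cy.left_mem_ln))
    exact hc ((h.toCx.mem_ln_iff hb.symm).2 (.inr ⟨x, hle hx, e⟩))
  obtain ⟨V, -, hV⟩ := Finite.exists_le_minimal
    (p := fun V : Subgroup G => V ≤ O ∧ ¬ V ≤ P a ∧ NA a V) (a := O) ⟨le_rfl, h0, hO.norm⟩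
  obtain ⟨h1, h2, h3⟩ := hV.prop
  have : Group.IsSolvable V := S0205.result (hO.odd.of_dvd_nat (card_dvd_of_le h1))
  have h4 := GT.commutator_lt_of_isSolvable (N := V) fun e => h2 (e ▸ bot_le)
  refine ⟨V, h1, h2, h3, ?_⟩
  by_contra h5
  exact h4.not_ge (hV.le_of_le ⟨h4.le.trans h1, h5, h3.comm⟩ h4.le)

theorem mem_St (h : Cy P p) (hc : c ≠ a) (ga : g • a = a) (gc : g • c ∈ ln P a c) :
    g ∈ St G (ln P a c) :=
  h.mem_St_of_pair hc.symm h.left_mem_ln right_mem_ln hc.symm (by rw [ga]; exact h.left_mem_ln) gc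

theorem P_mem_ln (h : C5 P p) (hc : c ≠ a) (hu : u ∈ P a) : u • c ∈ ln P a c :=
  (h.toCx.mem_ln_iff hc.symm).2 (.inr ⟨u, hu, rfl⟩)

theorem exists_P (h : C5 P p) (hb : b ≠ a) (hc : c ≠ a) (hl : c ∈ ln P a b) : ∃ u ∈ P a, u • b = c :=
  ((h.toCx.mem_ln_iff hb.symm).1 hl).resolve_left hc

theorem smul_ne (hg : g • a = a) (hc : c ≠ a) : g • c ≠ a := fun e =>
  hc (MulAction.injective g (e.trans hg.symm))

section
variable (h : C5 P p) (hi : IFx P)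
include h hi

theorem dec (hb : b ≠ a) (ht : t ∈ CC P a b) (h2 : orderOf t = 2) (hk : k ∈ CP P a)
    (hc : ⁅t, k⁆ ∈ P a) : ∃ u ∈ P a, u⁻¹ * k ∈ CC P a b := by
  have h1 : k • b ≠ a := smul_ne (h.cy.CP_fix hk) hb
  have h3 : t • k • b = ⁅t, k⁆ • k • b := by
    have e : t * k = ⁅t, k⁆ * k * t := by simp only [commutatorElement_def]; group
    rw [← mul_smul, e, mul_smul, mul_smul, (mem_CC.1 ht).2]
  obtain ⟨u, hu, e⟩ := exists_P h hb h1 (h.inv_line hi hb.symm ht h2 h1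
    (mem_St h.cy h1 (h.cy.CP_fix ht.1) (h3 ▸ P_mem_ln h h1 hc)))
  exact ⟨u, hu, (CP P a).mul_mem ((CP P a).inv_mem (h.cy.P_le_CP a hu)) hk, by
    show (u⁻¹ * k) • b = b
    rw [mul_smul, ← e, inv_smul_smul]⟩

variable {O V : Subgroup G} (hO : OT P a O) (h1 : V ≤ O) (h2 : ¬ V ≤ P a) (h3 : NA a V)
  (h4 : ⁅V, V⁆ ≤ P a)
include hO h1 h2 h3

theorem moves (hb : b ≠ a) : ∃ v ∈ V, v • b ∉ ln P a b := by
  by_contra hn
  push Not at hn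
  refine h2 fun v hv => h.faithful hi (hO.le (h1 hv)) fun c hc => ?_
  obtain ⟨o, ho, rfl⟩ := hO.tr b c hb hc
  have oa := h.cy.CP_fix (hO.le ho)
  refine mem_St h.cy hc (h.cy.CP_fix (hO.le (h1 hv))) ?_
  have := h.cy.smul_ln (g := o).2 (hn _ (h3 o⁻¹ (inv_fix oa) v hv))
  rwa [oa, ← mul_smul, show o * (o⁻¹ * v * o⁻¹⁻¹) = v * o by group, mul_smul] at this

theorem cent (hb : b ≠ a) (hk : k ∈ CC P a b) (hc : ∀ v ∈ V, v * k = k * v) : k = 1 := by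
  obtain ⟨v, hv, hn⟩ := moves h hi hO h1 h2 h3 hb
  refine h.principle hi (W := CP P a ⊓ centralizer (V : Set G)) inf_le_left (fun g hg x hx => ⟨?_, fun y hy => ?_⟩)
    hb.symm hn (fun x hx e => ?_) k ⟨hk.1, hc⟩ hk.2
  · have := (h.cy.conj_CP (g := g)).2 hx.1
    rwa [hg] at this
  · have := hx.2 _ (h3 g⁻¹ (inv_fix hg) y hy)
    calc y * (g * x * g⁻¹) = g * (g⁻¹ * y * g⁻¹⁻¹ * x) * g⁻¹ := by group
      _ = g * x * g⁻¹ * y := by rw [this]; group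
  · rw [← mul_smul, ← hx.2 v hv, mul_smul, e]

include h4

theorem fpf (ht : t ∈ CP P a) (t2 : orderOf t = 2) (hk : k ∈ KK h.cy hO.le V) (hc : t * k * t⁻¹ = k) :
    k ∈ P a := by
  obtain ⟨b, hb, ht'⟩ := h.inv_mem hi ht t2
  have tt := sq_one t2
  have ta := h.cy.CP_fix ht
  obtain ⟨u, hu, hk'⟩ := dec h hi hb ht' t2 (hO.le hk.1)
    (by rw [commutatorElement_def, hc, mul_inv_cancel]; exact one_mem _)
  have hl : u⁻¹ * k ∈ KK h.cy hO.le V := mul_mem (inv_mem ⟨hO.ge hu, fun v hv => by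
    rw [commutatorElement_def, mul_assoc, mul_assoc, ← mul_assoc v, cen (inv_mem hu) (hO.le (h1 hv))]
    simp⟩) hk
  have tl : t * (u⁻¹ * k) * t⁻¹ = u⁻¹ * k := by
    rw [show t * (u⁻¹ * k) * t⁻¹ = (t * u⁻¹ * t⁻¹) * (t * k * t⁻¹) by group, hc, cen (inv_mem hu) ht]
  obtain ⟨l, el⟩ : ∃ l, l = u⁻¹ * k := ⟨_, rfl⟩
  rw [← el] at hl tl hk'
  have key : l = 1 := cent h hi hO h1 h2 h3 hb hk' fun v hv => by
    have hv' := h3 t ta v hv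
    have c1 : ⁅t, v * (t * v * t⁻¹)⁆ ∈ P a := by
      have e : ⁅t, v * (t * v * t⁻¹)⁆ = t * v * (t * t)⁻¹ * t * (t * t) * v * (t * t)⁻¹ *
          (t * v⁻¹ * t⁻¹) * v⁻¹ := by simp only [commutatorElement_def]; group
      rw [e, tt]
      have := h4 (commutator_mem_commutator hv' hv)
      simpa [commutatorElement_def, mul_assoc, inv_eq_of_mul_eq_one_right tt] using this
    obtain ⟨u', hu', hx⟩ := dec h hi hb ht' t2 (hO.le (h1 (mul_mem hv hv'))) c1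
    have c2 : ⁅l, v * (t * v * t⁻¹)⁆ = ⁅l, u'⁻¹ * (v * (t * v * t⁻¹))⁆ := by
      have e : ⁅l, u'⁻¹ * (v * (t * v * t⁻¹))⁆ =
          (l * u'⁻¹ * l⁻¹) * ⁅l, v * (t * v * t⁻¹)⁆ * u' := by simp only [commutatorElement_def]; group
      rw [e, cen (inv_mem hu') hk'.1, mul_assoc u'⁻¹, ← (h.cy.comm hu' (hl.2 _ (mul_mem hv hv'))).eq,
        inv_mul_cancel_left]
    have c3 : ⁅l, v * (t * v * t⁻¹)⁆ = 1 := by
      refine h.cy.semi (hl.2 _ (mul_mem hv hv')) hb ?_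
      rw [c2]
      exact (CC P a b).mul_mem (mul_mem (mul_mem hk' hx) (inv_mem hk')) (inv_mem hx) |>.2
    have c4 : ⁅l, t * v * t⁻¹⁆ = ⁅l, v⁆ := by
      conv_lhs => rw [← tl]
      rw [← cen (hl.2 v hv) ht]
      simp only [commutatorElement_def]; group
    have c5 : ⁅l, v⁆ * ⁅l, v⁆ = 1 := by
      have e : ⁅l, v * (t * v * t⁻¹)⁆ = ⁅l, v⁆ * (v * ⁅l, t * v * t⁻¹⁆ * v⁻¹) := by
        simp only [commutatorElement_def]; group
      rw [← c3, e, c4, cen (hl.2 v hv) (hO.le (h1 hv))]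
    have c6 : ⁅l, v⁆ = 1 := by
      by_contra hn
      have e1 : orderOf ⁅l, v⁆ ∣ 2 := orderOf_dvd_of_pow_eq_one (by rw [pow_two, c5])
      rw [h.cy.ord (hl.2 v hv) hn] at e1
      exact h.cy.ne_two ((Nat.prime_dvd_prime_iff_eq h.cy.prime Nat.prime_two).1 e1)
    exact (commutatorElement_eq_one_iff_mul_comm.1 c6).symm
  rw [key] at el
  rw [eq_of_inv_mul_eq_one el.symm] at hu
  exact hu

omit h4 in
theorem KK_norm : NA a (KK h.cy hO.le V) := fun g hg x hx => ⟨hO.norm g hg x hx.1, fun v hv => by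
  have e : ⁅g * x * g⁻¹, v⁆ = g * ⁅x, g⁻¹ * v * g⁻¹⁻¹⁆ * g⁻¹ := by
    simp only [commutatorElement_def]; group
  rw [e]
  exact h.cy.conj_fix hg (hx.2 _ (h3 g⁻¹ (inv_fix hg) v hv))⟩

omit h4 in
theorem P_le_KK : P a ≤ KK h.cy hO.le V := fun u hu => ⟨hO.ge hu, fun v hv => by
  rw [commutatorElement_def, mul_assoc, mul_assoc, ← mul_assoc v, cen (inv_mem hu) (hO.le (h1 hv))]
  simp⟩

theorem inverts (ht : t ∈ CP P a) (t2 : orderOf t = 2) (hk : k ∈ KK h.cy hO.le V) :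
    t * k * t⁻¹ * k ∈ P a := by
  have tt := sq_one t2
  have ti := inv_eq_of_mul_eq_one_right tt
  have hy : t * k * t⁻¹ * k⁻¹ ∈ KK h.cy hO.le V :=
    mul_mem (KK_norm h hi hO h1 h2 h3 t (h.cy.CP_fix ht) k hk) (inv_mem hk)
  obtain ⟨y, ey⟩ : ∃ y, y = t * k * t⁻¹ * k⁻¹ := ⟨_, rfl⟩
  rw [← ey] at hy
  obtain ⟨j, ej⟩ := exists_sqrt (hO.odd.of_dvd_nat (O.orderOf_dvd_natCard hy.1))
  have e1 : t * y * t⁻¹ = y⁻¹ := by
    rw [ey, show t * (t * k * t⁻¹ * k⁻¹) * t⁻¹ = (t * t) * k * t⁻¹ * k⁻¹ * t⁻¹ by group, tt, ti]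
    simp [mul_assoc, ti]
  have e2 : t * y ^ j * t⁻¹ = (y ^ j)⁻¹ := by rw [← conj_pow, e1, inv_pow]
  have e3 : t * k * t⁻¹ = y * k := by rw [ey]; group
  have e4 : (y ^ j)⁻¹ = y ^ j * y := by rw [inv_eq_iff_mul_eq_one, ← mul_assoc, ej]
  have hs : (y ^ j)⁻¹ ∈ KK h.cy hO.le V := inv_mem (pow_mem hy j)
  have hc := fpf h hi hO h1 h2 h3 h4 ht t2 (mul_mem hs hk) (by
    rw [show t * ((y ^ j)⁻¹ * k) * t⁻¹ = (t * y ^ j * t⁻¹)⁻¹ * (t * k * t⁻¹) by group, e2, e3, inv_inv,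
      ← mul_assoc, ← e4])
  have e5 : t * k * t⁻¹ * k = (y ^ j)⁻¹ * ((y ^ j)⁻¹ * k) * (y ^ j)⁻¹⁻¹ * ((y ^ j)⁻¹ * k) := by
    have e6 : (y ^ j)⁻¹ * (y ^ j)⁻¹ = y := by
      rw [← mul_inv_rev, inv_eq_iff_mul_eq_one, ej]
    rw [e3, ← mul_assoc (y ^ j)⁻¹, e6]; group
  rw [e5]
  exact mul_mem (h.cy.conj_fix (h.cy.CP_fix (hO.le hs.1)) hc) hc

theorem KK_comm {l : G} (hk : k ∈ KK h.cy hO.le V) (hl : l ∈ KK h.cy hO.le V) : ⁅k, l⁆ ∈ P a := by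
  obtain ⟨b, hb⟩ := h.cy.exists_ne a
  obtain ⟨t, ht, t2⟩ := h.exists_inv hi hb.symm
  have i1 := inverts h hi hO h1 h2 h3 h4 ht.1 t2 (inv_mem hk)
  have i2 := inverts h hi hO h1 h2 h3 h4 ht.1 t2 (inv_mem hl)
  have i3 := inverts h hi hO h1 h2 h3 h4 ht.1 t2 (mul_mem (inv_mem hk) (inv_mem hl))
  have e : ⁅k, l⁆ = (k * (t * l⁻¹ * t⁻¹ * l⁻¹)⁻¹ * k⁻¹) * (t * k⁻¹ * t⁻¹ * k⁻¹)⁻¹ *
      (t * (k⁻¹ * l⁻¹) * t⁻¹ * (k⁻¹ * l⁻¹)) := by
    have e1 := cen i2 (hO.le hk.1)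
    have e2 := (h.cy.comm i1 i2).eq
    rw [← conj_inv, e1, ← mul_inv_rev]
    obtain ⟨A, eA⟩ : ∃ A, A = t * k⁻¹ * t⁻¹ * k⁻¹ := ⟨_, rfl⟩
    obtain ⟨B, eB⟩ : ∃ B, B = t * l⁻¹ * t⁻¹ * l⁻¹ := ⟨_, rfl⟩
    have e3 : t * (k⁻¹ * l⁻¹) * t⁻¹ * (k⁻¹ * l⁻¹) = A * (k * B * k⁻¹) * ⁅k, l⁆ := by
      rw [eA, eB]; simp only [commutatorElement_def]; group
    rw [e3, ← eA, ← eB, eB, e1, ← eB, inv_mul_cancel_left]
  rw [e]
  exact mul_mem (mul_mem (h.cy.conj_fix (h.cy.CP_fix (hO.le hk.1)) (inv_mem i2)) (inv_mem i1)) i3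

theorem KK_tr (hc : c ≠ a) (hd : d ≠ a) : ∃ x ∈ KK h.cy hO.le V, x • c = d := by
  obtain ⟨o, ho, rfl⟩ := hO.tr c d hc hd
  obtain ⟨t, ht, t2⟩ := h.exists_inv hi hc.symm
  have oa := h.cy.CP_fix (hO.le ho)
  have tt := sq_one t2
  have ti := inv_eq_of_mul_eq_one_right tt
  have ht' : o * t * o⁻¹ ∈ CC P a (o • c) := by
    have := (h.cy.conj_CC (g := o)).2 ht
    rwa [oa] at this
  have t2' : orderOf (o * t * o⁻¹) = 2 :=
    (orderOf_injective (MulAut.conj o).toMonoidHom (MulAut.conj o).injective t).trans t2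
  have hV : V ≤ KK h.cy hO.le V := fun v hv => ⟨h1 hv, fun w hw => h4 (commutator_mem_commutator hv hw)⟩
  have yO : t * (o * t * o⁻¹) ∈ O := by
    rw [show t * (o * t * o⁻¹) = t * o * t * o⁻¹ by group]
    have := hO.norm t (h.cy.CP_fix ht.1) o ho
    rw [ti] at this
    exact mul_mem this (inv_mem ho)
  obtain ⟨s, es⟩ : ∃ s, s = o * t * o⁻¹ := ⟨_, rfl⟩
  rw [← es] at ht' t2' yO
  have hy : t * s ∈ KK h.cy hO.le V := ⟨yO, fun v hv => by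
    have i1 := inverts h hi hO h1 h2 h3 h4 ht.1 t2 (hV hv)
    have i2 := inverts h hi hO h1 h2 h3 h4 ht'.1 t2' (hV hv)
    have e : ⁅t * s, v⁆ = (t * (s * v * s⁻¹ * v) * t⁻¹) * (v * (t * v * t⁻¹ * v)⁻¹ * v⁻¹) := by
      simp only [commutatorElement_def]; group
    rw [e]
    exact mul_mem (h.cy.conj_fix (h.cy.CP_fix ht.1) i2)
      (h.cy.conj_fix (h.cy.CP_fix (hO.le (h1 hv))) (inv_mem i1))⟩
  obtain ⟨j, ej⟩ := exists_sqrt (hO.odd.of_dvd_nat (O.orderOf_dvd_natCard yO))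
  have ss := sq_one t2'
  have e1 : t * (t * s) * t⁻¹ = (t * s)⁻¹ := by
    rw [← mul_assoc, tt, one_mul, mul_inv_rev, inv_eq_of_mul_eq_one_right ss]
  have e2 : t * (t * s) ^ j * t⁻¹ = ((t * s) ^ j)⁻¹ := by rw [← conj_pow, e1, inv_pow]
  have e3 : s * (t * s) ^ j = (t * s) ^ j * t := by
    have e4 : ((t * s) ^ j)⁻¹ = (t * s) * (t * s) ^ j := by
      rw [inv_eq_iff_mul_eq_one, (Commute.self_pow (t * s) j).eq, ← mul_assoc, ej]
    have e5 : t * ((t * s) ^ j)⁻¹ * t⁻¹ = (t * s) ^ j := by rw [← conj_inv, e2, inv_inv]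
    calc s * (t * s) ^ j = t * ((t * s) * (t * s) ^ j) := by
          rw [← mul_assoc, ← mul_assoc, tt, one_mul]
      _ = (t * s) ^ j * t := by rw [← e4, ← inv_mul_cancel_right (t * ((t * s) ^ j)⁻¹) t, e5]
  have hz := pow_mem hy j
  have h5 : (t * s) ^ j • c ∈ ln P a (o • c) := by
    rw [← hi a _ hd.symm s ht' t2', mem_fixedBy, ← mul_smul, e3, mul_smul, (mem_CC.1 ht).2]
  obtain ⟨u, hu, e⟩ := exists_P h hd (smul_ne (h.cy.CP_fix (hO.le hz.1)) hc) h5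
  exact ⟨u⁻¹ * (t * s) ^ j, mul_mem (inv_mem (P_le_KK h hi hO h1 h2 h3 hu)) hz, by
    rw [mul_smul, ← e, inv_smul_smul]⟩

end

end C5d

open C5d in
theorem C5.exists_kt (h : C5 P p) (hi : IFx P) {O : Subgroup G} (hO : OT P a O) :
    ∃ K, KT P a K := by
  obtain ⟨V, h1, h2, h3, h4⟩ := exists_V h hO
  have le : KK h.cy hO.le V ≤ O := fun _ hx => hx.1
  refine ⟨KK h.cy hO.le V, ⟨le.trans hO.le, P_le_KK h hi hO h1 h2 h3,
    hO.odd.of_dvd_nat (card_dvd_of_le le), KK_norm h hi hO h1 h2 h3,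
    fun _ _ => KK_tr h hi hO h1 h2 h3 h4⟩, fun x hx c hc e => ?_,
    fun _ hx _ hy => KK_comm h hi hO h1 h2 h3 h4 hx hy,
    fun _ ht t2 _ hx => inverts h hi hO h1 h2 h3 h4 ht t2 hx⟩
  refine h.cy.semi (h.faithful hi (hO.le hx.1) fun d hd => ?_) hc e
  obtain ⟨y, hy, rfl⟩ := KK_tr h hi hO h1 h2 h3 h4 hc hd
  refine mem_St h.cy hd (h.cy.CP_fix (hO.le hx.1)) ?_
  have e1 : x • y • c = ⁅x, y⁆ • y • c := by
    have e2 : x * y = ⁅x, y⁆ * y * x := by simp only [commutatorElement_def]; group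
    rw [← mul_smul, e2, mul_smul, mul_smul, e]
  rw [e1]
  exact P_mem_ln h hd (KK_comm h hi hO h1 h2 h3 h4 hx hy)

end Cfsg.Agent.CY
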