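import Mathlib
import Cfsg.Agent.SY.Main

/-! HS: sets of elements of odd prime order in which any two cyclic subgroups lie in a system. -/

set_option autoImplicit false

namespace Cfsg.Agent.CY

open Subgroup Cfsg.Agent.SY

variable {G : Type*} [Group G]

/-- parallel elements -/
def Par (x y : G) : Prop := (x⁻¹ * y) ^ 4 = 1

/-- A set of elements of odd prime order `p`, closed under conjugation and nontrivial powers, in
which any two cyclic subgroups have generators lying in a common system. -/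
structure HS (p : ℕ) (C : Set G) : Prop where
  prime : p.Prime
  ne_two : p ≠ 2
  ord : ∀ x ∈ C, orderOf x = p
  pow : ∀ x ∈ C, ∀ y ∈ zpowers x, y ≠ 1 → y ∈ C
  conj : ∀ x ∈ C, ∀ y ∈ C, x * y * x⁻¹ ∈ C
  pair : ∀ x ∈ C, ∀ y ∈ C, ∃ A ⊆ C, Sys p A ∧ x ∈ A ∧ ∃ y' ∈ A, y ∈ zpowers y'

/-- the frame of `x` -/
def Fr (C : Set G) (x : G) : Set G := {y | y ∈ C ∧ Par x y}

/-- consistency: being parallel is transitive -/
def Cons (C : Set G) : Prop := ∀ x ∈ C, ∀ y ∈ C, ∀ z ∈ C, Par x y → Par x z → Par y z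

/-- the part of `C` in the subgroup generated by `S` -/
def Sb (C S : Set G) : Set G := C ∩ (closure S : Subgroup G)

/-- the frame of `x` on the line through `x` and `y` -/
def LF (C : Set G) (x y : G) : Set G := Ln (Fr C x) x y

/-- flat lines -/
def Fl (C : Set G) (x y : G) : Prop := ∀ z ∈ LF C x y, (x⁻¹ * z) ^ 2 = 1

/-- the translation group -/
def WH (B : Set G) : Subgroup G := closure {g | ∃ x ∈ B, ∃ y ∈ B, Par x y ∧ g = x⁻¹ * y}

/-- the translations fixing all points -/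
def EH (B : Set G) : Subgroup G := WH B ⊓ centralizer B

/-- `g` maps the elements of `B` to parallel elements -/
def Lin (B : Set G) (g : G) : Prop := ∀ x ∈ B, Par x (g * x * g⁻¹)

/-- `g` maps the elements of `B` to elements parallel to their inverses -/
def Anti (B : Set G) (g : G) : Prop := ∀ x ∈ B, Par x⁻¹ (g * x * g⁻¹)

/-- blocks -/
def Bk (C B : Set G) : Prop :=
  ∃ x ∈ C, ∃ y ∈ C, Par x y ∧ (x⁻¹ * y) ^ 2 ≠ 1 ∧ B = Fx C ((x⁻¹ * y) ^ 2)

/-- the exceptional configuration: all squares are nontrivial and fix only their own line -/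
def Exc (C : Set G) : Prop := ∀ x ∈ C, ∀ y ∈ C, Par x y → x ≠ y →
  (x⁻¹ * y) ^ 2 ≠ 1 ∧ ∀ z ∈ C, Commute ((x⁻¹ * y) ^ 2) z → z ∈ closure ({x, y} : Set G)

/-- the situation for planes through a flat line -/
structure Bs (p : ℕ) (C : Set G) : Prop where
  hs : HS p C
  zc : center G = ⊥
  otwo : ∀ N : Subgroup G, N.Normal → IsPGroup 2 N → N = ⊥
  ih : ∀ a ∈ C, ∀ b ∈ C, ∀ c ∈ C, Par a b → a ≠ b → (a⁻¹ * b) ^ 2 = 1 →
    closure ({a, b, c} : Set G) ≠ ⊤ → Cons (Sb C {a, b, c})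

/-- a flat line all of whose planes are consistent -/
structure Mq (p : ℕ) (C : Set G) (x y : G) : Prop where
  hs : HS p C
  pl : ∀ a ∈ C, ∀ b ∈ C, ∀ c ∈ C, Par a b → a ≠ b → Fl C a b → Cons (Sb C {a, b, c})
  hx : x ∈ C
  hy : y ∈ C
  par : Par x y
  ne : x ≠ y
  fl : Fl C x y

/-- `e v` corrects the translation `v` of the flat line through `x`, `y` to a translation of the
parallel line through `b` -/
structure Hat (C : Set G) (x y b : G) (e : G → G) : Prop where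
  mul : ∀ u ∈ Wg (LF C x y), ∀ v ∈ Wg (LF C x y), e (u * v) = e u * e v
  sq : ∀ v ∈ Wg (LF C x y), e v * e v = 1
  cx : ∀ v ∈ Wg (LF C x y), Commute (e v) x
  cb : ∀ v ∈ Wg (LF C x y), Commute (e v) b
  cv : ∀ v ∈ Wg (LF C x y), ∀ u ∈ Wg (LF C x y), Commute (e v) u
  act : ∀ v ∈ Wg (LF C x y), b * (v * e v) * b⁻¹ = x * v * x⁻¹ * e (x * v * x⁻¹)
  fix : ∀ v ∈ Wg (LF C x y), Commute v b → v = 1
  line : ∃ b' ∈ C, Par b b' ∧ b ≠ b' ∧ Fl C b b' ∧ ∀ v ∈ Wg (LF C x y), v * e v ∈ Wg (LF C b b')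

/-- no flat lines, and the blocks are consistent and proper -/
structure Mn (p : ℕ) (C : Set G) : Prop where
  hs : HS p C
  gen : closure C = ⊤
  nf : ∀ x ∈ C, ∀ y ∈ C, Par x y → x ≠ y → ¬ Fl C x y
  cons : ∀ B, Bk C B → Cons B
  ne : ∀ B, Bk C B → ∃ y ∈ C, y ∉ B
  fx : ∀ B, Bk C B → ∀ e ∈ EH B, e ≠ 1 → Fx C e = B

/-- two blocks, an involution `η` fixing `B'` pointwise and acting on the line through `x` and
`η x η⁻¹` as the translation `u` -/
structure Tr (C B B' : Set G) (η x u : G) : Prop where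
  bk : Bk C B
  bk' : Bk C B'
  ne : B ≠ B'
  mem : η ∈ EH B'
  ne_one : η ≠ 1
  norm : η ∈ normalizer B
  hx : x ∈ B
  hx' : x ∉ B'
  hu : u ∈ Wg (LF C x (η * x * η⁻¹))
  act : u * x * u⁻¹ = η * x * η⁻¹
  cen : ∀ g ∈ closure ({x, η * x * η⁻¹} : Set G), Commute (u⁻¹ * η) g

theorem mem_Fr {C : Set G} {x y : G} : y ∈ Fr C x ↔ y ∈ C ∧ Par x y := Iff.rfl

theorem mem_Sb {C S : Set G} {y : G} : y ∈ Sb C S ↔ y ∈ C ∧ y ∈ closure S := Iff.rfl

theorem mem_LF {C : Set G} {x y z : G} :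
    z ∈ LF C x y ↔ (z ∈ C ∧ Par x z) ∧ z ∈ closure ({x, y} : Set G) := Iff.rfl

theorem par_refl (x : G) : Par x x := by simp [Par]

theorem fl_iff {C : Set G} {x y : G} : Fl C x y ↔ Flat (Fr C x) x y := Iff.rfl

theorem ln_LF {C : Set G} {x y : G} : Ln (LF C x y) x y = LF C x y :=
  Set.ext fun _ => ⟨fun h => h.1, fun h => ⟨h, h.2⟩⟩

theorem fl_iff' {C : Set G} {x y : G} : Fl C x y ↔ Flat (LF C x y) x y := by
  rw [Flat, ln_LF]; rfl

theorem left_mem_LF {C : Set G} {x y : G} (hx : x ∈ C) : x ∈ LF C x y :=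
  left_mem_Ln ⟨hx, par_refl x⟩

theorem right_mem_LF {C : Set G} {x y : G} (hy : y ∈ C) (h : Par x y) : y ∈ LF C x y :=
  right_mem_Ln ⟨hy, h⟩

theorem mem_EH {B : Set G} {e : G} : e ∈ EH B ↔ e ∈ WH B ∧ ∀ z ∈ B, Commute e z :=
  and_congr_right fun _ => ⟨fun h z hz => (h z hz).symm, fun h z hz => (h z hz).symm⟩

end Cfsg.Agent.CY
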