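import Mathlib
import Cfsg.Agent.CY.HDefs

set_option autoImplicit false
set_option linter.unusedSectionVars false

namespace Cfsg.Agent.CY

open Subgroup Cfsg.Agent.SY
open scoped commutatorElement

variable {G : Type*} [Group G] {p : ℕ} {C B S : Set G} {x y z u v w e g a α : G}

theorem Par.symm (h : Par x y) : Par y x := by
  rw [Par, show y⁻¹ * x = (x⁻¹ * y)⁻¹ by group, inv_pow, show (x⁻¹ * y) ^ 4 = 1 from h, inv_one]

theorem Par.conj (h : Par x y) (g : G) : Par (g * x * g⁻¹) (g * y * g⁻¹) := by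
  rw [Par, show (g * x * g⁻¹)⁻¹ * (g * y * g⁻¹) = g * (x⁻¹ * y) * g⁻¹ by group, conj_pow,
    show (x⁻¹ * y) ^ 4 = 1 from h]
  simp

theorem LF_inter {K : Subgroup G} (hx : x ∈ K) (hy : y ∈ K) : LF (C ∩ K) x y = LF C x y := by
  exact Set.ext fun z => ⟨fun h => ⟨⟨h.1.1.1, h.1.2⟩, h.2⟩, fun h =>
    ⟨⟨⟨h.1.1, bas_pair_le hx hy h.2⟩, h.1.2⟩, h.2⟩⟩

theorem conj_WH (hg : g ∈ normalizer B) (hw : w ∈ WH B) : g * w * g⁻¹ ∈ WH B := by
  induction hw using closure_induction with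
  | mem _ h =>
    obtain ⟨a, ha, b, hb, h1, rfl⟩ := h
    exact subset_closure ⟨_, conj_C hg ha, _, conj_C hg hb, h1.conj g, by group⟩
  | one => simp
  | mul a b _ _ ha hb =>
    have : g * (a * b) * g⁻¹ = (g * a * g⁻¹) * (g * b * g⁻¹) := by group
    rw [this]; exact mul_mem ha hb
  | inv a _ ha =>
    have : g * a⁻¹ * g⁻¹ = (g * a * g⁻¹)⁻¹ := by group
    rw [this]; exact inv_mem ha

theorem conj_EH (hg : g ∈ normalizer B) (he : e ∈ EH B) : g * e * g⁻¹ ∈ EH B := by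
  refine mem_EH.2 ⟨conj_WH hg he.1, fun z hz => ?_⟩
  have h1 := ((mem_EH.1 he).2 _ (conj_C (inv_mem hg) hz)).eq
  change g * e * g⁻¹ * z = z * (g * e * g⁻¹)
  calc g * e * g⁻¹ * z = g * (e * (g⁻¹ * z * g⁻¹⁻¹)) * g⁻¹ := by group
    _ = _ := by rw [h1]; group

theorem WH_le : WH B ≤ closure B := by
  exact (closure_le _).2 fun _ ⟨_, hx, _, hy, _, e⟩ =>
    e ▸ mul_mem (inv_mem (subset_closure hx)) (subset_closure hy)

theorem WH_mono (h : B ⊆ C) : WH B ≤ WH C := by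
  exact closure_mono fun _ ⟨x, hx, y, hy, e⟩ => ⟨x, h hx, y, h hy, e⟩

namespace HB

theorem exists_inv (hp : p.Prime) {k : ℕ} (hk : ¬p ∣ k) :
    ∃ j, ¬p ∣ j ∧ ∀ x : G, x ^ p = 1 → x ^ (k * j) = x := by
  obtain ⟨j, -, hj⟩ := Nat.exists_mul_mod_eq_one_of_coprime
    ((Nat.Prime.coprime_iff_not_dvd hp).2 hk).symm hp.one_lt
  refine ⟨j, fun h => ?_, fun x hx => ?_⟩
  · rw [Nat.eq_zero_of_dvd_of_lt (a := p) ((Nat.dvd_mod_iff dvd_rfl).2 (h.mul_left k))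
      (Nat.mod_lt _ hp.pos)] at hj
    exact zero_ne_one hj
  · rw [← Nat.div_add_mod (k * j) p, hj, pow_succ, pow_mul, hx, one_pow, one_mul]

theorem comm_ij {n : ℕ} (hx : x ^ (n + 1) = 1) (hc : ∀ i : ℕ, Commute u (x ^ i * u * (x ^ i)⁻¹))
    (i j : ℕ) : Commute (x ^ i * u * (x ^ i)⁻¹) (x ^ j * u * (x ^ j)⁻¹) := by
  have e : x ^ j = x ^ i * x ^ (n * i + j) := by
    rw [← pow_add, ← add_assoc, show i + n * i = (n + 1) * i by ring, pow_add, pow_mul, hx, one_pow,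
      one_mul]
  have := (hc (n * i + j)).map (MulAut.conj (x ^ i))
  simp only [MulAut.conj_apply] at this
  rw [e]
  convert this using 1
  group

variable [Finite G] (s : Sys p C)
include s

theorem pow_mem_W (hx : x ∈ C) (hy : y ∈ C) (i : ℕ) : (x ^ i)⁻¹ * y ^ i ∈ Wg C := by
  induction i with
  | zero => simp
  | succ i ih =>
    rw [show (x ^ (i + 1))⁻¹ * y ^ (i + 1) = x⁻¹ * ((x ^ i)⁻¹ * y ^ i) * x⁻¹⁻¹ * (x⁻¹ * y) by
      rw [pow_succ, pow_succ]; group]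
    exact mul_mem (conj_Wg (inv_mem (s.C_norm hx)) ih) (mem_Wg hx hy)

theorem dvd_of_four (hx : x ∈ C) (hw : w ∈ Wg C) {i : ℕ} (h : (w * x ^ i) ^ 4 = 1) : p ∣ i := by
  obtain ⟨w', hw', e⟩ := mul_pow_pow (fun k hk => conj_Wg (s.C_norm hx) hk) hw i 4
  rw [h] at e
  have h1 := s.pow_four s.aff (inv_mem hw')
  rw [← eq_inv_of_mul_eq_one_right e.symm, ← pow_mul, ← orderOf_dvd_iff_pow_eq_one, s.ord x hx] at h1
  exact s.cop.dvd_of_dvd_mul_right (s.cop.dvd_of_dvd_mul_right h1)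

theorem par_iff (hx : x ∈ C) (hy : y ∈ C) {k l : ℕ} : Par (x ^ k) (y ^ l) ↔ k ≡ l [MOD p] := by
  refine ⟨fun h => ?_, fun h => ?_⟩
  · have e : (x ^ k)⁻¹ = x ^ ((p - 1) * k) := by rw [pow_mul, ← s.inv_eq hx, inv_pow]
    have h1 := dvd_of_four s hx (s.pow_conj_mem s.aff hx (pow_mem_W s hx hy l) ((p - 1) * k + l))
      (i := (p - 1) * k + l) (by rw [inv_mul_cancel_right, pow_add, ← e]; simpa [Par] using h)
    rw [← s.ord x hx, orderOf_dvd_iff_pow_eq_one, s.ord x hx, pow_add, ← e, inv_mul_eq_one] at h1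
    rwa [← s.ord x hx, ← pow_eq_pow_iff_modEq]
  · rw [← s.ord y hy, ← pow_eq_pow_iff_modEq] at h
    rw [← h]
    exact s.pow_four s.aff (pow_mem_W s hx hy k)

theorem exists_root (hx : x ∈ C) (hg : g ∈ closure C) (hp : g ^ p = 1) (h1 : g ≠ 1) :
    ∃ z ∈ C, ∃ i : ℕ, ¬p ∣ i ∧ g = z ^ i := by
  obtain ⟨w, hw, i, e⟩ := s.exists_mul_pow hx hg
  have hi : ¬p ∣ i := by
    rintro ⟨j, rfl⟩
    rw [pow_mul, s.pow_p hx, one_pow, mul_one] at e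
    exact h1 (s.eq_one_of_pow hp (e ▸ s.pow_four s.aff hw))
  obtain ⟨j, -, hj⟩ := exists_inv (G := G) s.prime hi
  obtain ⟨w', hw', e1⟩ := mul_pow_pow (fun k hk => conj_Wg (s.C_norm hx) hk) hw i j
  rw [← e, hj x (s.pow_p hx)] at e1
  obtain ⟨z, hz, f, hf, e2⟩ := s.exists_pure s.aff hx (conj_Wg (inv_mem (s.C_norm hx)) hw')
  have e3 : g ^ j = z * f := by
    rw [e1, ← mul_right_inj x⁻¹, ← mul_assoc, ← mul_assoc, ← e2, inv_inv]
  have h2 : f = 1 := s.eq_one_of_pow (by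
    have : (z * f) ^ p = 1 := by rw [← e3, ← pow_mul, mul_comm, pow_mul, hp, one_pow]
    rwa [((mem_Eg.1 hf).2 z hz).symm.mul_pow, s.pow_p hz, one_mul] at this) (s.pow_four s.aff hf.1)
  exact ⟨z, hz, i, hi, by rw [← mul_one z, ← h2, ← e3, ← pow_mul, mul_comm, hj g hp]⟩

end HB

namespace HS

variable [Finite G] (h : HS p C)
include h

theorem ne_one (hx : x ∈ C) : x ≠ 1 := by
  exact fun e => h.prime.one_lt.ne (by rw [← h.ord x hx, e, orderOf_one])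

theorem pow_p (hx : x ∈ C) : x ^ p = 1 := by
  rw [← h.ord x hx, pow_orderOf_eq_one]

theorem pow_mem (hx : x ∈ C) {k : ℕ} (hk : ¬ p ∣ k) : x ^ k ∈ C := by
  exact h.pow x hx _ (npow_mem_zpowers x k) fun e => hk (h.ord x hx ▸ orderOf_dvd_of_pow_eq_one e)

theorem inv_mem (hx : x ∈ C) : x⁻¹ ∈ C := by
  exact h.pow x hx _ (Subgroup.inv_mem _ (mem_zpowers x)) (inv_ne_one.2 (h.ne_one hx))

theorem exists_pow (hx : x ∈ C) (hy : y ∈ C) (hm : y ∈ zpowers x) :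
    ∃ k : ℕ, ¬ p ∣ k ∧ y = x ^ k := by
  obtain ⟨k, rfl⟩ := mem_powers_iff_mem_zpowers.2 hm
  exact ⟨k, fun hk => h.ne_one hy (orderOf_dvd_iff_pow_eq_one.1 (h.ord x hx ▸ hk)), rfl⟩

theorem mem_zpowers_symm (hx : x ∈ C) (hy : y ∈ C) (hm : y ∈ zpowers x) : x ∈ zpowers y := by
  rw [eq_of_le_of_card_ge (zpowers_le.2 hm) (by
    rw [Nat.card_zpowers, Nat.card_zpowers, h.ord x hx, h.ord y hy])]
  exact mem_zpowers x

theorem le_norm : closure C ≤ normalizer C := by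
  exact (closure_le _).2 fun x hx => mem_norm_of_conj (h.conj x hx)

theorem conj_mem (hg : g ∈ closure C) (hy : y ∈ C) : g * y * g⁻¹ ∈ C := by
  exact conj_C (h.le_norm hg) hy

theorem sub (K : Subgroup G) : HS p (C ∩ K) := by
  refine ⟨h.prime, h.ne_two, fun x hx => h.ord x hx.1, fun x hx y hy h1 =>
    ⟨h.pow x hx.1 y hy h1, zpowers_le.2 hx.2 hy⟩, fun x hx y hy =>
    ⟨h.conj x hx.1 y hy.1, mul_mem (mul_mem hx.2 hy.2) (Subgroup.inv_mem _ hx.2)⟩, fun x hx y hy => ?_⟩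
  obtain ⟨A, hA, s, xA, y', yA, hm⟩ := h.pair x hx.1 y hy.1
  exact ⟨A ∩ K, Set.inter_subset_inter_left _ hA, s.sub K, ⟨xA, hx.2⟩, y',
    ⟨yA, zpowers_le.2 hy.2 (h.mem_zpowers_symm (hA yA) hy.1 hm)⟩, hm⟩

theorem sb (S : Set G) : HS p (Sb C S) := by
  exact h.sub _

theorem fx (e : G) : HS p (Fx C e) := by
  exact h.sub _

theorem exists_par (hx : x ∈ C) (hy : y ∈ C) : ∃ y' ∈ C, y' ∈ zpowers y ∧ Par x y' := by
  obtain ⟨A, hA, s, xA, y', yA, hm⟩ := h.pair x hx y hy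
  exact ⟨y', hA yA, h.mem_zpowers_symm (hA yA) hy hm, s.four x xA y' yA⟩

theorem par_uniq (hx : x ∈ C) (hy : y ∈ C) (hz : z ∈ C) (hm : z ∈ zpowers y) (h1 : Par x y)
    (h2 : Par x z) : y = z := by
  obtain ⟨A, hA, s, xA, y', yA, hm'⟩ := h.pair x hx y hy
  obtain ⟨k, -, rfl⟩ := h.exists_pow (hA yA) hy hm'
  obtain ⟨l, -, rfl⟩ := h.exists_pow (hA yA) hz (zpowers_le.2 hm' hm)
  rw [← pow_one x] at h1 h2
  rw [pow_eq_pow_iff_modEq, s.ord _ yA]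
  exact ((HB.par_iff s xA yA).1 h1).symm.trans ((HB.par_iff s xA yA).1 h2)

theorem eq_of_par (hx : x ∈ C) (hy : y ∈ C) (hm : y ∈ zpowers x) (h1 : Par x y) : x = y := by
  exact h.par_uniq hx hx hy hm (par_refl x) h1

theorem exA (hx : x ∈ C) (hy : y ∈ C) (h1 : Par x y) : ∃ A ⊆ C, Sys p A ∧ x ∈ A ∧ y ∈ A := by
  obtain ⟨A, hA, s, xA, y', yA, hm⟩ := h.pair x hx y hy
  exact ⟨A, hA, s, xA, h.par_uniq hx (hA yA) hy hm (s.four x xA y' yA) h1 ▸ yA⟩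

theorem exL (hx : x ∈ C) (hy : y ∈ C) : ∃ L ⊆ C, Sys p L ∧ x ∈ L ∧ closure L = closure {x, y} ∧
    ∃ y' ∈ L, y ∈ zpowers y' ∧ Ln L x y' = L ∧ closure ({x, y'} : Set G) = closure {x, y} := by
  obtain ⟨A, hA, s, xA, y', yA, hm⟩ := h.pair x hx y hy
  have e : closure ({x, y'} : Set G) = closure {x, y} := le_antisymm
    (bas_pair_le (subset_closure (.inl rfl)) (zpowers_le.2 (subset_closure (.inr rfl))
      (h.mem_zpowers_symm (hA yA) hy hm)))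
    (bas_pair_le (subset_closure (.inl rfl)) (zpowers_le.2 (subset_closure (.inr rfl)) hm))
  exact ⟨Ln A x y', fun z hz => hA hz.1, s.ln x y', left_mem_Ln xA, (s.closure_ln xA yA).trans e,
    y', right_mem_Ln yA, hm, Set.ext fun _ => ⟨fun h => h.1, fun h => ⟨h, h.2⟩⟩, e⟩

theorem LF_eqA {A : Set G} (hA : A ⊆ C) (s : Sys p A) (hx : x ∈ A) (hy : y ∈ A) :
    LF C x y = Ln A x y := by
  refine Set.ext fun z => ⟨fun hz => ?_, fun hz => ⟨⟨hA hz.1, s.four x hx z hz.1⟩, hz.2⟩⟩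
  obtain ⟨z0, h0, i, -, rfl⟩ := HB.exists_root (s.ln x y) (left_mem_Ln hx)
    ((s.closure_ln hx hy).ge hz.2) (h.pow_p hz.1.1) (h.ne_one hz.1.1)
  have h1 : Par (x ^ 1) (z0 ^ i) := by rw [pow_one]; exact hz.1.2
  have h2 := (HB.par_iff s hx h0.1).1 h1
  rw [← s.ord _ h0.1, ← pow_eq_pow_iff_modEq, pow_one] at h2
  exact h2 ▸ h0

theorem par_pow (hx : x ∈ C) (hy : y ∈ C) (h1 : Par x y) (k : ℕ) : Par (x ^ k) (y ^ k) := by
  obtain ⟨A, -, s, xA, yA⟩ := h.exA hx hy h1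
  exact (HB.par_iff s xA yA).2 rfl

theorem par_inv (hx : x ∈ C) (hy : y ∈ C) (h1 : Par x y) : Par x⁻¹ y⁻¹ := by
  obtain ⟨A, -, s, xA, yA⟩ := h.exA hx hy h1
  rw [s.inv_eq xA, s.inv_eq yA]
  exact h.par_pow hx hy h1 _

theorem par_conj_self (hx : x ∈ C) (hy : y ∈ C) (hg : g ∈ closure ({x, y} : Set G)) :
    Par x (g * x * g⁻¹) := by
  obtain ⟨L, -, s, xL, e, -⟩ := h.exL hx hy
  exact s.four x xL _ (s.conj_mem (e.ge hg) xL)

theorem sysL (hx : x ∈ C) (hy : y ∈ C) (h1 : Par x y) : Sys p (LF C x y) := by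
  obtain ⟨A, hA, s, xA, yA⟩ := h.exA hx hy h1
  rw [h.LF_eqA hA s xA yA]
  exact s.ln x y

theorem closure_LF (hx : x ∈ C) (hy : y ∈ C) (h1 : Par x y) :
    closure (LF C x y) = closure {x, y} := by
  obtain ⟨A, hA, s, xA, yA⟩ := h.exA hx hy h1
  rw [h.LF_eqA hA s xA yA, s.closure_ln xA yA]

theorem LF_eq (hx : x ∈ C) (hy : y ∈ C) (h1 : Par x y) (hu : u ∈ LF C x y) (hv : v ∈ LF C x y)
    (huv : u ≠ v) : Par u v ∧ closure ({u, v} : Set G) = closure {x, y} ∧ LF C u v = LF C x y := by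
  obtain ⟨A, hA, s, xA, yA⟩ := h.exA hx hy h1
  rw [h.LF_eqA hA s xA yA] at hu hv ⊢
  exact ⟨s.four u hu.1 v hv.1, s.closure_eq xA yA hu hv huv,
    (h.LF_eqA hA s hu.1 hv.1).trans (s.ln_eq xA yA hu hv huv)⟩

theorem consL (hx : x ∈ C) (hy : y ∈ C) : Cons (Sb C {x, y}) := by
  obtain ⟨L, -, s, xL, e, -⟩ := h.exL hx hy
  intro a ha b hb c hc h1 h2
  obtain ⟨a, ha', i, -, rfl⟩ := HB.exists_root s xL (e.ge ha.2) (h.pow_p ha.1) (h.ne_one ha.1)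
  obtain ⟨b, hb', j, -, rfl⟩ := HB.exists_root s xL (e.ge hb.2) (h.pow_p hb.1) (h.ne_one hb.1)
  obtain ⟨c, hc', k, -, rfl⟩ := HB.exists_root s xL (e.ge hc.2) (h.pow_p hc.1) (h.ne_one hc.1)
  exact (HB.par_iff s hb' hc').2 (((HB.par_iff s ha' hb').1 h1).symm.trans
    ((HB.par_iff s ha' hc').1 h2))

theorem closure_eq (hx : x ∈ C) (hy : y ∈ C) (hu : u ∈ Sb C {x, y}) (hv : v ∈ Sb C {x, y})
    (huv : v ∉ zpowers u) : closure ({u, v} : Set G) = closure {x, y} := by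
  obtain ⟨L, hL, s, xL, e, y', yL, -, e1, e2⟩ := h.exL hx hy
  obtain ⟨a, ha, i, -, rfl⟩ := HB.exists_root s xL (e.ge hu.2) (h.pow_p hu.1) (h.ne_one hu.1)
  obtain ⟨b, hb, j, -, rfl⟩ := HB.exists_root s xL (e.ge hv.2) (h.pow_p hv.1) (h.ne_one hv.1)
  have a1 := h.mem_zpowers_symm (hL ha) hu.1 (npow_mem_zpowers a i)
  have a2 := h.mem_zpowers_symm (hL hb) hv.1 (npow_mem_zpowers b j)
  refine le_antisymm (bas_pair_le hu.2 hv.2) ?_
  rw [← e2, ← s.closure_eq xL yL (e1.symm ▸ ha) (e1.symm ▸ hb) (by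
    rintro rfl
    exact huv (Subgroup.pow_mem _ a1 j))]
  exact bas_pair_le (zpowers_le.2 (subset_closure (.inl rfl)) a1)
    (zpowers_le.2 (subset_closure (.inr rfl)) a2)

theorem mem_of_ord (hx : x ∈ C) (hy : y ∈ C) (hg : g ∈ closure ({x, y} : Set G))
    (ho : orderOf g = p) : g ∈ C := by
  obtain ⟨L, hL, s, xL, e, -⟩ := h.exL hx hy
  obtain ⟨a, ha, i, hi, rfl⟩ := HB.exists_root s xL (e.ge hg) (ho ▸ pow_orderOf_eq_one g)
    fun e => h.prime.one_lt.ne (by rw [← ho, e, orderOf_one])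
  exact h.pow_mem (hL ha) hi

theorem mem_zpowers_of_commute (hx : x ∈ C) (hy : y ∈ C) (hc : Commute x y) : y ∈ zpowers x := by
  obtain ⟨A, hA, s, xA, y', yA, hm⟩ := h.pair x hx y hy
  obtain ⟨k, hk⟩ := h.mem_zpowers_symm (hA yA) hy hm
  exact s.eq_of_commute xA yA (hk ▸ hc.zpow_right k) ▸ hm

theorem sq_comm (hx : x ∈ C) (hy : y ∈ C) (h1 : Par x y) (hg : g ∈ closure ({x, y} : Set G)) :
    Commute ((x⁻¹ * y) ^ 2) g := by
  obtain ⟨A, -, s, xA, yA⟩ := h.exA hx hy h1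
  refine commute_closure ?_ hg
  rintro _ (rfl | rfl)
  exacts [s.sq _ xA _ yA, s.sq' xA yA]

theorem not_par (hx : x ∈ C) (hy : y ∈ C) (h1 : ¬ Par x y) : ∃ s ∈ C, ∃ e : G,
    x⁻¹ * y = s * e ∧ e * e = 1 ∧ s ∈ closure ({x, y} : Set G) ∧
      ∀ g ∈ closure ({x, y} : Set G), Commute e g := by
  obtain ⟨L, hL, s, xL, e, y', yL, hm, -⟩ := h.exL hx hy
  have hg : x⁻¹ * y ∈ closure L :=
    e.ge (mul_mem (Subgroup.inv_mem _ (subset_closure (.inl rfl))) (subset_closure (.inr rfl)))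
  rw [Par] at h1
  generalize x⁻¹ * y = g at hg h1
  have h2 : g ^ p ∈ Wg L := by
    obtain ⟨w, hw, i, rfl⟩ := s.exists_mul_pow xL hg
    obtain ⟨w', hw', e1⟩ := mul_pow_pow (fun k hk => conj_Wg (s.C_norm xL) hk) hw i p
    rwa [e1, mul_comm i, pow_mul, s.pow_p xL, one_pow, mul_one]
  have h3 := s.pow_four s.aff h2
  have h4 : (g ^ p) ^ (p * p) = g ^ p := by
    obtain ⟨k, hk⟩ := h.prime.odd_of_ne_two h.ne_two
    rw [show p * p = 4 * (k * k + k) + 1 by rw [hk]; ring, pow_succ, pow_mul, h3, one_pow, one_mul]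
  have hE : (g ^ p) ^ p ∈ Wg L := Subgroup.pow_mem _ h2 p
  have c1 : Commute g ((g ^ p) ^ p) := ((Commute.refl g).pow_right p).pow_right p
  obtain ⟨a, ha, i, hi, e1⟩ := HB.exists_root s xL
    (mul_mem hg (Subgroup.inv_mem _ (Wg_le hE))) (by
      rw [c1.inv_right.mul_pow, inv_pow, ← pow_mul (g ^ p), h4, mul_inv_cancel]) fun e1 => h1 (by
      rw [mul_inv_eq_one.1 e1]; exact s.pow_four s.aff hE)
  have aC := h.pow_mem (hL ha) hi
  have c2 : Commute ((g ^ p) ^ p) a := by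
    obtain ⟨k, hk⟩ := h.mem_zpowers_symm (hL ha) aC (npow_mem_zpowers a i)
    rw [← hk, ← e1]
    exact (c1.symm.mul_right (Commute.refl _).inv_right).zpow_right k
  have h5 := s.mem_E s.aff ha hE c2
  exact ⟨a ^ i, aC, _, by rw [← e1, inv_mul_cancel_right], s.E_sq s.aff h5,
    e.le (Subgroup.pow_mem _ (subset_closure ha) i), fun g' hg' => Eg_comm h5 (e.ge hg')⟩

theorem fl_of_mem (hx : x ∈ C) (hy : y ∈ C) (h1 : Par x y) (hf : Fl C x y) (hu : u ∈ LF C x y)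
    (hv : v ∈ LF C x y) : Fl C u v := by
  intro z hz
  by_cases huv : u = v
  · subst huv
    have : z ∈ zpowers u := bas_pair_le (mem_zpowers u) (mem_zpowers u) hz.2
    simp [← h.eq_of_par hu.1.1 hz.1.1 this hz.1.2]
  rw [(h.LF_eq hx hy h1 hu hv huv).2.2] at hz
  exact (h.sysL hx hy h1).flat_pair (left_mem_LF hx) (right_mem_LF hy h1) (fl_iff'.1 hf)
    ⟨hu, hu.2⟩ ⟨hz, hz.2⟩

theorem fl_iff_sq (hx : x ∈ C) (hy : y ∈ C) (h1 : Par x y) :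
    Fl C x y ↔ ∀ w ∈ Wg (LF C x y), w * w = 1 :=
  ⟨fun hf w hw => (h.sysL hx hy h1).flat_sq (left_mem_LF hx) (right_mem_LF hy h1) (fl_iff'.1 hf)
    (by rwa [ln_LF]), fun hf z hz => (pow_two _).trans (hf _ (mem_Wg (left_mem_LF hx) hz))⟩

theorem Wg_pow_le (hx : x ∈ C) (hy : y ∈ C) (h1 : Par x y) {k : ℕ} (hk : ¬ p ∣ k) :
    Wg (LF C (x ^ k) (y ^ k)) ≤ Wg (LF C x y) := by
  have s := h.sysL hx hy h1
  rw [Wg_eq (left_mem_LF (h.pow_mem hx hk)), closure_le]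
  rintro _ ⟨z, hz, rfl⟩
  obtain ⟨a, ha, i, -, rfl⟩ := HB.exists_root s (left_mem_LF hx) (bas_pair_le
    (Subgroup.pow_mem _ (subset_closure (left_mem_LF hx)) k)
    (Subgroup.pow_mem _ (subset_closure (right_mem_LF hy h1)) k) hz.2) (h.pow_p hz.1.1)
    (h.ne_one hz.1.1)
  have h2 := (HB.par_iff s (left_mem_LF hx) ha).1 hz.1.2
  rw [← s.ord _ ha, ← pow_eq_pow_iff_modEq] at h2
  rw [← h2]
  exact HB.pow_mem_W s (left_mem_LF hx) ha k

theorem fl_pow (hx : x ∈ C) (hy : y ∈ C) (h1 : Par x y) {k : ℕ} (hk : ¬ p ∣ k) :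
    (Fl C (x ^ k) (y ^ k) ↔ Fl C x y) ∧ Wg (LF C (x ^ k) (y ^ k)) = Wg (LF C x y) := by
  have e : Wg (LF C (x ^ k) (y ^ k)) = Wg (LF C x y) := by
    refine le_antisymm (h.Wg_pow_le hx hy h1 hk) ?_
    obtain ⟨j, hj, e⟩ := HB.exists_inv (G := G) h.prime hk
    have := h.Wg_pow_le (h.pow_mem hx hk) (h.pow_mem hy hk) (h.par_pow hx hy h1 k) hj
    rwa [← pow_mul, ← pow_mul, e x (h.pow_p hx), e y (h.pow_p hy)] at this
  rw [h.fl_iff_sq hx hy h1, h.fl_iff_sq (h.pow_mem hx hk) (h.pow_mem hy hk) (h.par_pow hx hy h1 k), e]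
  exact ⟨Iff.rfl, rfl⟩

theorem fl_conj (hg : g ∈ normalizer C) (hf : Fl C x y) : Fl C (g * x * g⁻¹) (g * y * g⁻¹) := by
  intro z hz
  have h1 : g⁻¹ * z * g⁻¹⁻¹ ∈ LF C x y := by
    refine ⟨⟨conj_C (Subgroup.inv_mem _ hg) hz.1.1, by simpa [mul_assoc] using hz.1.2.conj g⁻¹⟩, ?_⟩
    exact bas_pair_le (K := (closure {x, y}).comap (MulAut.conj g⁻¹).toMonoidHom)
      (subset_closure (.inl (by simp [mul_assoc]))) (subset_closure (.inr (by simp [mul_assoc]))) hz.2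
  rw [show (g * x * g⁻¹)⁻¹ * z = g * (x⁻¹ * (g⁻¹ * z * g⁻¹⁻¹)) * g⁻¹ by group, conj_pow, hf _ h1]
  simp

theorem fl_of_comm (hx : x ∈ C) (hy : y ∈ C) (hu : u ∈ Wg (LF C x y)) (h1 : Par x y)
    (e : u * x * u⁻¹ = y) (hc : ∀ i : ℕ, Commute u (x ^ i * u * (x ^ i)⁻¹)) : Fl C x y := by
  have s := h.sysL hx hy h1
  have xL : x ∈ LF C x y := left_mem_LF hx
  have c := HB.comm_ij (s.pow_succ_pred xL) hc
  have u2 : Commute (u ^ 2) x := (mem_Eg.1 (s.sq_mem s.aff hu)).2 x xL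
  have e1 : ∀ i : ℕ, x ^ i * (x⁻¹ * y) * (x ^ i)⁻¹ = x ^ (i + (p - 1)) * u * (x ^ (i + (p - 1)))⁻¹ *
      (x ^ i * u * (x ^ i)⁻¹)⁻¹ := fun i => by rw [pow_add, ← s.inv_eq xL, ← e]; group
  have e0 : x⁻¹ * y = _ := (by simp : x⁻¹ * y = x ^ 0 * (x⁻¹ * y) * (x ^ 0)⁻¹).trans (e1 0)
  refine fl_iff'.2 (s.flat_of xL (right_mem_LF hy h1) ?_ fun i => ?_)
  · have c1 := c (0 + (p - 1)) 0
    rw [e0, c1.inv_right.mul_pow, inv_pow, conj_pow, conj_pow, ← (u2.pow_right _).eq]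
    group
  · rw [e1 i, e0]
    exact ((c _ _).mul_right (c _ _).inv_right).mul_left
      ((c _ _).mul_right (c _ _).inv_right).inv_left

theorem f1 (ha : a * a = 1) (hN : a ∈ normalizer C) (hα : α ∈ C) (hc : Commute a α) :
    Lin C a := by
  intro x hx
  by_contra h1
  have hx' := conj_C hN hx
  obtain ⟨s, hs, e, h2, h3, h4, h5⟩ := h.not_par (h.inv_mem hx) (h.inv_mem hx') fun h2 =>
    h1 (by simpa using h.par_inv (h.inv_mem hx) (h.inv_mem hx') h2)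
  have h6 : s ^ 2 = (x⁻¹⁻¹ * (a * x * a⁻¹)⁻¹) ^ 2 := by
    rw [h2, (h5 s h4).symm.mul_pow, pow_two e, h3, mul_one]
  have h7 : a * s ^ 2 * a⁻¹ = (s ^ 2)⁻¹ := by
    rw [h6, ← conj_pow, ← inv_pow]
    congr 1
    calc _ = a * x * a⁻¹ * ((a * a) * x⁻¹ * (a * a)⁻¹) := by group
      _ = _ := by rw [ha]; group
  have h8 : ¬p ∣ 2 := fun h8 => h.ne_two ((Nat.prime_dvd_prime_iff_eq h.prime Nat.prime_two).1 h8)
  obtain ⟨s1, h9, ⟨k, hk⟩, h10⟩ := h.exists_par hα (h.pow_mem hs h8)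
  have h11 := h10.conj a
  rw [hc.eq, mul_inv_cancel_right, ← hk, ← conj_zpow, h7, inv_zpow] at h11
  rw [show (s ^ 2) ^ k = s1 from hk] at h11
  have h12 := h.par_uniq hα h9 (h.inv_mem h9) (Subgroup.inv_mem _ (mem_zpowers s1)) h10 h11
  exact h8 (h.ord _ h9 ▸ orderOf_dvd_of_pow_eq_one (by
    rw [pow_two]; nth_rewrite 1 [h12]; exact inv_mul_cancel s1))

theorem f1u (ha : a * a = 1) (hN : a ∈ normalizer C) (hα : α ∈ C) (hc : Commute a α)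
    (hx : x ∈ C) : ∃ u ∈ Wg (LF C x (a * x * a⁻¹)), u * x * u⁻¹ = a * x * a⁻¹ ∧
      ∀ g ∈ closure ({x, a * x * a⁻¹} : Set G), Commute (u⁻¹ * a) g := by
  have h1 := h.f1 ha hN hα hc x hx
  have hx' := conj_C hN hx
  have s := h.sysL hx hx' h1
  obtain ⟨u, hu, e⟩ := s.exists_conj s.aff (left_mem_LF hx) (right_mem_LF hx' h1)
  have u2 : Commute (u ^ 2) x := (mem_Eg.1 (s.sq_mem s.aff hu)).2 x (left_mem_LF hx)
  refine ⟨u, hu, e, fun g hg => commute_closure ?_ hg⟩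
  rintro g (rfl | rfl)
  · change _ * _ = _ * _
    calc _ = u⁻¹ * (a * g * a⁻¹) * a := by group
      _ = _ := by rw [← e]; group
  · change _ * _ = _ * _
    calc u⁻¹ * a * (a * x * a⁻¹) = u⁻¹ * (a * a) * x * (a * a)⁻¹ * a := by group
      _ = u⁻¹ * (u ^ 2 * x * (u ^ 2)⁻¹) * a := by rw [ha, u2.eq]; group
      _ = _ := by rw [← e, pow_two]; group

section cons

variable (hc : Cons C)
include hc

theorem sysF (hx : x ∈ C) : Sys p (Fr C x) := by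
  refine ⟨h.prime, h.ne_two, fun y hy => h.ord y hy.1, fun y hy z hz => ⟨h.conj y hy.1 z hz.1, ?_⟩,
    fun y hy z hz => h.sq_comm hy.1 hz.1 (hc x hx y hy.1 z hz.1 hy.2 hz.2) (subset_closure (.inl rfl)),
    fun y hy z hz => hc x hx y hy.1 z hz.1 hy.2 hz.2, fun y hy z hz _ u hu v hv huv mu mv => ?_⟩
  · refine hc y hy.1 x hx _ (h.conj y hy.1 z hz.1) hy.2.symm ?_
    simpa using (hc x hx y hy.1 z hz.1 hy.2 hz.2).conj y
  · exact (h.closure_eq hy.1 hz.1 ⟨hu.1, mu⟩ ⟨hv.1, mv⟩ fun hm =>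
      huv (h.eq_of_par hu.1 hv.1 hm (hc x hx u hu.1 v hv.1 hu.2 hv.2))).ge

omit hc in
theorem exists_Fr (hx : x ∈ C) (hy : y ∈ C) : ∃ z ∈ Fr C x, ∃ k : ℕ, ¬p ∣ k ∧ y = z ^ k := by
  obtain ⟨z, hz, hm, h1⟩ := h.exists_par hx hy
  exact ⟨z, ⟨hz, h1⟩, h.exists_pow hz hy (h.mem_zpowers_symm hy hz hm)⟩

theorem closure_Fr (hx : x ∈ C) : closure (Fr C x) = closure C := by
  refine le_antisymm (closure_mono fun _ h => h.1) ((closure_le _).2 fun y hy => ?_)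
  obtain ⟨z, hz, k, -, rfl⟩ := h.exists_Fr hx hy
  exact Subgroup.pow_mem _ (subset_closure hz) k

theorem Fr_eq (hx : x ∈ C) (hy : y ∈ Fr C x) : Fr C y = Fr C x := by
  exact Set.ext fun z => ⟨fun hz => ⟨hz.1, hc y hy.1 x hx z hz.1 hy.2.symm hz.2⟩,
    fun hz => ⟨hz.1, hc x hx y hy.1 z hz.1 hy.2 hz.2⟩⟩

theorem WH_eq (hx : x ∈ C) : WH C = Wg (Fr C x) := by
  have s := h.sysF hc hx
  refine le_antisymm ((closure_le _).2 ?_) (closure_mono ?_)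
  · rintro _ ⟨u, hu, v, hv, h1, rfl⟩
    obtain ⟨a, ha, i, -, rfl⟩ := h.exists_Fr hx hu
    obtain ⟨b, hb, j, -, rfl⟩ := h.exists_Fr hx hv
    have h2 := (HB.par_iff s ha hb).1 h1
    rw [← s.ord _ hb, ← pow_eq_pow_iff_modEq] at h2
    rw [← h2]
    exact HB.pow_mem_W s ha hb i
  · rintro _ ⟨u, hu, v, hv, rfl⟩
    exact ⟨u, hu.1, v, hv.1, s.four u hu v hv, rfl⟩

theorem EH_eq (hx : x ∈ C) : EH C = Eg (Fr C x) := by
  ext e
  rw [mem_EH, mem_Eg, h.WH_eq hc hx]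
  exact and_congr_right fun _ => ⟨fun h1 z hz => h1 z hz.1, fun h1 z hz =>
    commute_closure h1 ((h.closure_Fr hc hx).ge (subset_closure hz))⟩

theorem cg_iff' (hx : x ∈ C) : Cg (Fr C x) u v ↔ u ∈ WH C ∧ u⁻¹ * v ∈ EH C := by
  rw [h.WH_eq hc hx, h.EH_eq hc hx]; rfl

theorem par_k (hg : g ∈ normalizer C) (hx : x ∈ C) {k : ℕ} (hk : ¬p ∣ k)
    (h1 : Par (x ^ k) (g * x * g⁻¹)) (hy : y ∈ C) : Par (y ^ k) (g * y * g⁻¹) := by
  obtain ⟨z, hz, m, -, rfl⟩ := h.exists_Fr hx hy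
  have h2 := hc _ (conj_C hg hx) _ (h.pow_mem hx hk) _ (conj_C hg hz.1) h1.symm (hz.2.conj g)
  have h3 := hc _ (h.pow_mem hx hk) _ (h.pow_mem hz.1 hk) _ (conj_C hg hz.1)
    (h.par_pow hx hz.1 hz.2 k) h2
  rw [← pow_mul, mul_comm m, pow_mul, ← conj_pow]
  exact h.par_pow (h.pow_mem hz.1 hk) (conj_C hg hz.1) h3 m

theorem lin_of (hg : g ∈ normalizer C) (hx : x ∈ C) (h1 : Par x (g * x * g⁻¹)) : Lin C g := by
  intro y hy
  simpa using h.par_k hc hg hx (k := 1) (by simpa using h.prime.one_lt.ne') (by simpa using h1) hy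

theorem lin_norm (hg : g ∈ normalizer C) (hl : Lin C g) (hx : x ∈ C) :
    g ∈ normalizer (Fr C x) := by
  exact mem_norm_of_conj fun y hy => ⟨conj_C hg hy.1,
    hc y hy.1 x hx _ (conj_C hg hy.1) hy.2.symm (hl y hy.1)⟩

theorem lin_of_mem (hg : g ∈ closure C) : Lin C g := by
  intro x hx
  exact ((h.sysF hc hx).conj_mem ((h.closure_Fr hc hx).ge hg) ⟨hx, par_refl x⟩).2

theorem lin_or_anti (hg : g ∈ normalizer C) (hl : Lin C (g * g)) : Lin C g ∨ Anti C g := by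
  rcases C.eq_empty_or_nonempty with rfl | ⟨x, hx⟩
  · exact .inl fun _ h => h.elim
  have hx' := conj_C hg hx
  obtain ⟨x', h1, hm, h2⟩ := h.exists_par hx' hx
  obtain ⟨k, hk, rfl⟩ := h.exists_pow hx h1 hm
  have h3 := fun y (hy : y ∈ C) => h.par_k hc hg hx hk h2.symm hy
  have h4 := h3 _ hx'
  rw [show g * (g * x * g⁻¹) * g⁻¹ = g * g * x * (g * g)⁻¹ by group] at h4
  have m1 := conj_C (mul_mem hg hg) hx
  have h5 := hc _ m1 _ hx _ (h.pow_mem hx' hk) (hl x hx).symm h4.symm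
  have h6 := hc _ (h.pow_mem hx' hk) _ hx _ (h.pow_mem h1 hk) h5.symm (h.par_pow hx' h1 h2 k)
  have h7 := h.eq_of_par hx (h.pow_mem h1 hk) (Subgroup.pow_mem _ hm k) h6
  obtain ⟨k, rfl⟩ : ∃ j, k = j + 1 := ⟨k - 1, by
    have : k ≠ 0 := fun e => hk (e ▸ dvd_zero p)
    omega⟩
  rw [← pow_mul, show (k + 1) * (k + 1) = k * (k + 2) + 1 by ring, pow_succ, right_eq_mul,
    ← orderOf_dvd_iff_pow_eq_one, h.ord x hx] at h7
  rcases (Nat.Prime.dvd_mul h.prime).1 h7 with ⟨j, e⟩ | ⟨j, e⟩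
  · refine .inl fun y hy => ?_
    have := h3 y hy
    rwa [pow_succ, e, pow_mul, h.pow_p hy, one_pow, one_mul] at this
  · refine .inr fun y hy => ?_
    have := h3 y hy
    rwa [eq_inv_of_mul_eq_one_left (a := y ^ (k + 1)) (b := y) (by
      rw [← pow_succ, show k + 1 + 1 = p * j from e, pow_mul, h.pow_p hy, one_pow])] at this

theorem lin_mul {g' : G} (hg : g ∈ normalizer C) (hg' : g' ∈ normalizer C) (h1 : Lin C g)
    (h2 : Lin C g') : Lin C (g * g') := by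
  intro x hx
  have h3 := (h2 x hx).conj g
  rw [show g * (g' * x * g'⁻¹) * g⁻¹ = g * g' * x * (g * g')⁻¹ by group] at h3
  exact hc _ (conj_C hg hx) _ hx _ (conj_C (mul_mem hg hg') hx) (h1 x hx).symm h3

theorem lin_inv (hg : g ∈ normalizer C) (h1 : Lin C g) : Lin C g⁻¹ := by
  intro x hx
  simpa [mul_assoc] using (h1 _ (conj_C (Subgroup.inv_mem _ hg) hx)).symm

theorem anti_mul {g' : G} (hg : g ∈ normalizer C) (hg' : g' ∈ normalizer C) (h1 : Anti C g)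
    (h2 : Anti C g') : Lin C (g * g') := by
  intro x hx
  have h3 := (h2 x hx).conj g
  have h4 := h1 _ (h.inv_mem hx)
  rw [inv_inv] at h4
  rw [show g * (g' * x * g'⁻¹) * g⁻¹ = g * g' * x * (g * g')⁻¹ by group] at h3
  exact hc _ (conj_C hg (h.inv_mem hx)) _ hx _ (conj_C (mul_mem hg hg') hx) h4.symm h3

theorem cg_anti (hg : g ∈ normalizer C) (h1 : Anti C g) (hx : x ∈ C) (hw : w ∈ WH C) :
    Cg (Fr C x) (g * (x * w * x⁻¹) * g⁻¹) (x⁻¹ * (g * w * g⁻¹) * x) := by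
  have hi := h.inv_mem hx
  have s := h.sysF hc hi
  have := s.cg_sigma s.aff ⟨conj_C hg hx, h1 x hx⟩ ⟨hi, par_refl _⟩
    (h.WH_eq hc hi ▸ conj_WH hg hw)
  rw [h.cg_iff' hc hi, ← h.cg_iff' hc hx] at this
  convert this using 1 <;> group

theorem cg_conj' (hg : g ∈ normalizer C) (hx : x ∈ C) (huv : Cg (Fr C x) u v) :
    Cg (Fr C x) (g * u * g⁻¹) (g * v * g⁻¹) := by
  rw [h.cg_iff' hc hx] at huv ⊢
  exact ⟨conj_WH hg huv.1, by simpa [mul_assoc] using conj_EH hg huv.2⟩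

end cons

end HS

end Cfsg.Agent.CY
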