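import Mathlib
import Cfsg.Agent.CY.HBas

set_option autoImplicit false
set_option linter.unusedSectionVars false

namespace Cfsg.Agent.CY

open Subgroup Cfsg.Agent.SY
open scoped commutatorElement

variable {G : Type*} [Group G] [Finite G] {p : ℕ} {C : Set G} {x y z : G}

theorem H3.aux (h : HS p C) (hx : x ∈ C) (hy : y ∈ C) (hz : z ∈ C) (hxy : Par x y)
    (hxz : Par x z) (hyz : Par y z) (hv : (x⁻¹ * y) ^ 2 = 1) :
    Commute (((y⁻¹ * z) ^ 2 * (x⁻¹ * z) ^ 2) ^ 2) y ∧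
    (y⁻¹ * ((x⁻¹ * z) ^ 2 * y * ((x⁻¹ * z) ^ 2)⁻¹)) ^ 2 = 1 ∧
      Commute ((y⁻¹ * z) ^ 2) ((x⁻¹ * z) ^ 2 * y * ((x⁻¹ * z) ^ 2)⁻¹) := by
  have hα := h.sq_comm hx hz hxz (subset_closure (.inl rfl))
  have hβ := h.sq_comm hy hz hyz (subset_closure (.inl rfl))
  have hαC : (x⁻¹ * z) ^ 2 ∈ closure C :=
    pow_mem (mul_mem (inv_mem (subset_closure hx)) (subset_closure hz)) 2
  have hβC : (y⁻¹ * z) ^ 2 ∈ closure C :=
    pow_mem (mul_mem (inv_mem (subset_closure hy)) (subset_closure hz)) 2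
  have hp := h.f1 (bas_sq_sq hxz) (h.le_norm hαC) hx hα y hy
  obtain ⟨v, rfl⟩ : ∃ v, y = x * v := ⟨x⁻¹ * y, by group⟩
  obtain ⟨t, rfl⟩ : ∃ t, z = x * t := ⟨x⁻¹ * z, by group⟩
  have hv1 : v * v = 1 := by simpa [pow_two] using hv
  have e1 : (x * v)⁻¹ * (x * t) = v * t := by
    rw [mul_inv_rev, bas_inv hv1]; group
  rw [Par] at hxz hyz
  rw [e1] at hyz hβ hβC ⊢
  rw [inv_mul_cancel_left] at hxz hα hαC hp ⊢
  have hk := bas_kappa hv1 hxz hyz
  have hα2 := bas_sq_sq hxz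
  set α := t ^ 2
  set β := (v * t) ^ 2
  set κ := v * (α * v * α⁻¹) with hκ
  have hy' : α * (x * v) * α⁻¹ = x * v * κ := by
    rw [hκ, ← mul_assoc α x, hα.eq]
    calc x * α * v * α⁻¹ = x * (v * v) * (α * v * α⁻¹) := by rw [hv1]; group
      _ = _ := by group
  have hy'C : x * v * κ ∈ C := hy' ▸ h.conj_mem hαC hy
  have hf1 : β * α * (x * v * κ) * (β * α)⁻¹ = x * v := by
    rw [← hy']
    calc β * α * (α * (x * v) * α⁻¹) * (β * α)⁻¹
        = β * (α * α) * (x * v) * (α * α)⁻¹ * β⁻¹ := by group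
      _ = x * v := by rw [hα2, mul_one, inv_one, mul_one, hβ.eq]; group
  have hf2 : β * α * (x * v) * (β * α)⁻¹ = x * v * κ * (κ ^ 2)⁻¹ := by
    calc β * α * (x * v) * (β * α)⁻¹
        = β * α * (x * v * κ) * (β * α)⁻¹ * (β * α * κ * (β * α)⁻¹)⁻¹ := by group
      _ = _ := by
        rw [hf1, hk.eq, mul_inv_cancel_right, pow_two]; group
  rw [hy'] at hp
  have hκ2 := h.sq_comm hy hy'C hp (subset_closure (.inr rfl))
  rw [Par, inv_mul_cancel_left] at hp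
  rw [inv_mul_cancel_left] at hκ2
  have h1 : (κ ^ 2)⁻¹ = 1 := Quot.eq_one (h.prime.odd_of_ne_two h.ne_two) (by
    have := h.pow_p (hf2 ▸ h.conj_mem (mul_mem hβC hαC) hy)
    rwa [hκ2.inv_left.symm.mul_pow, h.pow_p hy'C, one_mul] at this) (n := 1)
    (by rw [inv_pow, ← pow_mul, show 2 * 2 ^ 1 = 4 from rfl, hp, inv_one])
  rw [h1, mul_one] at hf2
  have h2 : (β * α) ^ 2 * (x * v) * ((β * α) ^ 2)⁻¹ = x * v := by
    calc (β * α) ^ 2 * (x * v) * ((β * α) ^ 2)⁻¹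
        = β * α * (β * α * (x * v) * (β * α)⁻¹) * (β * α)⁻¹ := by rw [pow_two]; group
      _ = x * v := by rw [hf2, hf1]
  refine ⟨mul_inv_eq_iff_eq_mul.mp h2, by rw [hy', inv_mul_cancel_left, inv_eq_one.1 h1],
    mul_inv_eq_iff_eq_mul.mp ?_⟩
  rw [← hy'] at hf2
  rw [← hf2]
  conv_lhs => rw [hf2]
  group

/-- An element commuting with two points of a line and two points of a second line is trivial. -/
theorem Bs.eq_one (m : Bs p C) (hx : x ∈ C) (hy : y ∈ C) (hz : z ∈ C) (hxy : Par x y)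
    (hxz : Par x z) (hg : closure ({x, y, z} : Set G) = ⊤) {x₁ y₁ z₁ g : G} (hx₁ : x₁ ∈ LF C x y)
    (hy₁ : y₁ ∈ LF C x y) (h1 : x₁ ≠ y₁) (hz₁ : z₁ ∈ LF C x z) (h2 : x ≠ z₁) (c0 : Commute g x₁)
    (c1 : Commute g y₁) (c2 : Commute g x) (c3 : Commute g z₁) : g = 1 := by
  have e1 := (m.hs.LF_eq hx hy hxy hx₁ hy₁ h1).2.1
  have e2 := (m.hs.LF_eq hx hz hxz (left_mem_LF hx) hz₁ h2).2.1
  refine mem_bot.1 (m.zc ▸ mem_center_iff.2 fun c => (commute_closure ?_ (hg ▸ mem_top c)).symm.eq)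
  rintro _ (rfl | rfl | rfl)
  · exact c2
  · refine commute_closure ?_ (e1.ge (subset_closure (.inr rfl)))
    rintro _ (rfl | rfl)
    exacts [c0, c1]
  · refine commute_closure ?_ (e2.ge (subset_closure (.inr rfl)))
    rintro _ (rfl | rfl)
    exacts [c2, c3]

theorem Bs.not_norm (m : Bs p C) (hx : x ∈ C) (hy : y ∈ C) (hxy : Par x y) (hne : x ≠ y)
    (hg : closure ({x, y, z} : Set G) = ⊤) : z ∉ normalizer (Wg (LF C x y) : Set G) := fun hz => by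
  have s := m.hs.sysL hx hy hxy
  have xL : x ∈ LF C x y := left_mem_LF hx
  have yL : y ∈ LF C x y := right_mem_LF hy hxy
  have hn : (Wg (LF C x y)).Normal := by
    rw [← normalizer_eq_top_iff, eq_top_iff, ← hg, closure_le]
    rintro _ (rfl | rfl | rfl)
    exacts [mem_norm_of_conj fun _ => conj_Wg (s.C_norm xL),
      mem_norm_of_conj fun _ => conj_Wg (s.C_norm yL), hz]
  have h1 := mem_Wg xL yL
  rw [m.otwo _ hn (s.isPGroup s.aff), mem_bot, inv_mul_eq_one] at h1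
  exact hne h1

theorem HS.ftrick (h : HS p C) (hx : x ∈ C) (hy : y ∈ C) (hz : z ∈ C) (hxy : Par x y)
    (hxz : Par x z) (hyz : Par y z) (hv : (x⁻¹ * y) ^ 2 = 1) :
    (Commute (((y⁻¹ * z) ^ 2 * (x⁻¹ * z) ^ 2) ^ 2) x ∧
      Commute (((y⁻¹ * z) ^ 2 * (x⁻¹ * z) ^ 2) ^ 2) y ∧
      Commute (((y⁻¹ * z) ^ 2 * (x⁻¹ * z) ^ 2) ^ 2) z) ∧
    (y⁻¹ * ((x⁻¹ * z) ^ 2 * y * ((x⁻¹ * z) ^ 2)⁻¹)) ^ 2 = 1 ∧
      Commute ((y⁻¹ * z) ^ 2) ((x⁻¹ * z) ^ 2 * y * ((x⁻¹ * z) ^ 2)⁻¹) := by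
  have h1 := H3.aux h hx hy hz hxy hxz hyz hv
  have c : ∀ {x}, x ∈ C → Par x z → Commute ((x⁻¹ * z) ^ 2) z := fun hx h1 =>
    h.sq_comm hx hz h1 (subset_closure (.inr rfl))
  refine ⟨⟨?_, h1.1, ((c hy hyz).mul_left (c hx hxz)).pow_left 2⟩, h1.2⟩
  have h2 := (H3.aux h hy hx hz hxy.symm hyz hxz (by
    rw [← inv_eq_one, ← inv_pow, mul_inv_rev, inv_inv]; exact hv)).1.inv_left
  rwa [← inv_pow, mul_inv_rev, bas_inv (bas_sq_sq hxz), bas_inv (bas_sq_sq hyz)] at h2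

theorem Bs.h3 (m : Bs p C) (hx : x ∈ C) (hy : y ∈ C) (hz : z ∈ C) (hxy : Par x y)
    (hxz : Par x z) (hne : x ≠ y) (hf : Fl C x y) (hf' : Fl C x z)
    (hg : closure ({x, y, z} : Set G) = ⊤) : False := by
  have h := m.hs
  have s := h.sysL hx hy hxy
  have s' := h.sysL hx hz hxz
  have xL : x ∈ LF C x y := left_mem_LF hx
  have yL : y ∈ LF C x y := right_mem_LF hy hxy
  have xL' : x ∈ LF C x z := left_mem_LF hx
  have zL : z ∈ LF C x z := right_mem_LF hz hxz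
  have F := fl_iff'.1 hf
  have F' := fl_iff'.1 hf'
  have sq : ∀ a ∈ Wg (LF C x y), a * a = 1 := (h.fl_iff_sq hx hy hxy).1 hf
  have sq' : ∀ a ∈ Wg (LF C x z), a * a = 1 := (h.fl_iff_sq hx hz hxz).1 hf'
  have cm : ∀ a ∈ Wg (LF C x y), ∀ b ∈ Wg (LF C x y), Commute a b := fun a ha b hb =>
    s.flat_comm xL yL F (by rwa [ln_LF]) (by rwa [ln_LF])
  have odd := h.prime.odd_of_ne_two h.ne_two
  obtain ⟨a0, ha0, b, hb, hn⟩ : ∃ a ∈ Wg (LF C x y), ∃ b ∈ Wg (LF C x z), ¬Commute a b := by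
    by_contra h1
    push Not at h1
    refine m.not_norm hx hy hxy hne hg ?_
    rw [← mul_inv_cancel_left x z]
    refine mul_mem (mem_norm_of_conj fun _ => conj_Wg (s.C_norm xL)) (mem_norm_of_conj fun v hv => ?_)
    rwa [← (h1 v hv _ (mem_Wg xL' zL)).eq, mul_inv_cancel_right]
  have b1 : b ≠ 1 := fun e => hn (e ▸ Commute.one_right _)
  have b2 := sq' b hb
  have k1 : ∀ a ∈ Wg (LF C x y), ¬Commute a b → a * b ∈ C := fun a ha hc => by
    have a1 := sq a ha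
    obtain ⟨y₁, hy₁, e1⟩ := s.flat_pure xL yL F (v := a) (by rwa [ln_LF])
    obtain ⟨z₁, hz₁, e2⟩ := s'.flat_pure xL' zL F' (v := b) (by rwa [ln_LF])
    have e3 : y₁⁻¹ * z₁ = a * b := by rw [← bas_inv a1, e1, e2]; group
    have cen : ∀ g, Commute g a → Commute g y₁ → Commute g z₁ → g = 1 := fun g c1 c2 c3 =>
      m.eq_one hx hy hz hxy hxz hg xL hy₁.1 (fun e => hc (by simp [e1, ← e])) hz₁.1
        (fun e => b1 (by simp [e2, ← e])) (by
          have := c2.mul_right c1.inv_right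
          rwa [e1, mul_inv_rev, inv_inv, mul_inv_cancel_left] at this) c2
        (by
          have := c2.mul_right c1.inv_right
          rwa [e1, mul_inv_rev, inv_inv, mul_inv_cancel_left] at this) c3
    have inv : a * (a * b) * a⁻¹ = (a * b)⁻¹ := by
      rw [← mul_assoc, a1, one_mul, mul_inv_rev, bas_inv b2]
    by_cases hp : Par y₁ z₁
    · have c1 := h.sq_comm hy₁.1.1.1 hz₁.1.1.1 hp (subset_closure (.inl rfl))
      have c2 := h.sq_comm hy₁.1.1.1 hz₁.1.1.1 hp (subset_closure (.inr rfl))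
      rw [Par, e3] at hp
      rw [e3] at c1 c2
      have a7 := cen _ (mul_inv_eq_iff_eq_mul.1 (by
        rw [← conj_pow, inv, inv_pow, bas_inv (bas_sq_sq hp)])).symm c1 c2
      have a8 := bas_inv ((pow_two _).symm.trans a7)
      rw [mul_inv_rev, bas_inv a1, bas_inv b2] at a8
      exact (hc a8.symm).elim
    obtain ⟨t, ht, e, e4, e5, e6, e7⟩ := h.not_par hy₁.1.1.1 hz₁.1.1.1 hp
    rw [e3] at e4
    have e8 : (a * b) ^ p = e := by
      obtain ⟨k, hk⟩ := odd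
      rw [e4, (e7 t e6).symm.mul_pow, h.pow_p ht, one_mul, hk, pow_succ, pow_mul, pow_two, e5,
        one_pow, one_mul]
    have := cen e (mul_inv_eq_iff_eq_mul.1 (by
      rw [← e8, ← conj_pow, inv, inv_pow, e8, bas_inv e5])).symm
      (e7 _ (subset_closure (.inl rfl))) (e7 _ (subset_closure (.inr rfl)))
    rwa [e4, this, mul_one]
  have k2 : ∀ a ∈ Wg (LF C x y), a ≠ 1 → a * b ∈ C := fun a ha a1 => k1 a ha fun hc => by
    obtain ⟨a2, ha2, hn2⟩ : ∃ a2 ∈ Wg (LF C x y), ¬Commute a2 b := by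
      by_contra h1
      push Not at h1
      have := s'.flat_irr xL' zL F' (K := centralizer (Wg (LF C x y) : Set G)) (by rwa [ln_LF]) b1
        (fun g hg => h1 g hg) fun k hk g hg => by
          have := hk _ (conj_Wg (Subgroup.inv_mem _ (s.C_norm xL)) hg)
          calc _ = x * (x⁻¹ * g * x⁻¹⁻¹ * k) * x⁻¹ := by group
            _ = _ := by rw [this]; group
      exact hn (h1 a0 ha0)
    have u1 := k1 a2 ha2 hn2
    have u2 := h.pow_p (k1 _ (mul_mem ha ha2) fun h1 => hn2 (by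
      simpa using hc.inv_left.mul_left h1))
    rw [mul_assoc, ((cm a ha a2 ha2).mul_right hc).mul_pow, h.pow_p u1, mul_one] at u2
    exact a1 (Quot.eq_one odd u2 (n := 1) (by simpa [pow_two] using sq a ha))
  have m1 := mem_Wg xL yL
  have n1 : x⁻¹ * y ≠ 1 := fun e => hne (inv_mul_eq_one.1 e)
  have m2 := conj_Wg (s.C_norm xL) m1
  have n2 : x * (x⁻¹ * y) * x⁻¹ ≠ 1 := fun e => n1 (conj_eq_one_iff.1 e)
  have n3 : x⁻¹ * y * (x * (x⁻¹ * y) * x⁻¹) ≠ 1 := fun e => n1 (s.flat_eq_one xL yL F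
    (by rwa [ln_LF]) (mul_inv_eq_iff_eq_mul.1 ((eq_inv_of_mul_eq_one_right e).trans
      (bas_inv (sq _ m1)))).symm)
  generalize x * (x⁻¹ * y) * x⁻¹ = a2 at m2 n2 n3
  generalize x⁻¹ * y = a1 at m1 n1 n3
  have u1 := k2 _ m1 n1
  have u2 := k2 _ m2 n2
  have u3 := k2 _ (mul_mem m1 m2) n3
  have e1 : (a1 * b)⁻¹ * (a2 * b) = b⁻¹ * (a1 * a2) * b⁻¹⁻¹ := by
    nth_rewrite 2 [← bas_inv (sq _ m1)]
    group
  have hD : Cons (Sb C {a1 * b, a2 * b}) := h.consL u1 u2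
  have d1 : a1 * b ∈ Sb C {a1 * b, a2 * b} := ⟨u1, subset_closure (.inl rfl)⟩
  have d2 : a2 * b ∈ Sb C {a1 * b, a2 * b} := ⟨u2, subset_closure (.inr rfl)⟩
  have w1 : (a1 * b)⁻¹ * (a2 * b) ∈ WH (Sb C {a1 * b, a2 * b}) :=
    subset_closure ⟨_, d1, _, d2, by
      rw [Par, e1, conj_pow, show 4 = 2 * 2 from rfl, pow_mul, pow_two (a1 * a2),
        sq _ (mul_mem m1 m2)]
      simp, rfl⟩
  have hbC : b ∈ normalizer C := h.le_norm (closure_mono (fun _ h => h.1.1) (Wg_le hb))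
  have hbD : b ∈ normalizer (Sb C {a1 * b, a2 * b}) := mem_norm_of_conj fun g hg =>
    ⟨conj_C hbC hg.1, bas_pair_le (K := (closure {a1 * b, a2 * b}).comap (MulAut.conj b).toMonoidHom)
      (by
        have := Subgroup.inv_mem _ d1.2
        rw [mul_inv_rev, bas_inv b2, bas_inv (sq _ m1)] at this
        simpa [mul_assoc] using this)
      (by
        have := Subgroup.inv_mem _ d2.2
        rw [mul_inv_rev, bas_inv b2, bas_inv (sq _ m2)] at this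
        simpa [mul_assoc] using this) hg.2⟩
  have w2 := mul_mem (conj_WH hbD w1) w1
  have sD := (h.sb _).sysF hD d1
  rw [(h.sb _).WH_eq hD d1, e1] at w2
  refine h.ne_one u3 (Quot.eq_one odd (h.pow_p u3) (n := 3) ?_)
  rw [show 2 ^ 3 = 2 * 4 from rfl, pow_mul, ← sD.pow_four sD.aff w2, pow_two]
  congr 1
  nth_rewrite 1 [← bas_inv b2]
  group

end Cfsg.Agent.CY
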