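import Mathlib
import Cfsg.Agent.CY.H3

set_option autoImplicit false
set_option linter.unusedSectionVars false

namespace Cfsg.Agent.CY

open Subgroup Cfsg.Agent.SY
open scoped commutatorElement

variable {G : Type*} [Group G] [Finite G] {p : ℕ} {C : Set G} {x y z : G}

theorem Bs.base0 (m : Bs p C) (hx : x ∈ C) (hy : y ∈ C) (hz : z ∈ C) (hxy : Par x y)
    (hxz : Par x z) (hyz : Par y z) (hne : x ≠ y) (hf : Fl C x y) (ha : (x⁻¹ * z) ^ 2 ≠ 1)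
    (hg : closure ({x, y, z} : Set G) = ⊤) : False := by
  have h := m.hs
  have xL : x ∈ LF C x y := left_mem_LF hx
  have yL : y ∈ LF C x y := right_mem_LF hy hxy
  have s := h.sysL hx hy hxy
  have hxz' : x ≠ z := fun e => ha (by simp [e])
  have cen : ∀ g, Commute g x → Commute g y → Commute g z → g = 1 := fun g c1 c2 c3 =>
    m.eq_one hx hy hz hxy hxz hg xL yL hne (right_mem_LF hz hxz) hxz' c1 c2 c1 c3
  have ntop : ∀ {g a b c : G}, g ≠ 1 → Commute g a → Commute g b → Commute g c →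
      closure ({a, b, c} : Set G) ≠ ⊤ := fun {g a b c} g1 c1 c2 c3 e => by
    have : ∀ u, Commute g u := fun u => commute_closure (S := {a, b, c})
      (by rintro _ (rfl | rfl | rfl); exacts [c1, c2, c3]) (e ▸ mem_top u)
    exact g1 (cen g (this _) (this _) (this _))
  have hv := hf y yL
  have hv1 : x⁻¹ * y * (x⁻¹ * y) = 1 := (pow_two _).symm.trans hv
  obtain ⟨-, hκ, βy'⟩ := h.ftrick hx hy hz hxy hxz hyz hv
  have αx := h.sq_comm hx hz hxz (subset_closure (.inl rfl))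
  have αz := h.sq_comm hx hz hxz (subset_closure (.inr rfl))
  have βy := h.sq_comm hy hz hyz (subset_closure (.inl rfl))
  have βz := h.sq_comm hy hz hyz (subset_closure (.inr rfl))
  have α2 := bas_sq_sq hxz
  have αN : (x⁻¹ * z) ^ 2 ∈ normalizer C :=
    h.le_norm (pow_mem (mul_mem (inv_mem (subset_closure hx)) (subset_closure hz)) 2)
  have vt : y⁻¹ * z = x⁻¹ * y * (x⁻¹ * z) := by rw [← bas_inv hv1]; group
  have β1 : (y⁻¹ * z) ^ 2 ≠ 1 := fun e => ha (cen _ αx (by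
    have h1 : x⁻¹ * y * (x⁻¹ * z) * (x⁻¹ * y)⁻¹ = (x⁻¹ * z)⁻¹ := by
      rw [bas_inv hv1, eq_inv_iff_mul_eq_one, ← e, vt, pow_two]; group
    have h2 : Commute ((x⁻¹ * z) ^ 2) (x⁻¹ * y) := (mul_inv_eq_iff_eq_mul.1 (by
      rw [← conj_pow, h1, inv_pow, bas_inv α2])).symm
    simpa using αx.mul_right h2) αz)
  have yy := h.f1 α2 αN hx αx y hy
  have fl' := h.fl_conj αN hf
  have xy' := hxy.conj ((x⁻¹ * z) ^ 2)
  have hy' := conj_C αN hy
  generalize (x⁻¹ * z) ^ 2 = α at *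
  have αx' : α * x * α⁻¹ = x := by rw [αx.eq, mul_inv_cancel_right]
  rw [αx'] at fl' xy'
  have αy' : α * (α * y * α⁻¹) * α⁻¹ = y := by
    calc _ = α * α * y * (α * α)⁻¹ := by group
      _ = y := by rw [α2]; group
  have ny : y ≠ α * y * α⁻¹ := fun e => ha (cen _ αx (mul_inv_eq_iff_eq_mul.1 e.symm) αz)
  have vκ : Commute (y⁻¹ * (α * y * α⁻¹)) (x⁻¹ * y) := by
    have h1 : y⁻¹ * (α * y * α⁻¹) = x⁻¹ * y * (x⁻¹ * (α * y * α⁻¹)) := by
      rw [← bas_inv hv1]; group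
    have h2 := bas_inv ((pow_two _).symm.trans hκ)
    rw [h1, mul_inv_rev, bas_inv hv1,
      bas_inv ((pow_two _).symm.trans (fl' _ (right_mem_LF hy' xy')))] at h2
    rw [h1]
    exact (Commute.refl _).mul_left h2
  generalize hy0 : α * y * α⁻¹ = y' at *
  have c0 := m.ih x hx y hy y' hy' hxy hne hv (m.h3 hx hy hy' hxy xy' hne hf fl')
  have x0 : x ∈ Sb C {x, y, y'} := ⟨hx, subset_closure (.inl rfl)⟩
  have s0 := (h.sb _).sysF c0 x0
  have a0 := s0.aff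
  have xA0 : x ∈ Fr (Sb C {x, y, y'}) x := ⟨x0, par_refl x⟩
  have yA0 : y ∈ Fr (Sb C {x, y, y'}) x := ⟨⟨hy, subset_closure (.inr (.inl rfl))⟩, hxy⟩
  have y'A0 : y' ∈ Fr (Sb C {x, y, y'}) x := ⟨⟨hy', subset_closure (.inr (.inr rfl))⟩, xy'⟩
  have αA0 : α ∈ normalizer (Fr (Sb C {x, y, y'}) x) := mem_norm_of_conj fun g hg =>
    ⟨⟨conj_C αN hg.1.1, (closure_le ((closure {x, y, y'}).comap (MulAut.conj α).toMonoidHom)).2 (by
      rintro _ (rfl | rfl | rfl)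
      exacts [subset_closure (.inl αx'), subset_closure (.inr (.inr hy0)),
        subset_closure (.inr (.inl αy'))]) hg.1.2⟩, by simpa [αx'] using hg.2.conj α⟩
  have sub0 : ∀ {d}, d ∈ Fr (Sb C {x, y, y'}) x → LF C x d ⊆ Fr (Sb C {x, y, y'}) x :=
    fun hd g hg => ⟨⟨hg.1.1, bas_pair_le x0.2 hd.1.2 hg.2⟩, hg.1.2⟩
  generalize hA0 : Fr (Sb C {x, y, y'}) x = A0 at s0 a0 xA0 yA0 y'A0 αA0 sub0
  obtain ⟨d, dA0, e0, he0, e1⟩ := s0.exists_pure a0 xA0 (mem_Wg yA0 y'A0)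
  have cg0 : Cg A0 (x⁻¹ * d) (y⁻¹ * y') := ⟨mem_Wg xA0 dA0, by rwa [e1, inv_mul_cancel_left]⟩
  have nE : x⁻¹ * d ∉ Eg A0 := fun hE => ny (s0.eq_of_cg a0 yA0 yA0 y'A0 (by
    rw [inv_mul_cancel]
    exact s0.cg_trans a0 ((s0.cg_one a0).2 hE) cg0))
  have xd : x ≠ d := fun e => nE (by rw [← e, inv_mul_cancel]; exact one_mem _)
  have hd : d ∈ C := (hA0 ▸ dA0).1.1
  have pd : Par x d := (hA0 ▸ dA0).2
  have αd : α * d * α⁻¹ = d := s0.eq_of_cg a0 xA0 (conj_C αA0 dA0) dA0 (by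
    have h1 := s0.cg_conj a0 αA0 cg0
    rw [show α * (x⁻¹ * d) * α⁻¹ = (α * x * α⁻¹)⁻¹ * (α * d * α⁻¹) by group,
      show α * (y⁻¹ * y') * α⁻¹ = ((α * y' * α⁻¹)⁻¹ * (α * y * α⁻¹))⁻¹ by group, αx', αy', hy0,
      bas_inv ((pow_two _).symm.trans hκ)] at h1
    exact s0.cg_trans a0 h1 (s0.cg_symm a0 cg0))
  have c1 := m.ih x hx d hd z hz pd xd ((s0.cg_sq a0 cg0).trans hκ)
    (ntop ha αx (mul_inv_eq_iff_eq_mul.1 αd) αz)
  have c2 := m.ih y hy y' hy' z hz yy ny hκ (ntop β1 βy βy' βz)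
  have x1 : x ∈ Sb C {x, d, z} := ⟨hx, subset_closure (.inl rfl)⟩
  have y2 : y ∈ Sb C {y, y', z} := ⟨hy, subset_closure (.inl rfl)⟩
  have s1 := (h.sb _).sysF c1 x1
  have s2 := (h.sb _).sysF c2 y2
  have xA1 : x ∈ Fr (Sb C {x, d, z}) x := ⟨x1, par_refl x⟩
  have zA1 : z ∈ Fr (Sb C {x, d, z}) x := ⟨⟨hz, subset_closure (.inr (.inr rfl))⟩, hxz⟩
  have yA2 : y ∈ Fr (Sb C {y, y', z}) y := ⟨y2, par_refl y⟩
  have zA2 : z ∈ Fr (Sb C {y, y', z}) y := ⟨⟨hz, subset_closure (.inr (.inr rfl))⟩, hyz⟩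
  have U0 := Wg_mono (sub0 dA0)
  have U1 : Wg (LF C x d) ≤ Wg (Fr (Sb C {x, d, z}) x) := Wg_mono fun g hg =>
    ⟨⟨hg.1.1, bas_pair_le x1.2 (subset_closure (.inr (.inl rfl))) hg.2⟩, hg.1.2⟩
  obtain ⟨a, ha1, ax⟩ := s.exists_conj s.aff xL yL
  have aW := Wg_mono (sub0 yA0) ha1
  have a2 := (h.fl_iff_sq hx hy hxy).1 hf a ha1
  have ad : a * d * a⁻¹ = y' := s0.eq_of_cg a0 yA0 (conj_C (s0.W_norm aW) dA0) y'A0 (by
    have h1 := s0.cg_conj_W a0 aW cg0.1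
    rw [show a * (x⁻¹ * d) * a⁻¹ = (a * x * a⁻¹)⁻¹ * (a * d * a⁻¹) by group, ax] at h1
    exact s0.cg_trans a0 h1 cg0)
  have aN : a ∈ normalizer C := h.le_norm (closure_mono (fun _ h => h.1.1) (Wg_le ha1))
  have U2 : ∀ b ∈ Wg (LF C x d), a * b * a⁻¹ ∈ Wg (Fr (Sb C {y, y', z}) y) := fun b hb => by
    have h1 := mem_map_of_mem (MulAut.conj a).toMonoidHom hb
    rw [← Wg_image] at h1
    refine Wg_mono ?_ h1
    rintro _ ⟨g, hg, rfl⟩
    exact ⟨⟨conj_C aN hg.1.1, bas_pair_le (K := (closure {y, y', z}).comap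
      (MulAut.conj a).toMonoidHom) (subset_closure (.inl ax)) (subset_closure (.inr (.inl ad))) hg.2⟩,
      ax ▸ hg.1.2.conj a⟩
  generalize Fr (Sb C {x, d, z}) x = A1 at s1 xA1 zA1 U1
  generalize Fr (Sb C {y, y', z}) y = A2 at s2 yA2 zA2 U2
  have sd := h.sysL hx hd pd
  have xD : x ∈ LF C x d := left_mem_LF hx
  have dD : d ∈ LF C x d := right_mem_LF hd pd
  have σU : ∀ b ∈ Wg (LF C x d), x * b * x⁻¹ ∈ Wg (LF C x d) := fun b => conj_Wg (sd.C_norm xD)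
  have hK : ∀ b ∈ Wg (LF C x d) ⊓ centralizer {a}, x * b * x⁻¹ ∈ Wg (LF C x d) ⊓ centralizer {a} :=
    fun b hb => by
      have c := mem_centralizer_singleton_iff.1 hb.2
      have b2 := U2 b hb.1
      rw [← c, mul_inv_cancel_right] at b2
      have e1 := (mem_Eg.1 (s1.cg_sigma s1.aff xA1 zA1 (U1 hb.1)).2).2 z zA1
      have e2 := (mem_Eg.1 (s2.cg_sigma s2.aff yA2 zA2 b2).2).2 z zA2
      have e3 := mem_Eg.1 (s0.comm_mem a0 (inv_mem (U0 (σU b hb.1))) aW)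
      have e4 := cen _ (e3.2 x xA0) (e3.2 y yA0) (by
        have eq : ⁅(x * b * x⁻¹)⁻¹, a⁆ =
            (x * b * x⁻¹)⁻¹ * (z * b * z⁻¹) * ((y * b * y⁻¹)⁻¹ * (z * b * z⁻¹))⁻¹ := by
          rw [← ax, commutatorElement_def]
          calc _ = (x * b * x⁻¹)⁻¹ * (a * x * a⁻¹ * (a * b) * x⁻¹ * a⁻¹) := by group
            _ = _ := by rw [← c]; group
        rw [eq]
        exact e1.mul_left e2.inv_left)
      exact ⟨σU b hb.1, mem_centralizer_singleton_iff.2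
        (by simpa using (commutatorElement_eq_one_iff_commute.1 e4).inv_left.eq)⟩
  have u0 := mem_Wg xD dD
  have b1 : Commute (x⁻¹ * d * (x * (x⁻¹ * d) * x⁻¹)) a := by
    have h1 := s0.cg_commutator a0 cg0 (mem_Wg xA0 yA0)
    have m1 := conj_Wg (inv_mem (s0.C_norm xA0)) aW
    rw [commutatorElement_eq_one_iff_commute.2 vκ, show x⁻¹ * y = x⁻¹ * a * x⁻¹⁻¹ * a by
      rw [← ax, bas_inv a2]; group, s0.comm_mul_right a0 m1 aW cg0.1,
      ← s0.comm_conj a0 (subset_closure xA0) cg0.1 m1,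
      show x * (x⁻¹ * a * x⁻¹⁻¹) * x⁻¹ = a by group] at h1
    rw [← commutatorElement_eq_one_iff_commute, s0.comm_mul_left a0 cg0.1 (U0 (σU _ u0)) aW]
    exact mul_eq_one_comm.1 h1
  obtain ⟨d', hd', e, he, e2⟩ := sd.exists_pure sd.aff xD (mul_mem u0 (σU _ u0))
  have he' := s0.mem_E a0 xA0 (U0 he.1) ((mem_Eg.1 he).2 x xD)
  have UK : Wg (LF C x d) ≤ Wg (LF C x d) ⊓ centralizer {a} := by
    have h1 := sd.Wg_ln_le xD hd' (K := Wg (LF C x d) ⊓ centralizer {a}) ⟨mem_Wg xD hd',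
      mem_centralizer_singleton_iff.2 (by
        have := b1.mul_left (Eg_comm he' (Wg_le aW)).inv_left
        rw [e2, mul_inv_cancel_right] at this
        exact this.eq)⟩ hK
    rwa [sd.ln_eq xD dD (left_mem_Ln xD) ⟨hd', hd'.2⟩ fun e3 => nE (s0.mem_E_of_cg a0 xA0
      (s0.cg_symm a0 (s0.cg_trans a0 (s0.cg_symm a0 (s0.cg_inv a0 cg0.1)) ⟨inv_mem cg0.1, by
        rw [inv_inv, e2, ← e3, inv_mul_cancel, one_mul]; exact he'⟩))), ln_LF] at h1
  have Ua : ∀ u ∈ Wg (LF C x d), Commute u a := fun u hu => mem_centralizer_singleton_iff.1 (UK hu).2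
  have Uv : ∀ u ∈ Wg (LF C x d), Commute u (x⁻¹ * y) := fun u hu => by
    have h1 : Commute u (x⁻¹ * a * x) := by
      simpa [mul_assoc] using (Ua _ (σU u hu)).map (MulAut.conj x⁻¹)
    rw [← ax, ← mul_assoc, ← mul_assoc]
    exact h1.mul_right (Ua u hu).inv_right
  have Ut : ∀ u ∈ Wg (LF C x d), Commute u (x⁻¹ * z) := fun u hu => by
    have e1 := (mem_Eg.1 (s1.comm_mem s1.aff (U1 hu) (mem_Wg xA1 zA1))).2
    have b2 := U2 u hu
    rw [← (Ua u hu).eq, mul_inv_cancel_right] at b2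
    have e2 := ((mem_Eg.1 (s2.comm_mem s2.aff b2 (mem_Wg yA2 zA2))).2 y yA2).map
      (MulAut.conj (x⁻¹ * y)⁻¹)
    refine commutatorElement_eq_one_iff_commute.1 (m.eq_one hx hy hz hxy hxz hg xL
      (conj_C (inv_mem (s.W_norm (mem_Wg xL yL))) yL) (fun e => hne ?_) (right_mem_LF hz hxz) hxz'
      (e1 x xA1) ?_ (e1 x xA1) (e1 z zA1))
    · rw [inv_inv, show (x⁻¹ * y)⁻¹ * y * (x⁻¹ * y) = (x⁻¹ * y)⁻¹ * x * (x⁻¹ * y * (x⁻¹ * y)) by group,
        hv1, mul_one, eq_comm, mul_eq_right, inv_eq_one, inv_mul_eq_one] at e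
      exact e
    · have eq : ⁅u, x⁻¹ * z⁆ = (x⁻¹ * y)⁻¹ * ⁅u, y⁻¹ * z⁆ * (x⁻¹ * y)⁻¹⁻¹ := by
        have c := (Uv u hu).eq
        rw [show y⁻¹ * z = (x⁻¹ * y)⁻¹ * (x⁻¹ * z) by group, commutatorElement_def,
          commutatorElement_def, bas_inv hv1]
        generalize x⁻¹ * y = v at c hv1 ⊢
        generalize x⁻¹ * z = t
        calc _ = (v * v) * (u * t * u⁻¹ * t⁻¹) * (v * v)⁻¹ := by rw [hv1]; group
          _ = v * ((v * u) * t * u⁻¹ * (v * t)⁻¹) * v⁻¹ := by group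
          _ = _ := by rw [← c, bas_inv hv1]; group
      simp only [MulAut.conj_apply] at e2
      rw [eq]
      exact e2
  have nx : x ∈ normalizer (Wg (LF C x d) : Set G) := mem_norm_of_conj σU
  have nc : ∀ g, (∀ u ∈ Wg (LF C x d), Commute u (x⁻¹ * g)) → g ∈ normalizer (Wg (LF C x d) : Set G) :=
    fun g hg => by
      rw [← mul_inv_cancel_left x g]
      exact mul_mem nx (mem_norm_of_conj fun u hu => by rwa [← (hg u hu).eq, mul_inv_cancel_right])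
  have hn : (Wg (LF C x d)).Normal := by
    rw [← normalizer_eq_top_iff, eq_top_iff, ← hg, closure_le]
    rintro _ (rfl | rfl | rfl)
    exacts [nx, nc _ Uv, nc _ Ut]
  rw [m.otwo _ hn (sd.isPGroup sd.aff), mem_bot, inv_mul_eq_one] at u0
  exact xd u0

theorem Bs.base (m : Bs p C) (hx : x ∈ C) (hy : y ∈ C) (hz : z ∈ C) (hxy : Par x y)
    (hne : x ≠ y) (hf : Fl C x y) (hg : closure ({x, y, z} : Set G) = ⊤) : False := by
  have h := m.hs
  have s := h.sysL hx hy hxy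
  have yi : ∀ i : ℕ, x ^ i * y * (x ^ i)⁻¹ ∈ LF C x y := fun i =>
    conj_C (pow_mem (s.C_norm (left_mem_LF hx)) i) (right_mem_LF hy hxy)
  choose f f1 f2 f3 using fun i : Fin p => h.exists_par (yi i).1.1 hz
  obtain ⟨i, j, hij, e⟩ : ∃ i j, i ≠ j ∧ f i = f j := by
    by_contra h1
    push Not at h1
    have hi : Function.Injective fun i => (⟨f i, f2 i⟩ : zpowers z) := fun i j e => by
      by_contra h2
      exact h1 i j h2 (congrArg Subtype.val e)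
    obtain ⟨i, e⟩ := (hi.bijective_of_nat_card_le (by simp [h.ord z hz])).2 1
    exact h.ne_one (f1 i) (congrArg Subtype.val e)
  have hne1 : x ^ (i : ℕ) * y * (x ^ (i : ℕ))⁻¹ ≠ x ^ (j : ℕ) * y * (x ^ (j : ℕ))⁻¹ := fun e => by
    have m1 : (x ^ (j : ℕ))⁻¹ * x ^ (i : ℕ) ∈ zpowers x :=
      mul_mem (inv_mem (npow_mem_zpowers x _)) (npow_mem_zpowers x _)
    refine hne (h.eq_of_par hx hy (zpowers_le.2 m1 (h.mem_zpowers_of_commute (h.pow x hx _ m1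
      fun e1 => hij (Fin.ext ?_)) hy ?_)) hxy)
    · rw [inv_mul_eq_one, pow_eq_pow_iff_modEq, h.ord x hx] at e1
      exact (e1.eq_of_lt_of_lt j.2 i.2).symm
    · change _ * _ = _ * _
      calc _ = (x ^ (j : ℕ))⁻¹ * (x ^ (i : ℕ) * y * (x ^ (i : ℕ))⁻¹) * x ^ (i : ℕ) := by group
        _ = _ := by rw [e]; group
  obtain ⟨p1, e1, -⟩ := h.LF_eq hx hy hxy (yi i) (yi j) hne1
  have fl := h.fl_of_mem hx hy hxy hf (yi i) (yi j)
  have p2 := f3 i
  have p3 := e ▸ f3 j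
  have hz1 := f1 i
  have hx1 := (yi i).1.1
  have hy1 := (yi j).1.1
  have m2 := h.mem_zpowers_symm hz hz1 (f2 i)
  generalize f i = z1 at p2 p3 hz1 m2
  generalize x ^ (i : ℕ) * y * (x ^ (i : ℕ))⁻¹ = x1 at *
  generalize x ^ (j : ℕ) * y * (x ^ (j : ℕ))⁻¹ = y1 at *
  have top : ∀ k, ¬p ∣ k → closure ({x1 ^ k, y1 ^ k, z1 ^ k} : Set G) = ⊤ := fun k hk => by
    have r : ∀ {u}, u ∈ C → u ^ k ∈ ({x1 ^ k, y1 ^ k, z1 ^ k} : Set G) →
        u ∈ closure ({x1 ^ k, y1 ^ k, z1 ^ k} : Set G) := fun hu h1 => zpowers_le.2 (subset_closure h1)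
          (h.mem_zpowers_symm hu (h.pow_mem hu hk) (npow_mem_zpowers _ k))
    have r1 := e1.ge.trans (bas_pair_le (r hx1 (.inl rfl)) (r hy1 (.inr (.inl rfl))))
    rw [eq_top_iff, ← hg, closure_le]
    rintro _ (rfl | rfl | rfl)
    exacts [r1 (subset_closure (.inl rfl)), r1 (subset_closure (.inr rfl)),
      zpowers_le.2 (r hz1 (.inr (.inr rfl))) m2]
  by_cases ht : ∀ k : ℕ, ((x1 ^ k)⁻¹ * z1 ^ k) ^ 2 = 1
  · have s' := h.sysL hx1 hz1 p2
    have xL : x1 ∈ LF C x1 z1 := left_mem_LF hx1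
    have zL : z1 ∈ LF C x1 z1 := right_mem_LF hz1 p2
    have t2 : (x1⁻¹ * z1) ^ 2 = 1 := by simpa using ht 1
    have c : ∀ k : ℕ, Commute (x1⁻¹ * ((x1 ^ k)⁻¹ * z1 ^ k) * x1⁻¹⁻¹) (x1⁻¹ * z1) := fun k => by
      have := s'.mul_sq s'.aff (conj_Wg (inv_mem (s'.C_norm xL)) (HB.pow_mem_W s' xL zL k))
        (mem_Wg xL zL)
      rw [conj_pow, ht k, t2, show x1⁻¹ * ((x1 ^ k)⁻¹ * z1 ^ k) * x1⁻¹⁻¹ * (x1⁻¹ * z1) =
        (x1 ^ (k + 1))⁻¹ * z1 ^ (k + 1) by rw [pow_succ, pow_succ]; group, ht] at this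
      exact commutatorElement_eq_one_iff_commute.1 (by simpa using this.symm)
    refine m.h3 hx1 hy1 hz1 p1 p2 hne1 fl (fl_iff'.2 (s'.flat_of xL zL t2 fun k => ?_))
      (by simpa using top 1 (by simpa using h.prime.one_lt.ne'))
    rcases k with _ | k
    · simp
    have := ((c (k + 1)).mul_left (c k).inv_left).symm.map (MulAut.conj (x1 ^ (k + 1)))
    simp only [MulAut.conj_apply] at this
    convert this.symm using 1
    rw [pow_succ' z1, pow_succ x1]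
    group
  push Not at ht
  obtain ⟨k, hk⟩ := ht
  have hp : ¬p ∣ k := by
    rintro ⟨l, rfl⟩
    exact hk (by rw [pow_mul, pow_mul, h.pow_p hx1, h.pow_p hz1]; simp)
  refine m.base0 (h.pow_mem hx1 hp) (h.pow_mem hy1 hp) (h.pow_mem hz1 hp) (h.par_pow hx1 hy1 p1 k)
    (h.par_pow hx1 hz1 p2 k) (h.par_pow hy1 hz1 p3 k) (fun e => hne1 ?_)
    ((h.fl_pow hx1 hy1 p1 hp).1.2 fl) hk (top k hp)
  obtain ⟨l, -, hl⟩ := HB.exists_inv (G := G) h.prime hp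
  rw [← hl x1 (h.pow_p hx1), pow_mul, e, ← pow_mul, hl y1 (h.pow_p hy1)]

end Cfsg.Agent.CY
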