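import Mathlib
import Cfsg.Agent.CY.HBas

set_option autoImplicit false
set_option linter.unusedSectionVars false

namespace Cfsg.Agent.CY

open Subgroup Cfsg.Agent.SY
open scoped commutatorElement

variable {G H : Type*} [Group G] [Group H] [Finite G] {p : ℕ} {C : Set G} {x y z : G}

theorem HS.map (h : HS p C) (φ : G →* H) (h1 : ∀ x ∈ C, φ x ≠ 1) : HS p (φ '' C) := by
  have := Fact.mk h.prime
  refine ⟨h.prime, h.ne_two, ?_, ?_, ?_, ?_⟩
  · rintro _ ⟨x, hx, rfl⟩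
    exact orderOf_eq_prime (by rw [← map_pow, h.pow_p hx, map_one]) (h1 x hx)
  · rintro _ ⟨x, hx, rfl⟩ _ ⟨k, rfl⟩ h2
    exact ⟨x ^ k, h.pow x hx _ (zpow_mem_zpowers x k) fun e => h2 (by
      change φ x ^ k = 1
      rw [← map_zpow, e, map_one]), map_zpow φ x k⟩
  · rintro _ ⟨x, hx, rfl⟩ _ ⟨y, hy, rfl⟩
    exact ⟨_, h.conj x hx y hy, by simp⟩
  · rintro _ ⟨x, hx, rfl⟩ _ ⟨y, hy, rfl⟩
    obtain ⟨A, hA, s, xA, y', yA, k, rfl⟩ := h.pair x hx y hy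
    exact ⟨φ '' A, Set.image_mono hA, s.map φ fun x hx => h1 x (hA hx), ⟨x, xA, rfl⟩, _,
      ⟨y', yA, rfl⟩, k, (map_zpow φ y' k).symm⟩

theorem HS.par_map [Finite H] (h : HS p C) (φ : G →* H) (h1 : ∀ x ∈ C, φ x ≠ 1) (hx : x ∈ C)
    (hy : y ∈ C) : Par (φ x) (φ y) ↔ Par x y := by
  have h2 : ∀ {x y : G}, Par x y → Par (φ x) (φ y) := fun h => by
    simpa [Par] using congrArg φ h
  refine ⟨fun h3 => ?_, h2⟩
  obtain ⟨y', hy', hm, h4⟩ := h.exists_par hx hy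
  have h5 := (h.map φ h1).par_uniq ⟨x, hx, rfl⟩ ⟨y, hy, rfl⟩ ⟨y', hy', rfl⟩ (by
    obtain ⟨k, rfl⟩ := hm
    exact ⟨k, (map_zpow φ y k).symm⟩) h3 (h2 h4)
  by_contra h6
  exact h1 _ (h.pow y hy (y⁻¹ * y') (mul_mem (Subgroup.inv_mem _ (mem_zpowers y)) hm) fun e =>
    h6 (inv_mul_eq_one.1 e ▸ h4)) (by rw [map_mul, map_inv, h5, inv_mul_cancel])

theorem HS.cons_of_map [Finite H] (h : HS p C) (φ : G →* H) (h1 : ∀ x ∈ C, φ x ≠ 1)
    (hc : Cons (φ '' C)) : Cons C := by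
  exact fun x hx y hy z hz h2 h3 => (h.par_map φ h1 hy hz).1 (hc _ ⟨x, hx, rfl⟩ _ ⟨y, hy, rfl⟩ _
    ⟨z, hz, rfl⟩ ((h.par_map φ h1 hx hy).2 h2) ((h.par_map φ h1 hx hz).2 h3))

theorem HS.ne_one_of_two (h : HS p C) (N : Subgroup G) [N.Normal] (hN : IsPGroup 2 N) :
    ∀ x ∈ C, QuotientGroup.mk' N x ≠ 1 := by
  intro x hx e
  obtain ⟨n, hn⟩ := hN ⟨x, (QuotientGroup.eq_one_iff x).1 e⟩
  exact h.ne_one hx (Quot.eq_one (h.prime.odd_of_ne_two h.ne_two) (h.pow_p hx)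
    (congrArg Subtype.val hn))

theorem HS.cons_of_center (h : HS p C) (hx : x ∈ C) (hz : x ∈ center G) : Cons C := by
  intro a ha b hb c hc h1 h2
  have m : ∀ y ∈ C, y ∈ zpowers x := fun y hy =>
    h.mem_zpowers_of_commute hx hy (mem_center_iff.1 hz y).symm
  exact h.eq_of_par ha hb (zpowers_le.2 (h.mem_zpowers_symm hx ha (m a ha)) (m b hb)) h1 ▸ h2

theorem HS.comap (h : HS p C) (K : Subgroup G) : HS p (K.subtype ⁻¹' C) := by
  refine ⟨h.prime, h.ne_two, fun x hx => by rw [← orderOf_coe]; exact h.ord x hx, ?_,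
    fun x hx y hy => h.conj x hx y hy, fun x hx y hy => ?_⟩
  · rintro x hx _ ⟨k, rfl⟩ h1
    exact h.pow x hx _ ⟨k, rfl⟩ fun e => h1 (Subtype.ext e)
  · obtain ⟨A, hA, s, xA, y', yA, hm⟩ := h.pair x hx y hy
    obtain ⟨k, hk⟩ := hm
    exact ⟨K.subtype ⁻¹' A, fun z hz => hA hz, s.comap K, xA,
      ⟨y', zpowers_le.2 y.2 (h.mem_zpowers_symm (hA yA) hy ⟨k, hk⟩)⟩, yA, k, Subtype.ext hk⟩

theorem cons_of_comap {K : Subgroup G} (h : Cons (K.subtype ⁻¹' C)) : Cons (C ∩ K) := by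
  exact fun x hx y hy z hz h1 h2 => congrArg Subtype.val
    (h ⟨x, hx.2⟩ hx.1 ⟨y, hy.2⟩ hy.1 ⟨z, hz.2⟩ hz.1 (Subtype.ext h1) (Subtype.ext h2))

theorem exc_of_comap {K : Subgroup G} (h : Exc (K.subtype ⁻¹' C)) : Exc (C ∩ K) := by
  intro x hx y hy h1 h2
  obtain ⟨h3, h4⟩ := h ⟨x, hx.2⟩ hx.1 ⟨y, hy.2⟩ hy.1 (Subtype.ext h1)
    fun e => h2 (congrArg Subtype.val e)
  refine ⟨fun e => h3 (Subtype.ext e), fun z hz h5 => ?_⟩
  have := mem_map_of_mem K.subtype (h4 ⟨z, hz.2⟩ hz.1 (Subtype.ext h5))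
  rwa [Quot.map_pair] at this

theorem HS.cons_of_pair (h : HS p C) (hx : x ∈ C) (hy : y ∈ C)
    (hg : C ⊆ (closure ({x, y} : Set G) : Subgroup G)) : Cons C := by
  have := h.consL hx hy
  rwa [Sb, Set.inter_eq_left.2 hg] at this

section three

variable (h : HS 3 C) (hx : x ∈ C) (hy : y ∈ C) (h1 : Par x y)
include h hx hy h1

theorem HQ.LF_three (hz : z ∈ LF C x y) :
    z = x ∨ z = y ∨ z = x * y * x⁻¹ ∨ z = x⁻¹ * y * x := by
  have s := h.sysL hx hy h1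
  have x3 := h.pow_p hx
  have y3 := h.pow_p hy
  have br : x * y * x = y * x * y := by
    have c := (h.sq_comm hx hy h1 (subset_closure (.inl rfl))).eq
    obtain ⟨t, rfl⟩ : ∃ t, y = x * t := ⟨x⁻¹ * y, by group⟩
    rw [Par, inv_mul_cancel_left] at h1
    rw [inv_mul_cancel_left] at c
    calc x * (x * t) * x = x * t⁻¹ * x⁻¹ * (x * t) ^ 3 * t⁻¹ := by
          simp only [pow_succ, pow_zero]; group
      _ = x * t⁻¹ * (x ^ 3 * x⁻¹ * t ^ 4) * t⁻¹ := by rw [y3, x3, h1]; group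
      _ = x * t⁻¹ * (x * (x * t ^ 2)) * t := by simp only [pow_succ, pow_zero]; group
      _ = x * t⁻¹ * (x * (t ^ 2 * x)) * t := by rw [c]
      _ = x * t⁻¹ * (x * t ^ 2) * x * t := by group
      _ = _ := by rw [← c, pow_two]; group
  have e1 : y * x * y⁻¹ = x⁻¹ * y * x := by
    calc _ = x⁻¹ * (x * y * x) * y⁻¹ * (x⁻¹ * x) := by group
      _ = _ := by rw [br]; group
  have hn : closure ({x, y} : Set G) ≤ normalizer ({x, y, x * y * x⁻¹, x⁻¹ * y * x} : Set G) := by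
    refine bas_pair_le (mem_norm_of_conj ?_) (mem_norm_of_conj ?_)
    · rintro _ (rfl | rfl | rfl | rfl)
      · exact .inl (by group)
      · exact .inr (.inr (.inl rfl))
      · refine .inr (.inr (.inr ?_))
        calc _ = x⁻¹ * x ^ 3 * y * (x ^ 3)⁻¹ * x := by simp only [pow_succ, pow_zero]; group
          _ = _ := by rw [x3]; group
      · exact .inr (.inl (by group))
    · rintro _ (rfl | rfl | rfl | rfl)
      · exact .inr (.inr (.inr e1))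
      · exact .inr (.inl (by group))
      · refine .inl ?_
        calc _ = y * x * y * x⁻¹ * y⁻¹ := by group
          _ = _ := by rw [← br]; group
      · refine .inr (.inr (.inl ?_))
        calc _ = y⁻¹ * y ^ 3 * x * y * (y ^ 3)⁻¹ := by
              rw [← e1]; simp only [pow_succ, pow_zero]; group
          _ = y⁻¹ * (x * y * x) * x⁻¹ := by rw [y3]; group
          _ = _ := by rw [br]; group
  obtain ⟨w, hw, rfl⟩ := s.exists_conj s.aff (left_mem_LF hx) hz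
  exact conj_C (hn ((h.closure_LF hx hy h1).le (Wg_le hw))) (.inl rfl)

theorem HQ.sq_three (hz : z ∈ LF C x y) : (x⁻¹ * z) ^ 2 = 1 ∨ (x⁻¹ * z) ^ 2 = (x⁻¹ * y) ^ 2 := by
  have c := (h.sq_comm hx hy h1 (subset_closure (.inl rfl))).eq
  rcases HQ.LF_three h hx hy h1 hz with rfl | rfl | rfl | rfl
  · simp
  · exact .inr rfl
  · refine .inr ?_
    rw [show x⁻¹ * (x * y * x⁻¹) = x * (x⁻¹ * y) * x⁻¹ by group, conj_pow, ← c, mul_inv_cancel_right]
  · refine .inr ?_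
    rw [show x⁻¹ * (x⁻¹ * y * x) = x⁻¹ * (x⁻¹ * y) * x⁻¹⁻¹ by group, conj_pow, inv_inv, mul_assoc, c,
      inv_mul_cancel_left]

theorem HS.fl_three (h2 : (x⁻¹ * y) ^ 2 = 1) : Fl C x y := by
  intro z hz
  rcases HQ.sq_three h hx hy h1 hz with e | e
  exacts [e, e.trans h2]

theorem HS.LF_three (hz : z ∈ LF C x y) :
    z = x ∨ z = y ∨ z = x * y * x⁻¹ ∨ z = x⁻¹ * y * x := by
  exact HQ.LF_three h hx hy h1 hz

theorem HS.EH_three {e : G} (he : e ∈ EH (Sb C {x, y})) : e = 1 ∨ e = (x⁻¹ * y) ^ 2 := by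
  have s := h.sysL hx hy h1
  have xL : x ∈ LF C x y := left_mem_LF hx
  rw [(h.sb _).EH_eq (h.consL hx hy) ⟨hx, xL.2⟩, show Fr (Sb C {x, y}) x = LF C x y from
    Set.ext fun z => and_right_comm] at he
  have h2 : (x⁻¹ * y) ^ 2 * (x⁻¹ * y) ^ 2 = 1 := bas_sq_sq h1
  let K : Subgroup G :=
    { carrier := {k | k = 1 ∨ k = (x⁻¹ * y) ^ 2}
      one_mem' := .inl rfl
      mul_mem' := by rintro _ _ (rfl | rfl) (rfl | rfl) <;> simp [h2]
      inv_mem' := by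
        rintro _ (rfl | rfl)
        exacts [.inl inv_one, .inr (bas_inv h2)] }
  have h3 : ∀ w ∈ Wg (LF C x y), w ^ 2 ∈ K := fun w hw => by
    obtain ⟨z, hz, f, hf, rfl⟩ := s.exists_pure s.aff xL hw
    rw [← s.cg_sq s.aff (u := x⁻¹ * z) ⟨mem_Wg xL hz, by rwa [inv_mul_cancel_left]⟩]
    exact HQ.sq_three h hx hy h1 hz
  have hK : K ≤ Eg (LF C x y) := by
    rintro _ (rfl | rfl)
    exacts [one_mem _, s.gen_sq s.aff xL (right_mem_LF hy h1)]
  obtain ⟨z, hz, k, hk, e1⟩ := s.pure_aux s.aff xL hK (fun u hu v hv => by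
    have := h3 _ (mul_mem hu hv)
    rwa [s.mul_sq s.aff hu hv, mul_mem_cancel_left (mul_mem (h3 u hu) (h3 v hv))] at this)
    (fun z hz => h3 _ (mem_Wg xL hz)) he.1
  have h4 : e * k⁻¹ = 1 :=
    s.eq_one_of_E s.aff xL (mul_mem he (Subgroup.inv_mem _ (hK hk))) (by rw [e1]; simpa using hz)
  exact mul_inv_eq_one.1 h4 ▸ hk

end three

end Cfsg.Agent.CY
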