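import Mathlib
import Cfsg.Agent.CY.HBas

set_option autoImplicit false
set_option linter.unusedSectionVars false

namespace Cfsg.Agent.CY

open Subgroup Cfsg.Agent.SY
open scoped commutatorElement

variable {G : Type*} [Group G] [Finite G] {p : ℕ} {C B B' : Set G} {x y z e g η u v r : G}

namespace Mn

variable (m : Mn p C)
include m

theorem norm (g : G) : g ∈ normalizer C := m.hs.le_norm (m.gen ▸ mem_top g)

theorem mb_sq (hx : x ∈ C) (hy : y ∈ C) (hxy : y ∉ zpowers x) : ∃ z ∈ C, Par x z ∧ (x⁻¹ * z) ^ 2 ≠ 1 ∧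
    closure ({x, z} : Set G) = closure {x, y} := by
  obtain ⟨y', hy', h1, h2⟩ := m.hs.exists_par hx hy
  obtain ⟨z, hz, h3⟩ : ∃ z ∈ LF C x y', (x⁻¹ * z) ^ 2 ≠ 1 := by
    by_contra! k
    exact m.nf x hx y' hy' h2 (fun e => hxy (m.hs.mem_zpowers_symm hy hx (e ▸ h1))) k
  refine ⟨z, hz.1.1, hz.1.2, h3, m.hs.closure_eq hx hy ⟨hx, subset_closure (.inl rfl)⟩ ⟨hz.1.1, (closure_le _).2 ?_ hz.2⟩
    fun h => h3 (by rw [← m.hs.eq_of_par hx hz.1.1 h hz.1.2]; simp)⟩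
  rintro _ (rfl | rfl)
  exacts [subset_closure (.inl rfl), zpowers_le.2 (subset_closure (.inr rfl)) h1]

theorem exists_blk_pair (hx : x ∈ C) (hy : y ∈ C) (hxy : y ∉ zpowers x) :
    ∃ B, Bk C B ∧ x ∈ B ∧ y ∈ B := by
  obtain ⟨z, hz, h1, h2, h3⟩ := m.mb_sq hx hy hxy
  exact ⟨_, ⟨x, hx, z, hz, h1, h2, rfl⟩, mem_Fx.2 ⟨hx, m.hs.sq_comm hx hz h1 (subset_closure (.inl rfl))⟩,
    mem_Fx.2 ⟨hy, m.hs.sq_comm hx hz h1 (h3 ▸ subset_closure (.inr rfl))⟩⟩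

theorem blk_sub (hB : Bk C B) : B ⊆ C := by
  obtain ⟨x, -, y, -, -, -, rfl⟩ := hB
  exact Set.inter_subset_left

theorem blk_hs (hB : Bk C B) : HS p B := by
  obtain ⟨x, -, y, -, -, -, rfl⟩ := hB
  exact m.hs.fx _

theorem blk_closure (hB : Bk C B) (hz : z ∈ C) (h : z ∈ closure B) : z ∈ B := by
  obtain ⟨x, -, y, -, -, -, rfl⟩ := hB
  exact ⟨hz, (closure_le _).2 Set.inter_subset_right h⟩

theorem blk_LF (hB : Bk C B) (hx : x ∈ B) (hy : y ∈ B) :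
    LF B x y = LF C x y ∧ Ln (Fr B x) x y = LF C x y ∧ Wg (LF C x y) ≤ WH B := by
  have a : LF B x y = LF C x y := by
    obtain ⟨x, -, y, -, -, -, rfl⟩ := hB
    exact LF_inter hx.2 hy.2
  exact ⟨a, a, a ▸ (m.blk_hs hB).WH_eq (m.cons B hB) hx ▸ Wg_mono Set.inter_subset_left⟩

theorem blk_two (hB : Bk C B) : ∃ x ∈ B, ∃ y ∈ B, y ∉ zpowers x := by
  obtain ⟨x, hx, y, hy, h1, h2, rfl⟩ := hB
  exact ⟨x, mem_Fx.2 ⟨hx, m.hs.sq_comm hx hy h1 (subset_closure (.inl rfl))⟩, y,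
    mem_Fx.2 ⟨hy, m.hs.sq_comm hx hy h1 (subset_closure (.inr rfl))⟩,
    fun h => h2 (by rw [← m.hs.eq_of_par hx hy h h1]; simp)⟩

theorem E_sq (hB : Bk C B) (he : e ∈ EH B) : e * e = 1 := by
  obtain ⟨x, hx, -⟩ := m.blk_two hB
  have s := (m.blk_hs hB).sysF (m.cons B hB) hx
  exact s.E_sq s.aff ((m.blk_hs hB).EH_eq (m.cons B hB) hx ▸ he)

theorem sq_mem (hB : Bk C B) (hv : v ∈ WH B) : v ^ 2 ∈ EH B := by
  obtain ⟨x, hx, -⟩ := m.blk_two hB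
  have s := (m.blk_hs hB).sysF (m.cons B hB) hx
  exact (m.blk_hs hB).EH_eq (m.cons B hB) hx ▸ s.sq_mem s.aff ((m.blk_hs hB).WH_eq (m.cons B hB) hx ▸ hv)

theorem mb_E (hB : Bk C B) (hx : x ∈ B) (hy : y ∈ B) (h : Par x y) : (x⁻¹ * y) ^ 2 ∈ EH B :=
  m.sq_mem hB (subset_closure ⟨x, hx, y, hy, h, rfl⟩)

theorem blk_E (hB : Bk C B) : ∃ e ∈ EH B, e ≠ 1 := by
  have hB' := hB
  obtain ⟨x, hx, y, hy, h1, h2, e⟩ := hB'
  exact ⟨_, m.mb_E hB (e ▸ mem_Fx.2 ⟨hx, m.hs.sq_comm hx hy h1 (subset_closure (.inl rfl))⟩)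
    (e ▸ mem_Fx.2 ⟨hy, m.hs.sq_comm hx hy h1 (subset_closure (.inr rfl))⟩) h1, h2⟩

theorem blk_eq (hB : Bk C B) (hB' : Bk C B') (he : e ∈ EH B) (he' : e ∈ EH B') (h1 : e ≠ 1) :
    B = B' :=
  (m.fx B hB e he h1).symm.trans (m.fx B' hB' e he' h1)

theorem blk_eq_pair (hB : Bk C B) (hB' : Bk C B') (hx : x ∈ B) (hy : y ∈ B) (hx' : x ∈ B')
    (hy' : y ∈ B') (hxy : y ∉ zpowers x) : B = B' := by
  obtain ⟨z, hz, h1, h2, h3⟩ := m.mb_sq (m.blk_sub hB hx) (m.blk_sub hB hy) hxy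
  have k : ∀ {B}, Bk C B → x ∈ B → y ∈ B → (x⁻¹ * z) ^ 2 ∈ EH B := fun hB hx hy =>
    m.mb_E hB hx (m.blk_closure hB hz (closure_mono (Set.pair_subset hx hy) (h3 ▸ subset_closure (.inr rfl)))) h1
  exact m.blk_eq hB hB' (k hB hx hy) (k hB' hx' hy') h2

theorem exists_notMem (hB : Bk C B) (hB' : Bk C B') (hne : B ≠ B') : ∃ y ∈ B', y ∉ B := by
  obtain ⟨x, hx, y, hy, h⟩ := m.blk_two hB'
  by_contra! k
  exact hne (m.blk_eq_pair hB hB' (k x hx) (k y hy) hx hy h)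

theorem blk_norm (hB : Bk C B) (he : e ∈ EH B) (h1 : e ≠ 1) (hc : Commute g e) :
    g ∈ normalizer B := by
  rw [← m.fx B hB e he h1]
  refine mem_norm_of_conj fun b hb => mem_Fx.2 ⟨conj_C (m.norm g) hb.1, ?_⟩
  exact (hc.symm.mul_right (mem_Fx.1 hb).2).mul_right hc.symm.inv_right

theorem lin_E (hB : Bk C B) (he : e ∈ EH B) : Lin C e := by
  obtain ⟨x, hx, -⟩ := m.blk_two hB
  exact m.hs.f1 (m.E_sq hB he) (m.norm e) (m.blk_sub hB hx) ((mem_EH.1 he).2 x hx)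

theorem lin_or_anti (hB : Bk C B) (hB' : Bk C B') (hv : v ∈ WH B) (hN : v ∈ normalizer B') :
    Lin B' v ∨ Anti B' v :=
  (m.blk_hs hB').lin_or_anti (m.cons B' hB') hN fun x hx => m.lin_E hB (sq v ▸ m.sq_mem hB hv) x (m.blk_sub hB' hx)

theorem mb_u (hB' : Bk C B') (hη : η ∈ EH B') (hx : x ∈ C) : ∃ u ∈ Wg (LF C x (η * x * η⁻¹)),
    u * x * u⁻¹ = η * x * η⁻¹ ∧ ∀ g ∈ closure ({x, η * x * η⁻¹} : Set G), Commute (u⁻¹ * η) g := by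
  obtain ⟨a, ha, -⟩ := m.blk_two hB'
  exact m.hs.f1u (m.E_sq hB' hη) (m.norm η) (m.blk_sub hB' ha) ((mem_EH.1 hη).2 a ha) hx

theorem mb_ne (hB' : Bk C B') (hη : η ∈ EH B') (h1 : η ≠ 1) (hx : x ∈ C) (hx' : x ∉ B') : η * x * η⁻¹ ∉ zpowers x :=
  fun h => hx' (m.fx B' hB' η hη h1 ▸ mem_Fx.2 ⟨hx, mul_inv_eq_iff_eq_mul.1
    (m.hs.eq_of_par hx (conj_C (m.norm η) hx) h (m.lin_E hB' hη x hx)).symm⟩)

theorem mb_W (hB' : Bk C B') (hη : η ∈ EH B') (hx : x ∈ C) (hv : v ∈ Wg (LF C x (η * x * η⁻¹))) :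
    v ∈ closure ({x, η * x * η⁻¹} : Set G) :=
  m.hs.closure_LF hx (conj_C (m.norm η) hx) (m.lin_E hB' hη x hx) ▸ Wg_le hv

theorem exists_tr (hB : Bk C B) (hB' : Bk C B') (hne : B ≠ B') (hη : η ∈ EH B') (h1 : η ≠ 1)
    (hN : η ∈ normalizer B) (hx : x ∈ B) (hx' : x ∉ B') : ∃ u, Tr C B B' η x u := by
  obtain ⟨u, h2, h3, h4⟩ := m.mb_u hB' hη (m.blk_sub hB hx)
  exact ⟨u, hB, hB', hne, hη, h1, hN, hx, hx', h2, h3, h4⟩

theorem exists_tr0 (hB' : Bk C B') (hη : η ∈ EH B') (h1 : η ≠ 1) (hx : x ∈ C) (hx' : x ∉ B') :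
    ∃ B u, Tr C B B' η x u := by
  obtain ⟨u, h2, h3, h4⟩ := m.mb_u hB' hη hx
  obtain ⟨z, hz, h5, h6, h7⟩ := m.mb_sq hx (conj_C (m.norm η) hx) (m.mb_ne hB' hη h1 hx hx')
  have hB : Bk C _ := ⟨x, hx, z, hz, h5, h6, rfl⟩
  have a := mem_Fx.2 ⟨hx, m.hs.sq_comm hx hz h5 (subset_closure (.inl rfl))⟩
  have b := (m.hs.sq_comm hx hz h5 (h7 ▸ m.mb_W hB' hη hx h2)).symm.mul_left (h4 ((x⁻¹ * z) ^ 2) (h7 ▸ pow_mem (mul_mem
    (inv_mem (subset_closure (.inl rfl))) (subset_closure (.inr rfl))) 2))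
  rw [mul_inv_cancel_left] at b
  exact ⟨_, u, hB, hB', fun e => hx' (e ▸ a), hη, h1, m.blk_norm hB (m.mb_E hB a
    (mem_Fx.2 ⟨hz, m.hs.sq_comm hx hz h5 (subset_closure (.inr rfl))⟩) h5) h6 b, a, hx', h2, h3, h4⟩

theorem tr_comm (t : Tr C B B' η x u) (hv : v ∈ Wg (LF C x (η * x * η⁻¹))) :
    Commute v η ↔ Commute v u := by
  have a := (t.cen v (m.mb_W t.bk' t.mem (m.blk_sub t.bk t.hx) hv)).symm
  exact ⟨fun h => by simpa using h.mul_right a.inv_right, fun h => by simpa using h.mul_right a⟩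

theorem tr_ne (t : Tr C B B' η x u) : η * x * η⁻¹ ∈ B ∧ Par x (η * x * η⁻¹) ∧
    η * x * η⁻¹ ∉ zpowers x ∧ u ∈ WH B ∧ u ∉ EH B ∧ Commute u η := by
  have a := conj_C t.norm t.hx
  have b := m.mb_ne t.bk' t.mem t.ne_one (m.blk_sub t.bk t.hx) t.hx'
  refine ⟨a, m.lin_E t.bk' t.mem x (m.blk_sub t.bk t.hx), b, (m.blk_LF t.bk t.hx a).2.2 t.hu, fun h => b ?_,
    (m.tr_comm t t.hu).2 (Commute.refl u)⟩
  rw [← t.act, ((mem_EH.1 h).2 x t.hx).eq, mul_inv_cancel_right]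
  exact mem_zpowers x

theorem tr_uu (t : Tr C B B' η x u) (hv : v ∈ Uu x u) :
    v ∈ Wg (LF C x (η * x * η⁻¹)) ∧ Commute v η ∧ v ∈ normalizer B' := by
  obtain ⟨a, b, -⟩ := m.tr_ne t
  have hx := m.blk_sub t.bk t.hx
  have s := m.hs.sysL hx (m.blk_sub t.bk a) b
  have c := s.Uu_mem s.aff (left_mem_LF hx) t.hu hv
  have d := (m.tr_comm t c).2 (s.Uu_commute s.aff (left_mem_LF hx) t.hu hv)
  exact ⟨c, d, m.blk_norm t.bk' t.mem t.ne_one d⟩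

theorem tr_sq (t : Tr C B B' η x u) : ∃ v ∈ Uu x u, v ^ 2 ≠ 1 := by
  obtain ⟨a, b, c, -⟩ := m.tr_ne t
  have hx := m.blk_sub t.bk t.hx
  have s := m.hs.sysL hx (m.blk_sub t.bk a) b
  by_contra! k
  exact m.nf x hx _ (m.blk_sub t.bk a) b (fun e => c (e ▸ mem_zpowers x))
    (fl_iff'.2 (t.act ▸ s.flat_of_Uu s.aff (left_mem_LF hx) t.hu k))

end Mn

end Cfsg.Agent.CY
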