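import Mathlib
import Cfsg.Agent.CY.MB

set_option autoImplicit false
set_option linter.unusedSectionVars false

namespace Cfsg.Agent.CY

open Subgroup Cfsg.Agent.SY
open scoped commutatorElement

variable {G : Type*} [Group G] [Finite G] {p : ℕ} {C B B' : Set G} {x η u v r : G}

namespace M1

open MM

theorem F_anti (h : HS p B) (hc : Cons B) (hx : x ∈ B) (hN : r ∈ normalizer B) (ha : Anti B r) (o : Option ℕ)
    (hu : u ∈ WH B) : Cg (Fr B x) (r * F x o u * r⁻¹) (F x o (r * u * r⁻¹)) := by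
  have s := h.sysF hc hx
  have a := s.aff
  have hx' : x ∈ Fr B x := ⟨hx, par_refl x⟩
  have hW := h.WH_eq hc hx
  have hr : r * u * r⁻¹ ∈ Wg (Fr B x) := hW ▸ conj_WH hN hu
  have k : ∀ j : ℕ, Cg (Fr B x) (r * (x ^ j * u * (x ^ j)⁻¹) * r⁻¹) ((x ^ j)⁻¹ * (r * u * r⁻¹) * x ^ j) := fun j => by
    induction j with
    | zero => simpa using s.cg_refl a hr
    | succ j ih =>
      have h1 := h.cg_anti hc hN ha hx (hW ▸ conj_Wg (pn s hx' j) (hW ▸ hu))
      have h2 := s.cg_conj a (inv_mem (s.C_norm hx')) ih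
      rw [inv_inv] at h2
      convert s.cg_trans a h1 h2 using 1
      · rw [pow_succ']; group
      · rw [pow_succ]; group
  rcases o with _ | j
  · exact s.cg_refl a hr
  · have e : (x ^ j)⁻¹ = x ^ ((p - 1) * j) := by rw [← inv_pow, s.inv_eq hx', pow_mul]
    have h2 := k ((p - 1) * j)
    rw [← e, inv_inv] at h2
    convert s.cg_trans a (s.cg_mul a (k j) h2) (s.cg_comm a (s.cg_right a (k j)) (s.cg_right a h2)) using 1 <;>
      simp only [F, mul_assoc, inv_mul_cancel_left]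

theorem cg2 {A : Set G} (s : Sys p A) {a a' c c' : G} (h : Cg A a a') (h' : Cg A c c') : ⁅a, c⁆ = ⁅a', c'⁆ := by
  rw [s.cg_commutator s.aff h h'.1, s.comm_symm s.aff (s.cg_right s.aff h) h'.1,
    s.cg_commutator s.aff h' (s.cg_right s.aff h), s.comm_symm s.aff (s.cg_right s.aff h') (s.cg_right s.aff h)]

theorem E_inter (m : Mn p C) (hB : Bk C B) (hB' : Bk C B') (hne : B ≠ B') {e : G} (he : e ∈ EH B) (he' : e ∈ EH B') :
    e = 1 := by_contra fun h1 => hne (m.blk_eq hB hB' he he' h1)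

end M1

namespace Mn

open MM M1

variable (m : Mn p C)
include m

theorem k1 (t : Tr C B B' η x u) (hr : r ∈ WH B') (hN : r ∈ normalizer B) :
    Cg (Fr B x) (r * u * r⁻¹) u := by
  have h := m.blk_hs t.bk
  have hc := m.cons B t.bk
  have s := h.sysF hc t.hx
  have a := s.aff
  have hx : x ∈ Fr B x := ⟨t.hx, par_refl x⟩
  have hW := h.WH_eq hc t.hx
  have hu' := (m.tr_ne t).2.2.2.1
  have hu : u ∈ Wg (Fr B x) := hW ▸ hu'
  have n : r * u * r⁻¹ * u⁻¹ ∈ Wg (Fr B x) := hW ▸ mul_mem (conj_WH hN hu') (inv_mem hu')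
  have k : ∀ o, Cg (Fr B x) (r * F x o u * r⁻¹ * (F x o u)⁻¹) (F x o (r * u * r⁻¹ * u⁻¹)) := fun o => by
    have h1 := F_mul s a hx o n hu
    rw [inv_mul_cancel_right] at h1
    have := s.cg_mul a (s.cg_trans a ((m.lin_or_anti t.bk' t.bk hr hN).elim
      (fun l => F_norm s a hx (h.lin_norm hc hN l t.hx) o hu) fun l => F_anti h hc t.hx hN l o hu') h1)
      (s.cg_refl a (inv_mem (s.Uu_mem a hx hu (F_mem x o u))))
    rwa [mul_inv_cancel_right] at this
  refine s.cg_symm a ((s.cg_iff a hu).2 (s.mem_E a hx n (mul_inv_eq_iff_eq_mul.1 (by_contra fun e => ?_))))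
  have hy := s.conj_mem (Wg_le n) hx
  refine m.nf x (m.blk_sub t.bk t.hx) _ (m.blk_sub t.bk hy.1) hy.2 (Ne.symm e) fun z hz =>
    s.flat_of_Uu a hx n (fun w hw => ?_) z ((m.blk_LF t.bk t.hx hy.1).2.1 ▸ hz)
  obtain ⟨o, rfl⟩ := mem_Uu.1 hw
  rw [← s.cg_sq a (k o)]
  refine E_inter m t.bk t.bk' t.ne (h.EH_eq hc t.hx ▸ s.sq_mem a (k o).1) (m.sq_mem t.bk' ?_)
  simpa only [mul_assoc] using mul_mem hr (conj_WH (m.tr_uu t (F_mem x o u)).2.2 (inv_mem hr))

theorem m1core (hB : Bk C B) (hB' : Bk C B') (hne : B ≠ B') (hv : v ∈ WH B)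
    (hN : v ∈ normalizer B') (hl : Lin B' v)
    (hs : ∀ e ∈ EH B', Commute e (v ^ 2) → Commute e v) : v ^ 2 = 1 := by
  by_contra z1
  obtain ⟨b, hb', hbB⟩ := m.exists_notMem hB hB' hne
  obtain ⟨u, T⟩ := m.exists_tr hB' hB hne.symm (m.sq_mem hB hv) z1 (pow_mem hN 2) hb' hbB
  have h := m.blk_hs hB'
  have hc := m.cons B' hB'
  have s := h.sysF hc hb'
  have a := s.aff
  have hb : b ∈ Fr B' b := ⟨hb', par_refl b⟩
  have vN := h.lin_norm hc hN hl hb'
  have k := m.k1 T hv hN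
  have hu := s.cg_right a k
  obtain ⟨y1, y2, y3, -⟩ := m.tr_ne T
  obtain ⟨t, ht, et⟩ := s.exists_conj a hb (conj_C vN hb)
  have g1 : Cg (Fr B' b) (v * t * v⁻¹ * t) u := (s.cg_iff_conj a hb (mul_mem (conj_Wg vN ht) ht) hu).2 (by
    calc _ = v * t * v⁻¹ * (t * b * t⁻¹) * (v * t * v⁻¹)⁻¹ := by group
      _ = v * (t * b * t⁻¹) * v⁻¹ := by rw [et]; nth_rw 2 [← et]; group
      _ = _ := by rw [et, T.act, sq]; group)
  have g2 : Cg (Fr B' b) (v * t * v⁻¹) (t * u) := by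
    have := s.cg_mul a g1 (s.cg_inv a ht)
    rw [mul_inv_cancel_right] at this
    exact s.cg_trans a this (s.cg_comm a hu ht)
  refine m.nf b (m.blk_sub hB' hb') _ (m.blk_sub hB' y1) y2 (fun e => y3 (e ▸ mem_zpowers b))
    (m.hs.fl_of_comm (m.blk_sub hB' hb') (m.blk_sub hB' y1) T.hu y2 T.act fun j => ?_)
  have hw := conj_Wg (pn s hb j) hu
  have g3 := s.cg_trans a (norm_pow s a hb vN j hu) (s.cg_conj a (pn s hb j) k)
  have e1 := cg2 s g2 g3
  have e2 := cg2 s k g3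
  rw [← conjugate_commutatorElement] at e1 e2
  rw [s.comm_mul_left a ht hu hw] at e1
  have c := hs _ (h.EH_eq hc hb' ▸ s.comm_mem a ht hw) (mul_inv_eq_iff_eq_mul.1 (by
    rw [show ∀ e : G, v ^ 2 * e * (v ^ 2)⁻¹ = v * (v * e * v⁻¹) * v⁻¹ from fun e => by rw [sq]; group, e1,
      show ∀ e f : G, v * (e * f) * v⁻¹ = v * e * v⁻¹ * (v * f * v⁻¹) from fun e f => by group, e1, e2, mul_assoc,
      s.comm_sq a hu hw, mul_one])).symm
  rw [← c.eq, mul_inv_cancel_right] at e1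
  exact commutatorElement_eq_one_iff_commute.1 (by simpa using e1)

theorem m1 (t : Tr C B B' η x u) (hv : v ∈ Wg (LF C x (η * x * η⁻¹))) (hc : Commute v η)
    (hl : Lin B' v) : v ^ 2 = 1 := by
  by_contra z1
  obtain ⟨y1, y2, -, hu, -⟩ := m.tr_ne t
  have hL := (m.blk_LF t.bk t.hx y1).2
  have hN := m.blk_norm t.bk' t.mem t.ne_one hc
  refine z1 (m.m1core t.bk t.bk' t.ne (hL.2 hv) hN hl fun e he hce => ?_)
  have h := m.blk_hs t.bk
  have hc := m.cons B t.bk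
  have s := h.sysF hc t.hx
  have a := s.aff
  have hx : x ∈ Fr B x := ⟨t.hx, par_refl x⟩
  have eB := m.blk_norm t.bk (m.sq_mem t.bk (hL.2 hv)) z1 hce
  have eN := h.lin_norm hc eB (fun z hz => m.lin_E t.bk' he z (m.blk_sub t.bk hz)) t.hx
  let K : Subgroup G :=
    { carrier := {w | Cg (Fr B x) (e * w * e⁻¹) w}
      mul_mem' := fun {c d} h1 h2 => by simpa [mul_assoc] using s.cg_mul a h1 h2
      one_mem' := by simpa using s.cg_refl a (one_mem _)
      inv_mem' := fun {c} h1 => by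
        simpa [mul_assoc] using s.cg_trans a (s.cg_inv a h1.1) (s.cg_trans a h1 (s.cg_symm a (s.cg_inv a (s.cg_right a h1)))) }
  have hn : ∀ k ∈ K, x * k * x⁻¹ ∈ K := fun k hk =>
    s.cg_trans a (s.cg_norm a eN hx (s.cg_right a hk)) (s.cg_conj a (s.C_norm hx) hk)
  have hK : u ∈ K := m.k1 t he.1 eB
  have b : v ∈ K := s.Wg_ln_le hx ⟨y1, y2⟩ (by
    have := mul_mem (conj_pow_mem hn (p - 1) hK) (inv_mem hK)
    rw [← s.inv_eq hx, inv_inv] at this
    simpa only [← t.act, mul_assoc] using this) hn (hL.1 ▸ hv)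
  refine commutatorElement_eq_one_iff_commute.1 (E_inter m t.bk t.bk' t.ne
    (h.EH_eq hc t.hx ▸ (s.cg_iff a (s.cg_right a b)).1 (s.cg_symm a b)) ?_)
  simpa only [commutatorElement_def, mul_assoc] using mul_mem he (conj_EH hN (inv_mem he))

end Mn

end Cfsg.Agent.CY
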