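import Mathlib
import Cfsg.Agent.SY.Main

/-! CY: counting the zeros of a quadratic form (PLAN: QF). -/

set_option autoImplicit false
set_option linter.unusedSectionVars false

namespace Cfsg.Agent.CY

open Subgroup Cfsg.Agent.SY
open scoped commutatorElement

namespace QF

open Finset

open Classical in
theorem csum {H : Type*} [Group H] [Fintype H] (g : H → ℤ) (hg : ∀ a b, g (a * b) = g a * g b) :
    ∑ a, g a = if ∀ a, g a = 1 then (Nat.card H : ℤ) else 0 := by
  split_ifs with h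
  · simp [h]
  · obtain ⟨a, ha⟩ := not_forall.1 h
    have := Equiv.sum_comp (Equiv.mulLeft a) g
    simp only [Equiv.coe_mulLeft, hg, ← mul_sum] at this
    exact mul_left_cancel₀ (sub_ne_zero.2 ha) (by linear_combination this)

theorem fixed {H : Type*} [Finite H] {p : ℕ} (hp : p.Prime) {f : Equiv.Perm H} (fp : f ^ p = 1) {P E : H → Prop}
    (fP : ∀ w, P (f w) ↔ P w) (fE : ∀ w, f w = w ↔ E w) (EP : ∀ w, E w → P w) :
    Nat.card {w // P w} ≡ Nat.card {w // E w} [MOD p] := by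
  classical
  have := Fintype.ofFinite H
  have := Fact.mk hp
  have h := Equiv.Perm.card_compl_support_modEq (p := p) (n := 1) (σ := f.subtypePerm fP) (by
    rw [pow_one, Equiv.Perm.subtypePerm_pow]
    ext w
    simp [fp])
  rw [Nat.card_eq_fintype_card, Nat.card_eq_fintype_card, Fintype.card_subtype E]
  rw [card_bij (t := univ.filter E) (fun a _ => a.1) (fun a ha => ?_) (fun a _ b _ => Subtype.ext) fun b hb => ?_] at h
  · exact h.symm
  · simpa [Subtype.ext_iff, fE] using ha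
  · exact ⟨⟨b, EP b (by simpa using hb)⟩, by simpa [Subtype.ext_iff, fE] using hb, rfl⟩

theorem abs {H : Type*} [Group H] [Finite H] {p : ℕ} (hp : p.Prime) (h2 : p ≠ 2) {q : H → ℤ} {b : H → H → ℤ}
    {E S : Subgroup H} (hq : ∀ u v, q (u * v) = q u * q v * b u v) (q2 : ∀ u, q u = 1 ∨ q u = -1)
    (bl : ∀ u u' v, b (u * u') v = b u v * b u' v) (br : ∀ u v v', b u (v * v') = b u v * b u v')
    (rad : ∀ d, (∀ u, b u d = 1) ↔ d ∈ E) (ES : E ≤ S) (qS : ∀ s ∈ S, q s = 1) (h4 : Nat.card H ≤ 4 * Nat.card S)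
    {f : Equiv.Perm H} (fp : f ^ p = 1) (fq : ∀ w, q (f w) = q w) (fE : ∀ w, f w = w ↔ w ∈ E)
    (cop : ¬ p ∣ Nat.card E) (ne : E ≠ ⊤) : p = 3 := by
  classical
  have := Fintype.ofFinite H
  have cs : ∀ K : Subgroup H, #{w | w ∈ K} = Nat.card K := fun K => by
    rw [Nat.card_eq_fintype_card, Fintype.card_subtype]
  have F1 : ∀ d, ∑ u, b u d = if d ∈ E then (Nat.card H : ℤ) else 0 := fun d => by
    rw [csum _ fun u u' => bl u u' d, if_congr (rad d) rfl rfl]
  have F2 : ∀ w, ∑ s : S, b w s = if ∀ s : S, b w s = 1 then (Nat.card S : ℤ) else 0 := fun w =>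
    csum (fun s : S => b w s) fun s s' => br w s s'
  have T2 : (∑ w, q w) * ∑ w, q w = Nat.card E * Nat.card H := by
    have : ∀ u, q u * ∑ w, q w = ∑ d, q d * b u d := fun u => by
      rw [← Equiv.sum_comp (Equiv.mulLeft u) q, mul_sum]
      refine sum_congr rfl fun d _ => ?_
      rcases q2 u with e | e <;> simp [hq, e]
    rw [sum_mul, sum_congr rfl fun u _ => this u, sum_comm]
    simp only [← mul_sum, F1, mul_ite, mul_zero]
    rw [← sum_filter, sum_congr rfl fun d hd => by rw [qS d (ES (by simpa using hd)), one_mul], sum_const, cs]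
    simp
  set C : Finset H := {w | ∀ s : S, b w s = 1} with hC
  have SC : ({w | w ∈ S} : Finset H) ⊆ C := fun w hw => by
    simp only [hC, mem_filter, mem_univ, true_and] at hw ⊢
    intro s
    simpa [qS _ hw, qS _ s.2, qS _ (mul_mem hw s.2)] using (hq w s).symm
  have c1 : (#C : ℤ) * Nat.card S = Nat.card E * Nat.card H := by
    have : ∑ w, ∑ s : S, b w s = ∑ s : S, ∑ w, b w s := sum_comm
    simp only [F1, F2, ← sum_filter, sum_const, nsmul_eq_mul] at this
    rw [this, ← Nat.card_congr (subgroupOfEquivOfLe ES).toEquiv, Nat.card_eq_fintype_card (α := E.subgroupOf S),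
      Fintype.card_subtype]
    rfl
  have c2 : (∑ w, q w) * Nat.card S = (∑ w ∈ C, q w) * Nat.card S := by
    have : ∀ s : S, ∑ w, q w = ∑ w, q w * b w s := fun s => by
      rw [← Equiv.sum_comp (Equiv.mulRight s.1) q]
      simp [hq, qS _ s.2]
    rw [Nat.card_eq_fintype_card, ← card_univ, mul_comm, ← nsmul_eq_mul, ← sum_const, sum_congr rfl fun s _ => this s,
      sum_comm]
    simp only [← mul_sum, F2, mul_ite, mul_zero, ← sum_filter, ← sum_mul]
    simp [hC]
  have m1 := fixed hp fp (P := fun w => q w = 1) (fun w => by rw [fq]) fE fun w hw => qS w (ES hw)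
  have m2 := fixed hp fp (P := fun _ => True) (fun w => Iff.rfl) fE fun _ _ => trivial
  rw [Nat.card_congr (Equiv.subtypeUnivEquiv fun _ => trivial)] at m2
  have m3 : ∑ w, q w = 2 * Nat.card {w // q w = 1} - Nat.card H := by
    rw [sum_congr rfl (g := fun w => 2 * (if q w = 1 then 1 else 0) - 1) fun w _ => by
      rcases q2 w with e | e <;> simp [e], Nat.card_eq_fintype_card, Fintype.card_subtype]
    rw [sum_sub_distrib, ← mul_sum]
    simp
  have m4 : (p : ℤ) ∣ ∑ w, q w - Nat.card E := by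
    rw [m3, show ∀ a b c : ℤ, 2 * a - b - c = c - b - 2 * (c - a) from fun _ _ _ => by ring]
    exact dvd_sub m2.dvd (m1.dvd.mul_left 2)
  have c3 : Nat.card S ≤ #C := (cs S).ge.trans (card_le_card SC)
  have c4 : #C = Nat.card S → ∑ w, q w = Nat.card S := fun e => by
    rw [mul_right_cancel₀ (by simp) c2, ← eq_of_subset_of_card_le SC (by rw [e, cs]),
      sum_congr rfl fun d hd => qS d (by simpa using hd), sum_const, cs]
    simp
  obtain ⟨n, hn⟩ := card_subgroup_dvd_card E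
  have n1 : n ≠ 1 := fun e => ne (eq_top_of_card_eq _ (by rw [hn, e, mul_one]))
  have e0 : 0 < Nat.card E := Nat.card_pos
  rw [hn] at T2 c1 h4
  generalize ∑ w, q w = T at *
  generalize Nat.card E = e at *
  generalize Nat.card S = s at *
  generalize #C = c at *
  obtain ⟨t, rfl⟩ : (e : ℤ) ∣ T := (Int.pow_dvd_pow_iff two_ne_zero).1 ⟨n, by push_cast at T2; linear_combination T2⟩
  have t2 : t * t = n := mul_left_cancel₀ (a := (e : ℤ) * e) (by positivity) (by push_cast at T2; linear_combination T2)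
  have c5 : c * s = e * (e * n) := by exact_mod_cast c1
  have n16 : n ≤ 16 := by
    have a1 : e * n * (e * n) ≤ 4 * s * (4 * c) := Nat.mul_le_mul h4 (by omega)
    rcases n.eq_zero_or_pos with rfl | n0
    · omega
    exact Nat.le_of_mul_le_mul_left (show e * e * n * n ≤ e * e * n * 16 by nlinarith) (by positivity)
  have pt : (p : ℤ) ∣ t - 1 := ((Int.prime_iff_natAbs_prime.2 (by simpa using hp)).dvd_or_dvd
    (show (p : ℤ) ∣ e * (t - 1) by rwa [mul_sub, mul_one])).resolve_left fun h => cop (by exact_mod_cast h)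
  have t4 : t ≠ -4 := by
    rintro rfl
    obtain rfl : n = 16 := by omega
    have : c = s := by nlinarith
    have := c4 this
    omega
  have a1 : -4 ≤ t := by nlinarith
  have a2 : t ≤ 4 := by nlinarith
  have p2 := hp.two_le
  rw [Int.natCast_dvd] at pt
  have p5 : t ≠ 1 → p ≤ 5 := fun h => (Nat.le_of_dvd (by omega) pt).trans (by omega)
  have := p5 (by rintro rfl; omega)
  interval_cases p <;> first | rfl | omega | (exact absurd hp (by decide)) | (interval_cases t <;> omega)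

end QF

variable {G : Type*} [Group G] [Finite G] {p : ℕ} {A : Set G} {x y z : G}

theorem qf (h : Sys p A) (hx : x ∈ A) (hy : y ∈ A) (hA : Ln A x y = A) (hf : ¬ Flat A x y)
    (hq : ∀ w ∈ Wg A, w ^ 2 = 1 ∨ w ^ 2 = z) {S : Subgroup G} (hS : S ≤ Wg A) (hE : Eg A ≤ S)
    (h4 : Nat.card (Wg A) ≤ 4 * Nat.card S) (hs : ∀ s ∈ S, s ^ 2 = 1) : p = 3 := by
  classical
  have ha := h.aff
  have nab : ¬ Wg A ≤ centralizer (Wg A) := fun hc => hf fun v hv => by
    obtain ⟨w, hw, rfl⟩ := h.exists_conj ha hx hv.1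
    have h1 : x⁻¹ * w * x⁻¹⁻¹ ∈ Wg A := conj_Wg (inv_mem (h.C_norm hx)) hw
    have h2 := Sys.E_conj (h.sq_mem ha hw) (inv_mem (subset_closure hx))
    rw [show x⁻¹ * (w * x * w⁻¹) = x⁻¹ * w * x⁻¹⁻¹ * w⁻¹ by group, h.mul_sq ha h1 (inv_mem hw), conj_pow, h2,
      commutatorElement_eq_one_iff_mul_comm.2 (hc (inv_mem hw) _ h1)]
    simp
  obtain ⟨z1, zz⟩ : z ≠ 1 ∧ z * z = 1 := by
    obtain ⟨v, hv⟩ := not_forall.1 hf
    obtain ⟨h1, h2⟩ := Classical.not_imp.1 hv
    rw [← (hq _ (mem_Wg hx h1.1)).resolve_left h2]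
    exact ⟨h2, h.E_sq ha (h.gen_sq ha hx h1.1)⟩
  let χ : G → ℤ := fun g => if g = 1 then 1 else -1
  have m1 : ∀ a b, a = 1 ∨ a = z → b = 1 ∨ b = z → (a * b = 1 ∨ a * b = z) ∧ χ (a * b) = χ a * χ b := by
    rintro _ _ (rfl | rfl) (rfl | rfl) <;> simp [χ, z1, zz]
  have m2 : ∀ u ∈ Wg A, ∀ v ∈ Wg A, ⁅u, v⁆ = 1 ∨ ⁅u, v⁆ = z := fun u hu v hv => by
    have h1 := hq _ (mul_mem hu hv)
    rw [h.mul_sq ha hu hv] at h1
    rcases (m1 _ _ (hq u hu) (hq v hv)).1 with e | e <;> rw [e] at h1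
    · simpa using h1
    · simpa [← mul_assoc, zz] using (m1 _ _ (Or.inr rfl) h1).1
  have hn : x ∈ normalizer (Wg A : Set G) := mem_normalizer_fintype fun w => conj_Wg (h.C_norm hx)
  refine QF.abs (H := Wg A) h.prime h.ne_two (q := fun w => χ (w.1 ^ 2)) (b := fun u v => χ ⁅u.1, v.1⁆)
    (E := (Eg A).subgroupOf _) (S := S.subgroupOf _) (fun u v => ?_) (fun u => ?_) (fun u u' v => ?_)
    (fun u v v' => ?_) (fun d => ⟨fun hd => ?_, fun hd u => ?_⟩) (comap_mono hE) (fun s hs' => ?_) ?_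
    (f := MulAut.toPerm _ ((Wg A).normalizerMonoidHom ⟨x, hn⟩)) ?_ (fun w => ?_) (fun w => ?_) (fun hp => ?_)
    fun e => nab fun w hw v hv => ?_
  · rw [coe_mul, h.mul_sq ha u.2 v.2, (m1 _ _ (m1 _ _ (hq _ u.2) (hq _ v.2)).1 (m2 _ u.2 _ v.2)).2,
      (m1 _ _ (hq _ u.2) (hq _ v.2)).2]
  · exact (ite_eq_or_eq _ _ _)
  · rw [coe_mul, h.comm_mul_left ha u.2 u'.2 v.2, (m1 _ _ (m2 _ u.2 _ v.2) (m2 _ u'.2 _ v.2)).2]
  · rw [coe_mul, h.comm_mul_right ha v.2 v'.2 u.2, (m1 _ _ (m2 _ u.2 _ v.2) (m2 _ u.2 _ v'.2)).2]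
  · obtain ⟨v, hv, e, he, hd'⟩ := h.exists_pure ha hx d.2
    by_contra hn'
    refine nab ?_
    have hne : x ≠ v := fun e' => hn' (mem_subgroupOf.2 (by rw [hd', ← e']; simpa using he))
    have := h.Wg_ln_le hx hv (K := centralizer (Wg A)) (by
      rw [eq_mul_inv_of_mul_eq hd'.symm]
      refine mul_mem (fun u hu => commutatorElement_eq_one_iff_mul_comm.1 ?_)
        (inv_mem fun u hu => (Eg_comm he (Wg_le hu)).eq.symm)
      simpa [χ] using hd ⟨u, hu⟩) fun k hk u hu => by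
        have := hk _ (conj_Wg (inv_mem (h.C_norm hx)) hu)
        calc _ = x * (x⁻¹ * u * x⁻¹⁻¹ * k) * x⁻¹ := by group
          _ = _ := by rw [this]; group
    rwa [h.ln_eq hx hy (left_mem_Ln hx) (hA.ge hv) hne, hA] at this
  · exact if_pos (commutatorElement_eq_one_iff_mul_comm.2 (Eg_comm hd (Wg_le u.2)).eq.symm)
  · exact if_pos (hs _ hs')
  · rwa [Nat.card_congr (subgroupOfEquivOfLe hS).toEquiv]
  · rw [← map_pow, ← map_pow, show (⟨x, hn⟩ : normalizer (Wg A : Set G)) ^ p = 1 from Subtype.ext (h.pow_p hx),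
      map_one, map_one]
  · change χ ((x * w.1 * x⁻¹) ^ 2) = _
    rw [conj_pow, Sys.E_conj (h.sq_mem ha w.2) (subset_closure hx)]
  · exact ⟨fun e => h.mem_E ha hx w.2 (mul_inv_eq_iff_eq_mul.1 (congrArg Subtype.val e)).symm,
      fun e => Subtype.ext (Sys.E_conj e (subset_closure hx))⟩
  · have := Fact.mk Nat.prime_two
    obtain ⟨k, hk⟩ := ((h.isPGroup ha).to_subgroup ((Eg A).subgroupOf _)).exists_card_eq
    exact h.ne_two ((Nat.prime_dvd_prime_iff_eq h.prime Nat.prime_two).1 (h.prime.dvd_of_dvd_pow (hk ▸ hp)))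
  · exact (Eg_comm (e.ge (mem_top (⟨w, hw⟩ : Wg A))) (Wg_le hv)).eq.symm

end Cfsg.Agent.CY
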