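import Mathlib
import Cfsg.Agent.CY.M1
import Cfsg.Agent.CY.QF

set_option autoImplicit false
set_option linter.unusedSectionVars false

namespace Cfsg.Agent.CY

open Subgroup Cfsg.Agent.SY
open scoped commutatorElement

variable {G : Type*} [Group G] [Finite G] {p : ℕ} {C B : Set G}

namespace M2

theorem half {K H : Subgroup G} (h : ∀ a ∈ K, ∀ b ∈ K, a ∉ H → b ∉ H → a * b ∈ H) :
    Nat.card K ≤ 2 * Nat.card ↥(K ⊓ H) := by
  have a : (H.subgroupOf K).index ∣ 2 := index_dvd_two_iff.2 (by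
    by_cases c : ∃ a : K, (a : G) ∉ H
    · obtain ⟨a, ha⟩ := c
      exact ⟨a, fun b => or_iff_not_imp_right.2 fun hb => h b b.2 a a.2 hb ha⟩
    · exact ⟨1, fun b => .inr (not_not.1 fun hb => c ⟨b, hb⟩)⟩)
  rw [← (H.subgroupOf K).index_mul_card, inf_comm, ← inf_subgroupOf_right,
    Nat.card_congr (subgroupOfEquivOfLe inf_le_right).toEquiv, inf_subgroupOf_right]
  exact Nat.mul_le_mul_right _ (Nat.le_of_dvd two_pos a)

variable {A : Set G} {x u v w g k : G} (s : Sys p A) (hx : x ∈ A) (hu : u ∈ Wg A)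
include s hx hu

theorem cm (hg : g ∈ zpowers x) : g ∈ closure A ∧ g * u * g⁻¹ ∈ Wg A :=
  have a := zpowers_le.2 (subset_closure hx) hg
  ⟨a, conj_Wg (s.le_norm a) hu⟩

theorem sh (hg : g ∈ zpowers x) (hw : w ∈ Wg A) : ⁅g * u * g⁻¹, w⁆ = ⁅u, g⁻¹ * w * g⁻¹⁻¹⁆ := by
  rw [← s.comm_conj s.aff (cm s hx hu hg).1 hu (cm s hx hw (inv_mem hg)).2]
  congr 1
  group

theorem c2 (hg : g ∈ zpowers x) (hk : k ∈ zpowers x) :
    ⁅g * u * g⁻¹, k * u * k⁻¹⁆ = ⁅u, g⁻¹ * k * u * (g⁻¹ * k)⁻¹⁆ := by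
  rw [sh s hx hu hg (cm s hx hu hk).2]
  congr 1
  group

theorem c1 (hg : g ∈ zpowers x) : ⁅u, g⁻¹ * u * g⁻¹⁻¹⁆ = ⁅u, g * u * g⁻¹⁆ := by
  rw [← sh s hx hu hg hu, s.comm_symm s.aff (cm s hx hu hg).2 hu]

theorem uu (hv : v ∈ Uu x u) (hw : w ∈ Uu x u) : ⁅v, w⁆ = 1 := by
  have a := s.aff
  rcases hv with rfl | ⟨i, rfl⟩
  · exact commutatorElement_eq_one_iff_commute.2 (s.Uu_commute a hx hu hw).symm
  rcases hw with rfl | ⟨j, rfl⟩
  · exact commutatorElement_eq_one_iff_commute.2 (s.Uu_commute a hx hu (.inr ⟨i, rfl⟩))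
  have hc : Commute (x ^ i) (x ^ j) := Commute.pow_pow_self x i j
  have hg := npow_mem_zpowers x i
  have hk := npow_mem_zpowers x j
  generalize x ^ i = g at *
  generalize x ^ j = k at *
  have g1 := (cm s hx hu hg).2
  have g2 := (cm s hx hu (inv_mem hg)).2
  have k1 := (cm s hx hu hk).2
  have k2 := (cm s hx hu (inv_mem hk)).2
  have e1 := c2 s hx hu hg (inv_mem hk)
  have e2 := c2 s hx hu (inv_mem hg) (inv_mem hk)
  have e3 := c2 s hx hu (inv_mem hg) hk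
  rw [← mul_inv_rev, ← hc.eq, c1 s hx hu (mul_mem hg hk)] at e1
  rw [show g⁻¹⁻¹ * k⁻¹ = (g⁻¹ * k)⁻¹ by rw [mul_inv_rev, inv_inv, hc.inv_right.eq],
    c1 s hx hu (mul_mem (inv_mem hg) hk)] at e2
  simp only [inv_inv] at g2 k2 e1 e2 e3
  rw [s.comm_mul_left a g1 g2 (mul_mem k1 k2), s.comm_mul_right a k1 k2 g1, s.comm_mul_right a k1 k2 g2, e1, e2, e3,
    c2 s hx hu hg hk, mul_assoc, ← mul_assoc ⁅u, g * k * u * _⁆, s.comm_sq a hu (cm s hx hu (mul_mem hg hk)).2, one_mul,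
    s.comm_sq a hu (cm s hx hu (mul_mem (inv_mem hg) hk)).2]

theorem W_le (hA : Ln A x (u * x * u⁻¹) = A) {K : Subgroup G} (hK : u ∈ K) (hn : ∀ k ∈ K, x * k * x⁻¹ ∈ K) :
    Wg A ≤ K := hA ▸ s.Wg_ln_le hx (s.conj_mem (Wg_le hu) hx) (by
  have := mul_mem (conj_pow_mem hn (p - 1) hK) (inv_mem hK)
  rw [← s.inv_eq hx, inv_inv] at this
  simpa only [mul_assoc] using this) hn

theorem sqs (hA : Ln A x (u * x * u⁻¹) = A) {Z : Subgroup G} (h : ∀ v ∈ Uu x u, v ^ 2 ∈ Z) (hw : w ∈ Wg A) :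
    w ^ 2 ∈ Z := by
  have a := s.aff
  have xx := mem_zpowers x
  let K1 : Subgroup G :=
    { carrier := {w | w ∈ Wg A ∧ ∀ g ∈ zpowers x, ⁅w, g * u * g⁻¹⁆ ∈ Z}
      mul_mem' := fun h1 h2 => ⟨mul_mem h1.1 h2.1, fun g hg => by
        rw [s.comm_mul_left a h1.1 h2.1 (cm s hx hu hg).2]; exact mul_mem (h1.2 g hg) (h2.2 g hg)⟩
      one_mem' := ⟨one_mem _, fun g _ => by simp⟩
      inv_mem' := fun h1 => ⟨inv_mem h1.1, fun g hg => by
        rw [s.comm_inv_left a h1.1 (cm s hx hu hg).2]; exact h1.2 g hg⟩ }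
  have b1 : Wg A ≤ K1 := W_le s hx hu hA ⟨hu, fun g hg => by
      obtain ⟨i, rfl⟩ := mem_powers_iff_mem_zpowers.2 hg
      obtain ⟨j, hj⟩ := s.exists_half hx i
      have hk := npow_mem_zpowers x j
      have g1 := (cm s hx hu hk).2
      have g2 := (cm s hx hu (inv_mem hk)).2
      have c := h _ (.inr ⟨j, rfl⟩)
      have e := s.sq_mem a hu
      have e1 := Sys.E_conj e (cm s hx hu hk).1
      have e2 := Sys.E_conj e (inv_mem (cm s hx hu hk).1)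
      have e3 := c2 s hx hu (inv_mem hk) hk
      rw [← conj_pow] at e1 e2
      rw [inv_inv] at g2 e2 e3
      rw [s.mul_sq a g1 g2, e1, e2, s.E_sq a e, one_mul, s.comm_symm a g1 g2, e3, ← pow_add, ← two_mul, ← hj] at c
      exact c⟩
    fun k hk => ⟨(cm s hx hk.1 xx).2, fun g hg => by
      rw [sh s hx hk.1 xx (cm s hx hu hg).2]
      simpa only [mul_assoc, mul_inv_rev] using hk.2 _ (mul_mem (inv_mem xx) hg)⟩
  let K2 : Subgroup G :=
    { carrier := {w | w ∈ Wg A ∧ ∀ g ∈ Wg A, ⁅w, g⁆ ∈ Z}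
      mul_mem' := fun h1 h2 => ⟨mul_mem h1.1 h2.1, fun g hg => by
        rw [s.comm_mul_left a h1.1 h2.1 hg]; exact mul_mem (h1.2 g hg) (h2.2 g hg)⟩
      one_mem' := ⟨one_mem _, fun g _ => by simp⟩
      inv_mem' := fun h1 => ⟨inv_mem h1.1, fun g hg => by rw [s.comm_inv_left a h1.1 hg]; exact h1.2 g hg⟩ }
  have b2 : Wg A ≤ K2 := W_le s hx hu hA ⟨hu, fun g hg => by
      rw [s.comm_symm a hu hg]; simpa using (b1 hg).2 1 (one_mem _)⟩
    fun k hk => ⟨(cm s hx hk.1 xx).2, fun g hg => by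
      rw [sh s hx hk.1 xx hg]; exact hk.2 _ (cm s hx hg (inv_mem xx)).2⟩
  let K3 : Subgroup G :=
    { carrier := {w | w ∈ Wg A ∧ w ^ 2 ∈ Z}
      mul_mem' := fun h1 h2 => ⟨mul_mem h1.1 h2.1, by
        rw [s.mul_sq a h1.1 h2.1]; exact mul_mem (mul_mem h1.2 h2.2) ((b2 h1.1).2 _ h2.1)⟩
      one_mem' := ⟨one_mem _, by simp⟩
      inv_mem' := fun h1 => ⟨inv_mem h1.1, by rw [inv_pow]; exact inv_mem h1.2⟩ }
  exact (W_le s hx hu hA (K := K3) ⟨hu, h u (.inl rfl)⟩ (fun k hk => ⟨(cm s hx hk.1 xx).2, by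
    rw [conj_pow, Sys.E_conj (s.sq_mem a hk.1) (subset_closure hx)]; exact hk.2⟩) hw).2

end M2

open M2 in
theorem Mn.three (m : Mn p C) (hB : Bk C B) : p = 3 := by
  obtain ⟨η, hη, η1⟩ := m.blk_E hB
  obtain ⟨x, hxC, hxB⟩ := m.ne B hB
  obtain ⟨B₁, u, t⟩ := m.exists_tr0 hB hη η1 hxC hxB
  obtain ⟨y1, y2, y3, -⟩ := m.tr_ne t
  have hyC := m.blk_sub t.bk y1
  have s := m.hs.sysL hxC hyC y2
  have a := s.aff
  have hx := left_mem_LF (y := η * x * η⁻¹) hxC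
  have hL := (m.blk_LF t.bk t.hx y1).2.2
  have h := m.blk_hs hB
  have hc := m.cons B hB
  have hN : ∀ {v}, Commute v η → v ∈ normalizer B := m.blk_norm hB hη η1
  obtain ⟨v₀, hv₀, z1⟩ := m.tr_sq t
  obtain ⟨w1, w2, w3⟩ := m.tr_uu t hv₀
  have zz := s.E_sq a (s.sq_mem a w1)
  have an := (m.lin_or_anti t.bk hB (hL w1) w3).resolve_left fun l => z1 (m.m1 t w1 w2 l)
  let Z : Subgroup G :=
    { carrier := {e | e = 1 ∨ e = v₀ ^ 2}
      mul_mem' := by rintro _ _ (rfl | rfl) (rfl | rfl) <;> simp [zz]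
      one_mem' := .inl rfl
      inv_mem' := by rintro _ (rfl | rfl); exacts [.inl inv_one, .inr (inv_eq_of_mul_eq_one_right zz)] }
  have hq : ∀ w ∈ Wg (LF C x (η * x * η⁻¹)), w ^ 2 ∈ Z := fun w => sqs s hx t.hu (t.act ▸ ln_LF) fun v hv => by
    obtain ⟨v1, v2, v3⟩ := m.tr_uu t hv
    refine (m.lin_or_anti t.bk hB (hL v1) v3).imp (m.m1 t v1 v2) fun l => ?_
    have e := m.m1 t (mul_mem v1 w1) (v2.mul_left w2) (h.anti_mul hc v3 w3 l an)
    rw [s.mul_sq a v1 w1, uu s hx t.hu hv hv₀, mul_one] at e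
    exact mul_right_cancel (e.trans zz.symm)
  let S : Subgroup G :=
    { carrier := {v | Commute v η ∧ Lin B v}
      mul_mem' := fun h1 h2 => ⟨h1.1.mul_left h2.1, h.lin_mul hc (hN h1.1) (hN h2.1) h1.2 h2.2⟩
      one_mem' := ⟨Commute.one_left _, fun z _ => by simpa using par_refl z⟩
      inv_mem' := fun h1 => ⟨h1.1.inv_left, h.lin_inv hc (hN h1.1) h1.2⟩ }
  refine qf s hx (right_mem_LF hyC y2) ln_LF (fun f => m.nf x hxC _ hyC y2 (fun e => y3 (e ▸ mem_zpowers x)) (fl_iff'.2 f)) hq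
    (S := Wg (LF C x (η * x * η⁻¹)) ⊓ centralizer {η} ⊓ S) (inf_le_left.trans inf_le_left) (fun e he => ?_) ?_
    fun v hv => m.m1 t hv.1.1 hv.2.1 hv.2.2
  · have b := (m.tr_comm t he.1).2 (Eg_comm he (Wg_le t.hu))
    have h₁ := m.blk_hs t.bk
    have c₁ := m.cons _ t.bk
    have s₁ := h₁.sysF c₁ t.hx
    exact ⟨⟨he.1, mem_centralizer_singleton_iff.2 b⟩, b, fun z hz => m.lin_E t.bk (h₁.EH_eq c₁ t.hx ▸ s₁.mem_E s₁.aff
      ⟨t.hx, par_refl x⟩ (h₁.WH_eq c₁ t.hx ▸ hL he.1) ((mem_Eg.1 he).2 x hx)) z (m.blk_sub hB hz)⟩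
  · refine (half (H := centralizer {η}) fun b hb c hc hb' hc' => ?_).trans ((Nat.mul_le_mul_left 2
      (half (H := S) fun b hb c hc' hb' hc'' => ?_)).trans (by omega))
    · have k : ∀ b ∈ Wg (LF C x (η * x * η⁻¹)), b ∉ centralizer {η} → ⁅b, u⁆ = v₀ ^ 2 := fun b hb hb' => by
        have e := s.mul_sq a hb t.hu
        have : ⁅b, u⁆ ∈ Z := by
          have := mul_mem (inv_mem (mul_mem (hq _ hb) (hq _ t.hu))) (hq _ (mul_mem hb t.hu))
          rwa [e, inv_mul_cancel_left] at this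
        exact this.resolve_left fun e => hb' (mem_centralizer_singleton_iff.2 ((m.tr_comm t hb).2
          (commutatorElement_eq_one_iff_commute.1 e)))
      refine mem_centralizer_singleton_iff.2 ((m.tr_comm t (mul_mem hb hc)).2 (commutatorElement_eq_one_iff_commute.1 ?_))
      rw [s.comm_mul_left a hb hc t.hu, k b hb hb', k c hc hc', zz]
    · have b2 : Commute b η := mem_centralizer_singleton_iff.1 hb.2
      have c2 : Commute c η := mem_centralizer_singleton_iff.1 hc'.2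
      exact ⟨b2.mul_left c2, h.anti_mul hc (hN b2) (hN c2)
        ((m.lin_or_anti t.bk hB (hL hb.1) (hN b2)).resolve_left fun l => hb' ⟨b2, l⟩)
        ((m.lin_or_anti t.bk hB (hL hc'.1) (hN c2)).resolve_left fun l => hc'' ⟨c2, l⟩)⟩

end Cfsg.Agent.CY
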