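import Mathlib
import Cfsg.Agent.CY.M1
import Cfsg.Agent.CY.HQuo

/-! For `p = 3` the blocks are lines. -/

set_option autoImplicit false
set_option linter.unusedSectionVars false

namespace Cfsg.Agent.CY

open Subgroup Cfsg.Agent.SY
open scoped commutatorElement

variable {G : Type*} [Group G] [Finite G] {C : Set G}

namespace M3

variable {B B' : Set G} {x η u v w r e : G} (m : Mn 3 C)
include m

theorem sys (hB : Bk C B) (hx : x ∈ B) :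
    Sys 3 (Fr B x) ∧ WH B = Wg (Fr B x) ∧ EH B = Eg (Fr B x) :=
  ⟨(m.blk_hs hB).sysF (m.cons B hB) hx, (m.blk_hs hB).WH_eq (m.cons B hB) hx,
    (m.blk_hs hB).EH_eq (m.cons B hB) hx⟩

theorem mem_E (hB : Bk C B) (hw : w ∈ WH B) (h2 : w ^ 2 = 1) : w ∈ EH B := by
  obtain ⟨x, hx, -⟩ := m.blk_two hB
  obtain ⟨s, eW, eE⟩ := sys m hB hx
  have hx' : x ∈ Fr B x := ⟨hx, par_refl x⟩
  rw [eW] at hw
  obtain ⟨y, hy, e, he, rfl⟩ := s.exists_pure s.aff hx' hw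
  have h3 := s.cg_sq s.aff (u := x⁻¹ * y) (v := x⁻¹ * y * e)
    ⟨mem_Wg hx' hy, by rwa [inv_mul_cancel_left]⟩
  have hxC := m.blk_sub hB hx
  have hyC := m.blk_sub hB hy.1
  obtain rfl : x = y := by_contra fun hne =>
    m.nf x hxC y hyC hy.2 hne (m.hs.fl_three hxC hyC hy.2 (h3.trans h2))
  rwa [inv_mul_cancel, one_mul, eE]

variable (hB : Bk C B) (hB' : Bk C B') (hne : B ≠ B')
include hB hB' hne

theorem inter (he : e ∈ EH B) (he' : e ∈ EH B') : e = 1 :=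
  by_contra fun h => hne (m.blk_eq hB hB' he he' h)

theorem comm (hv : v ∈ WH B) (hvN : v ∈ normalizer B') (hr : r ∈ WH B') (hrN : r ∈ normalizer B) :
    Commute v r := by
  have h1 : ⁅v, r⁆ ∈ WH B := by
    have := mul_mem hv (conj_WH hrN (inv_mem hv))
    simpa only [commutatorElement_def, mul_assoc] using this
  have h2 : ⁅v, r⁆ ∈ WH B' := mul_mem (conj_WH hvN hr) (inv_mem hr)
  have h3 := inter m hB hB' hne (m.sq_mem hB h1) (m.sq_mem hB' h2)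
  exact commutatorElement_eq_one_iff_commute.1
    (inter m hB hB' hne (mem_E m hB h1 h3) (mem_E m hB' h2 h3))

theorem lin_mem (hv : v ∈ WH B) (hN : v ∈ normalizer B') (hl : Lin B' v) : v ∈ EH B := by
  by_cases h2 : v ^ 2 = 1
  · exact mem_E m hB hv h2
  exact mem_E m hB hv (m.m1core hB hB' hne hv hN hl fun e he hc =>
    (comm m hB hB' hne hv hN he.1 (m.blk_norm hB (m.sq_mem hB hv) h2 hc)).symm)

omit hB hB' hne in
theorem anti (t : Tr C B B' η x u) : u ∈ WH B ∧ u ∈ normalizer B' ∧ Anti B' u := by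
  obtain ⟨-, -, -, h1, h2, h3⟩ := m.tr_ne t
  have hN := m.blk_norm t.bk' t.mem t.ne_one h3
  exact ⟨h1, hN, (m.lin_or_anti t.bk t.bk' h1 hN).resolve_left fun h =>
    h2 (lin_mem m t.bk t.bk' t.ne h1 hN h)⟩

omit hB hB' hne in
theorem mul_mem_E {η' x' u' : G} (t : Tr C B B' η x u) (t' : Tr C B B' η' x' u') :
    u * u' ∈ EH B := by
  obtain ⟨a1, a2, a3⟩ := anti m t
  obtain ⟨b1, b2, b3⟩ := anti m t'
  exact lin_mem m t.bk t.bk' t.ne (mul_mem a1 b1) (mul_mem a2 b2)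
    ((m.blk_hs t.bk').anti_mul (m.cons _ t.bk') a2 b2 a3 b3)

omit hB hB' hne in
theorem disj (t : Tr C B B' η x u) {y : G} (hy : y ∈ B) (hy' : y ∈ B') : False := by
  obtain ⟨a1, a2, -⟩ := anti m t
  have hs := m.blk_hs t.bk
  have h1 := hs.conj_mem (WH_le a1) hy
  have h2 : u * y * u⁻¹ ∈ zpowers y := by_contra fun h =>
    t.ne (m.blk_eq_pair t.bk t.bk' hy h1 hy' (conj_C a2 hy') h)
  have h3 := hs.eq_of_par hy h1 h2 (hs.lin_of_mem (m.cons _ t.bk) (WH_le a1) y hy)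
  obtain ⟨s, eW, eE⟩ := sys m t.bk hy
  exact (m.tr_ne t).2.2.2.2.1 (eE ▸ s.mem_E s.aff ⟨hy, par_refl y⟩ (eW ▸ a1)
    (mul_inv_eq_iff_eq_mul.1 h3.symm))

omit hB hB' hne in
theorem E_norm (t : Tr C B B' η x u) (he : e ∈ EH B') : e ∈ normalizer B := by
  obtain ⟨a1, a2, -⟩ := anti m t
  have z1 : u ^ 2 ≠ 1 := fun h => (m.tr_ne t).2.2.2.2.1 (mem_E m t.bk a1 h)
  have zE := m.sq_mem t.bk a1
  have k : ∀ y ∈ B', ∃ u', Tr C B' B (u ^ 2) y u' := fun y hy =>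
    m.exists_tr t.bk' t.bk t.ne.symm zE z1 (pow_mem a2 2) hy fun h => disj m t h hy
  obtain ⟨y, hy, -⟩ := m.blk_two t.bk'
  obtain ⟨u0, t0⟩ := k y hy
  have h0 := (anti m t0).1
  have h1 : ∀ b ∈ B', Commute (u0⁻¹ * u ^ 2) b := fun b hb => by
    obtain ⟨u1, t1⟩ := k b hb
    have h2 := (mem_EH.1 (mul_mem (inv_mem (m.sq_mem t.bk' h0)) (mul_mem_E m t0 t1))).2 b hb
    rw [show (u0 ^ 2)⁻¹ * (u0 * u1) = u0⁻¹ * u1 by rw [pow_two]; group] at h2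
    refine mul_inv_eq_iff_eq_mul.1 ?_
    calc _ = u0⁻¹ * (u ^ 2 * b * (u ^ 2)⁻¹) * u0 := by group
      _ = u0⁻¹ * u1 * b * (u0⁻¹ * u1)⁻¹ := by rw [← t1.act]; group
      _ = b := by rw [h2.eq, mul_inv_cancel_right]
  refine m.blk_norm t.bk zE z1 ?_
  have h3 := (commute_closure (mem_EH.1 he).2 (WH_le h0)).mul_right
    (commute_closure h1 (WH_le he.1)).symm
  rwa [mul_inv_cancel_left] at h3

omit hB hne in
theorem E_two {e' : G} (he : e ∈ EH B') (h1 : e ≠ 1) (he' : e' ∈ EH B') (h1' : e' ≠ 1) : e = e' := by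
  obtain ⟨x, hx, hx'⟩ := m.ne B' hB'
  obtain ⟨B, u, t⟩ := m.exists_tr0 hB' he h1 hx hx'
  obtain ⟨u', t'⟩ := m.exists_tr t.bk hB' t.ne he' h1' (E_norm m t he') t.hx hx'
  obtain ⟨a1, a2, -⟩ := anti m t'
  have h2 := comm m t.bk hB' t.ne a1 a2 he.1 t.norm
  have h3 := (mem_EH.1 (mul_mem_E m t' t)).2 x t.hx
  have h4 : Commute (e * e') x := by
    refine mul_inv_eq_iff_eq_mul.1 ?_
    calc _ = e * (e' * x * e'⁻¹) * e⁻¹ := by group
      _ = (e * u') * x * (e * u')⁻¹ := by rw [← t'.act]; group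
      _ = u' * (e * x * e⁻¹) * u'⁻¹ := by rw [← h2.eq]; group
      _ = u' * u * x * (u' * u)⁻¹ := by rw [← t.act]; group
      _ = x := by rw [h3.eq, mul_inv_cancel_right]
  have h5 : e * e' = 1 := by_contra fun h => hx' (m.fx B' hB' _ (mul_mem he he') h ▸ mem_Fx.2 ⟨hx, h4⟩)
  exact (eq_inv_of_mul_eq_one_left h5).trans (inv_eq_of_mul_eq_one_right (m.E_sq hB' he'))

end M3

theorem Mn.exc (m : Mn 3 C) : Exc C := by
  intro x hx y hy hp hne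
  have z1 : (x⁻¹ * y) ^ 2 ≠ 1 := fun h => m.nf x hx y hy hp hne (m.hs.fl_three hx hy hp h)
  refine ⟨z1, fun z hz hc => ?_⟩
  have hB : Bk C (Fx C ((x⁻¹ * y) ^ 2)) := ⟨x, hx, y, hy, hp, z1, rfl⟩
  have xK : x ∈ closure ({x, y} : Set G) := subset_closure (Or.inl rfl)
  have yK : y ∈ closure ({x, y} : Set G) := subset_closure (Or.inr rfl)
  have xB : x ∈ Fx C ((x⁻¹ * y) ^ 2) := mem_Fx.2 ⟨hx, m.hs.sq_comm hx hy hp xK⟩
  have yB : y ∈ Fx C ((x⁻¹ * y) ^ 2) := mem_Fx.2 ⟨hy, m.hs.sq_comm hx hy hp yK⟩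
  have zB : z ∈ Fx C ((x⁻¹ * y) ^ 2) := mem_Fx.2 ⟨hz, hc⟩
  generalize Fx C ((x⁻¹ * y) ^ 2) = B at hB xB yB zB
  have hs := m.blk_hs hB
  obtain ⟨y1, h1, h2, h3⟩ := hs.exists_par xB zB
  refine zpowers_le.2 ?_ (hs.mem_zpowers_symm zB h1 h2)
  obtain ⟨s, eW, eE⟩ := M3.sys m hB xB
  have xA : x ∈ Fr B x := ⟨xB, par_refl x⟩
  have ha := mem_Wg xA (show y ∈ Fr B x from ⟨yB, hp⟩)
  have hc := mem_Wg xA (show y1 ∈ Fr B x from ⟨h1, h3⟩)
  have aK := mul_mem (inv_mem xK) yK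
  suffices x⁻¹ * y1 ∈ closure ({x, y} : Set G) from (mul_mem_cancel_left (inv_mem xK)).1 this
  generalize x⁻¹ * y1 = c at hc
  generalize x⁻¹ * y = a at ha aK z1
  generalize closure ({x, y} : Set G) = K at xK aK
  have zE := s.sq_mem s.aff ha
  have two : ∀ e ∈ Eg (Fr B x), e ≠ 1 → e = a ^ 2 := fun e he e1 =>
    M3.E_two m hB (eE ▸ he) e1 (eE ▸ zE) z1
  have sq : ∀ u ∈ Wg (Fr B x), u ∉ Eg (Fr B x) → u ^ 2 = a ^ 2 := fun u hu hn =>
    two _ (s.sq_mem s.aff hu) fun h => hn (eE ▸ M3.mem_E m hB (eW ▸ hu) h)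
  have br : ∀ u ∈ Wg (Fr B x), ∀ v ∈ Wg (Fr B x), u ∉ Eg (Fr B x) → v ∉ Eg (Fr B x) →
      u * v ∉ Eg (Fr B x) → ⁅u, v⁆ = a ^ 2 := fun u hu v hv n1 n2 n3 => by
    have := s.mul_sq s.aff hu hv
    rw [sq _ (mul_mem hu hv) n3, sq u hu n1, sq v hv n2, s.E_sq s.aff zE, one_mul] at this
    exact this.symm
  have EK : ∀ w ∈ K, w * c ∈ Eg (Fr B x) → c ∈ K := fun w hw h => by
    refine (mul_mem_cancel_left hw).1 ?_
    by_cases h0 : w * c = 1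
    · exact h0 ▸ one_mem K
    · exact two _ h h0 ▸ pow_mem aK 2
  have hb := conj_Wg (s.C_norm xA) ha
  have bK := mul_mem (mul_mem xK aK) (inv_mem xK)
  have na : a ∉ Eg (Fr B x) := fun h => z1 (by rw [pow_two, s.E_sq s.aff h])
  have nb : x * a * x⁻¹ ∉ Eg (Fr B x) := fun h => na (by
    simpa [mul_assoc] using conj_Eg (inv_mem (s.C_norm xA)) h)
  have nab : a * (x * a * x⁻¹) ∉ Eg (Fr B x) := fun h => na (s.mem_E_of_cg s.aff xA
    (s.cg_trans s.aff (s.cg_symm s.aff (show Cg _ a⁻¹ _ from ⟨inv_mem ha, by rwa [inv_inv]⟩))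
      (s.cg_inv s.aff ha)))
  generalize x * a * x⁻¹ = b at hb bK nb nab
  by_contra hn
  have n1 : c ∉ Eg (Fr B x) := fun h => hn (EK 1 (one_mem K) (by rwa [one_mul]))
  have n2 : b * c ∉ Eg (Fr B x) := fun h => hn (EK b bK h)
  have := s.comm_mul_right s.aff hb hc ha
  rw [br a ha _ (mul_mem hb hc) na n2 fun h => hn (EK _ (mul_mem aK bK) (by rwa [mul_assoc])),
    br a ha b hb na nb nab, br a ha c hc na n1 fun h => hn (EK a aK h), s.E_sq s.aff zE] at this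
  exact z1 this

end Cfsg.Agent.CY
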