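import Mathlib
import Cfsg.Agent.CY.HBas

set_option autoImplicit false
set_option linter.unusedSectionVars false

namespace Cfsg.Agent.CY

open Subgroup Cfsg.Agent.SY
open scoped commutatorElement

variable {G : Type*} [Group G] [Finite G] {p : ℕ} {C : Set G} {x y b g u v : G} {e f : G → G}

namespace MpA

theorem cg_pow {A : Set G} (h : Sys p A) {a d w : G} (ha : a ∈ A) (hd : d ∈ A) (hw : w ∈ Wg A) (j : ℕ) :
    Cg A (a ^ j * w * (a ^ j)⁻¹) (d ^ j * w * (d ^ j)⁻¹) := by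
  induction j with
  | zero => simpa using h.cg_refl h.aff hw
  | succ j ih =>
    have h1 := h.cg_conj h.aff (h.C_norm ha) ih
    have h2 := h.cg_sigma h.aff ha hd (h.cg_right h.aff ih)
    have := h.cg_trans h.aff h1 h2
    rwa [show a * (a ^ j * w * (a ^ j)⁻¹) * a⁻¹ = a ^ (j + 1) * w * (a ^ (j + 1))⁻¹ by group,
      show d * (d ^ j * w * (d ^ j)⁻¹) * d⁻¹ = d ^ (j + 1) * w * (d ^ (j + 1))⁻¹ by group] at this

theorem mem3a (a b c : G) : a ∈ closure ({a, b, c} : Set G) := subset_closure (by simp)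
theorem mem3b (a b c : G) : b ∈ closure ({a, b, c} : Set G) := subset_closure (by simp)
theorem mem3c (a b c : G) : c ∈ closure ({a, b, c} : Set G) := subset_closure (by simp)
theorem le3 (a b c : G) : closure ({a, b} : Set G) ≤ closure ({a, b, c} : Set G) :=
  closure_mono (by intro z hz; rcases hz with rfl | rfl <;> simp)
theorem le3' (a b c : G) : closure ({a, c} : Set G) ≤ closure ({a, b, c} : Set G) :=
  closure_mono (by intro z hz; rcases hz with rfl | rfl <;> simp)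

end MpA

open MpA

namespace Mq

variable (m : Mq p C x y)
include m

theorem mpa_sys : Sys p (LF C x y) := m.hs.sysL m.hx m.hy m.par
theorem mpa_x : x ∈ LF C x y := left_mem_LF m.hx
theorem mpa_y : y ∈ LF C x y := right_mem_LF m.hy m.par
theorem mpa_fl : Flat (LF C x y) x y := fl_iff'.1 m.fl

theorem V_sq (hv : v ∈ Wg (LF C x y)) : v * v = 1 :=
  m.mpa_sys.flat_sq m.mpa_x m.mpa_y m.mpa_fl (by rwa [ln_LF])

theorem V_comm (hu : u ∈ Wg (LF C x y)) (hv : v ∈ Wg (LF C x y)) : Commute u v :=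
  m.mpa_sys.flat_comm m.mpa_x m.mpa_y m.mpa_fl (by rwa [ln_LF]) (by rwa [ln_LF])

theorem V_pow (i : ℕ) (hv : v ∈ Wg (LF C x y)) : x ^ i * v * (x ^ i)⁻¹ ∈ Wg (LF C x y) :=
  conj_Wg (pow_mem (m.mpa_sys.C_norm m.mpa_x) i) hv

theorem mpa_one (hv : v ∈ Wg (LF C x y)) (hc : Commute v x) : v = 1 :=
  m.mpa_sys.flat_eq_one m.mpa_x m.mpa_y m.mpa_fl (by rwa [ln_LF]) hc

theorem V_fix {i j : ℕ} (hv : v ∈ Wg (LF C x y)) (h1 : v ≠ 1)
    (h : x ^ i * v * (x ^ i)⁻¹ = x ^ j * v * (x ^ j)⁻¹) : i ≡ j [MOD p] := by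
  by_contra hij
  have hz : (x ^ j)⁻¹ * x ^ i ∈ zpowers x := mul_mem (inv_mem (npow_mem_zpowers x j)) (npow_mem_zpowers x i)
  have hne : (x ^ j)⁻¹ * x ^ i ≠ 1 := fun e => hij (by
    rw [← m.hs.ord x m.hx, ← pow_eq_pow_iff_modEq]; exact (inv_mul_eq_one.1 e).symm)
  have hc : Commute v ((x ^ j)⁻¹ * x ^ i) := by
    calc v * ((x ^ j)⁻¹ * x ^ i) = (x ^ j)⁻¹ * (x ^ j * v * (x ^ j)⁻¹) * x ^ i := by group
      _ = (x ^ j)⁻¹ * x ^ i * v := by rw [← h]; group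
  obtain ⟨n, hn⟩ := m.hs.mem_zpowers_symm m.hx (m.hs.pow x m.hx _ hz hne) hz
  refine h1 (m.mpa_one hv ?_)
  have := hc.zpow_right n
  simp only at hn
  rwa [hn] at this

theorem V_surj {i j : ℕ} (hij : ¬ i ≡ j [MOD p]) (hv : v ∈ Wg (LF C x y)) :
    ∃ u ∈ Wg (LF C x y), x ^ i * u * (x ^ i)⁻¹ * (x ^ j * u * (x ^ j)⁻¹) = v := by
  let φ : Wg (LF C x y) → Wg (LF C x y) := fun u =>
    ⟨x ^ i * u * (x ^ i)⁻¹ * (x ^ j * u * (x ^ j)⁻¹), mul_mem (m.V_pow i u.2) (m.V_pow j u.2)⟩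
  have hφ : Function.Injective φ := by
    rintro ⟨u, hu⟩ ⟨u', hu'⟩ h
    have h1 : x ^ i * u * (x ^ i)⁻¹ * (x ^ j * u * (x ^ j)⁻¹) = x ^ i * u' * (x ^ i)⁻¹ * (x ^ j * u' * (x ^ j)⁻¹) :=
      congrArg Subtype.val h
    by_contra hne
    have hm : u'⁻¹ * u ∈ Wg (LF C x y) := mul_mem (inv_mem hu') hu
    refine hij (m.V_fix hm (fun e => hne (Subtype.ext (inv_mul_eq_one.1 e).symm)) ?_)
    have h2 : u'⁻¹ * u = u' * u⁻¹ := by
      rw [inv_eq_of_mul_eq_one_right (m.V_sq hu), inv_eq_of_mul_eq_one_right (m.V_sq hu')]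
    calc x ^ i * (u'⁻¹ * u) * (x ^ i)⁻¹ = (x ^ i * u' * (x ^ i)⁻¹)⁻¹ *
          (x ^ i * u * (x ^ i)⁻¹ * (x ^ j * u * (x ^ j)⁻¹)) * (x ^ j * u * (x ^ j)⁻¹)⁻¹ := by group
      _ = _ := by rw [h1, h2]; group
  obtain ⟨u, hu⟩ := Finite.injective_iff_surjective.1 hφ ⟨v, hv⟩
  exact ⟨u, u.2, congrArg Subtype.val hu⟩

theorem V_ne : ∃ v ∈ Wg (LF C x y), v ≠ 1 :=
  ⟨_, mem_Wg m.mpa_x m.mpa_y, fun e => m.ne (inv_mul_eq_one.1 e)⟩

theorem V_norm (hv : v ∈ Wg (LF C x y)) : v ∈ normalizer C :=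
  m.hs.le_norm (closure_mono (fun _ hz => hz.1.1) (Wg_le hv))

theorem exists_hat (hb : b ∈ C) (h1 : Par x b) : ∃ e, Hat C x y b e ∧
    ∀ v ∈ Wg (LF C x y), e v ∈ closure C := by
  have hD : HS p (Sb C {x, y, b}) := m.hs.sb _
  have hc : Cons (Sb C {x, y, b}) := m.pl x m.hx y m.hy b hb m.par m.ne m.fl
  have xD : x ∈ Sb C {x, y, b} := ⟨m.hx, mem3a _ _ _⟩
  set A := Fr (Sb C {x, y, b}) x with hA
  have sA : Sys p A := hD.sysF hc xD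
  have aA := sA.aff
  have xA : x ∈ A := ⟨xD, par_refl x⟩
  have bA : b ∈ A := ⟨⟨hb, mem3c _ _ _⟩, h1⟩
  have hV : Wg (LF C x y) ≤ Wg A := Wg_mono fun z hz => ⟨⟨hz.1.1, le3 _ _ _ hz.2⟩, hz.1.2⟩
  have fix : ∀ v ∈ Wg (LF C x y), Commute v b → v = 1 := fun v hv h =>
    m.mpa_one hv ((mem_Eg.1 (sA.mem_E aA bA (hV hv) h)).2 x xA)
  have xV : ∀ v ∈ Wg (LF C x y), x * v * x⁻¹ ∈ Wg (LF C x y) := fun v hv => by simpa using m.V_pow 1 hv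
  have step : ∀ v ∈ Wg (LF C x y), ∀ t, Cg A v t → Cg A (x * v * x⁻¹) (b * t * b⁻¹) := fun v hv t h =>
    sA.cg_trans aA (sA.cg_sigma aA xA bA (hV hv)) (sA.cg_conj aA (sA.C_norm bA) h)
  obtain ⟨w1, hw1, w1ne⟩ := m.V_ne
  have hw0 := xV w1 hw1
  set w0 := x * w1 * x⁻¹ with hw0e
  have b'A : w0 * b * w0⁻¹ ∈ A := conj_C (sA.W_norm (hV hw0)) bA
  set b' := w0 * b * w0⁻¹ with hb'
  have hne : b ≠ b' := fun e => w1ne (by
    have := fix _ hw0 (mul_inv_eq_iff_eq_mul.1 e.symm)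
    rwa [hw0e, conj_eq_one_iff] at this)
  have hv0 : w1 * w0⁻¹ ∈ Wg (LF C x y) := mul_mem hw1 (inv_mem hw0)
  have v0ne : w1 * w0⁻¹ ≠ 1 := fun e => w1ne (m.mpa_one hw1 (by
    have := mul_inv_eq_one.1 e
    rw [hw0e] at this
    exact (mul_inv_eq_iff_eq_mul.1 this.symm).symm))
  have ct : Cg A (w1 * w0⁻¹) (b⁻¹ * b') := by
    have k1 := sA.cg_conj aA (inv_mem (sA.C_norm bA)) (sA.cg_sigma aA xA bA (hV hw1))
    rw [show b⁻¹ * (b * w1 * b⁻¹) * b⁻¹⁻¹ = w1 by group] at k1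
    have := sA.cg_mul aA (sA.cg_symm aA k1) (sA.cg_refl aA (inv_mem (hV hw0)))
    rwa [show b⁻¹ * (x * w1 * x⁻¹) * b⁻¹⁻¹ * w0⁻¹ = b⁻¹ * b' by rw [hb', hw0e]; group] at this
  have ci : ∀ i : ℕ, Cg A (x ^ i * (w1 * w0⁻¹) * (x ^ i)⁻¹) (b ^ i * (b⁻¹ * b') * (b ^ i)⁻¹) := fun i =>
    sA.cg_trans aA (cg_pow sA xA bA (hV hv0) i) (sA.cg_conj aA (pow_mem (sA.C_norm bA) i) ct)
  have hfl : Flat A b b' := by
    refine sA.flat_of bA b'A (by rw [← sA.cg_sq aA ct, pow_two, m.V_sq hv0]) fun i => ?_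
    rw [← commutatorElement_eq_one_iff_commute, ← sA.cg_commutator aA ct (sA.cg_right aA (ci i)),
      sA.comm_symm aA (hV hv0) (sA.cg_right aA (ci i)), ← sA.cg_commutator aA (ci i) (hV hv0),
      commutatorElement_eq_one_iff_commute]
    exact m.V_comm (m.V_pow i hv0) hv0
  have hL : Ln A b b' = LF C b b' := by
    rw [hA, ← hD.Fr_eq hc xD bA]
    exact LF_inter bA.1.2 b'A.1.2
  have hW : Wg (Ln A b b') ≤ Wg A := Wg_mono fun z hz => hz.1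
  have bV : ∀ t ∈ Wg (Ln A b b'), b * t * b⁻¹ ∈ Wg (Ln A b b') := fun t ht =>
    conj_Wg ((sA.ln b b').C_norm (left_mem_Ln bA)) ht
  let K : Subgroup G :=
    { carrier := {v | v ∈ Wg (LF C x y) ∧ ∃ t ∈ Wg (Ln A b b'), Cg A v t}
      one_mem' := ⟨one_mem _, 1, one_mem _, sA.cg_refl aA (one_mem _)⟩
      mul_mem' := fun ⟨h1, t, ht, c⟩ ⟨h2, t', ht', c'⟩ => ⟨mul_mem h1 h2, _, mul_mem ht ht', sA.cg_mul aA c c'⟩
      inv_mem' := fun ⟨h1, t, ht, c⟩ => ⟨inv_mem h1, t, ht, sA.cg_trans aA (sA.cg_inv aA c.1) c⟩ }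
  have hK : Wg (Ln (LF C x y) x y) ≤ K :=
    m.mpa_sys.flat_irr m.mpa_x m.mpa_y m.mpa_fl (by rwa [ln_LF]) v0ne
      ⟨hv0, _, mem_Wg (left_mem_Ln bA) (right_mem_Ln b'A), ct⟩
      fun v ⟨hv, t, ht, c⟩ => ⟨xV v hv, _, bV t ht, step v hv t c⟩
  rw [ln_LF] at hK
  have hex : ∀ v, ∃ t, v ∈ Wg (LF C x y) → t ∈ Wg (Ln A b b') ∧ Cg A v t := fun v => by
    by_cases hv : v ∈ Wg (LF C x y)
    · obtain ⟨t, ht⟩ := (hK hv).2
      exact ⟨t, fun _ => ht⟩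
    · exact ⟨1, fun h => absurd h hv⟩
  choose θ hθ using hex
  have uniq : ∀ v ∈ Wg (LF C x y), ∀ t ∈ Wg (Ln A b b'), Cg A v t → θ v = t := fun v hv t ht c =>
    inv_mul_eq_one.1 (sA.flat_eq_one bA b'A hfl (mul_mem (inv_mem (hθ v hv).1) ht)
      ((mem_Eg.1 (sA.cg_trans aA (sA.cg_symm aA (hθ v hv).2) c).2).2 b bA))
  have hE : ∀ v ∈ Wg (LF C x y), v⁻¹ * θ v ∈ Eg A := fun v hv => (hθ v hv).2.2
  have cv : ∀ v ∈ Wg (LF C x y), ∀ u ∈ Wg (LF C x y), Commute (v⁻¹ * θ v) u := fun v hv u hu =>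
    Eg_comm (hE v hv) (Wg_le (hV hu))
  refine ⟨fun v => v⁻¹ * θ v, ⟨fun u hu v hv => ?_, fun v hv => sA.E_sq aA (hE v hv),
    fun v hv => (mem_Eg.1 (hE v hv)).2 x xA, fun v hv => (mem_Eg.1 (hE v hv)).2 b bA, cv, fun v hv => ?_, fix,
    b', b'A.1.1, sA.four b bA b' b'A, hne, ?_, fun v hv => ?_⟩, fun v hv => ?_⟩
  · rw [uniq _ (mul_mem hu hv) _ (mul_mem (hθ u hu).1 (hθ v hv).1) (sA.cg_mul aA (hθ u hu).2 (hθ v hv).2),
      ← mul_assoc (u⁻¹ * θ u), (cv u hu _ (inv_mem hv)).eq]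
    group
  · rw [mul_inv_cancel_left, mul_inv_cancel_left,
      uniq _ (xV v hv) _ (bV _ (hθ v hv).1) (step v hv _ (hθ v hv).2)]
  · intro z hz
    exact hfl z (hL ▸ hz)
  · rw [mul_inv_cancel_left, ← hL]; exact (hθ v hv).1
  · exact closure_mono (fun _ hz => hz.1.1) (Wg_le (Eg_le (hE v hv)))

theorem mpa_pow (he : Hat C x y b e) (i : ℕ) (hv : v ∈ Wg (LF C x y)) :
    b ^ i * (v * e v) * (b ^ i)⁻¹ = x ^ i * v * (x ^ i)⁻¹ * e (x ^ i * v * (x ^ i)⁻¹) := by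
  induction i with
  | zero => simp
  | succ i ih =>
    rw [show b ^ (i + 1) * (v * e v) * (b ^ (i + 1))⁻¹ = b * (b ^ i * (v * e v) * (b ^ i)⁻¹) * b⁻¹ by group, ih,
      he.act _ (m.V_pow i hv), show x * (x ^ i * v * (x ^ i)⁻¹) * x⁻¹ = x ^ (i + 1) * v * (x ^ (i + 1))⁻¹ by group]

theorem hat_pow (he : Hat C x y b e) (i : ℕ) (hv : v ∈ Wg (LF C x y)) :
    b ^ i * v * (b ^ i)⁻¹ = x ^ i * v * (x ^ i)⁻¹ * e (x ^ i * v * (x ^ i)⁻¹) * e v := by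
  rw [← m.mpa_pow he i hv, mul_assoc _ _ (e v), ← ((he.cb v hv).pow_right i).inv_right.eq]
  calc b ^ i * v * (b ^ i)⁻¹ = b ^ i * v * (e v * e v) * (b ^ i)⁻¹ := by rw [he.sq v hv, mul_one]
    _ = _ := by group

theorem hat_comm (he : Hat C x y b e) (hu : u ∈ Wg (LF C x y)) (hv : v ∈ Wg (LF C x y)) :
    Commute (e u) (e v) := by
  rw [Commute, SemiconjBy, ← he.mul u hu v hv, ← he.mul v hv u hu, (m.V_comm hu hv).eq]

/-- the action on the translations of the line through `b` of an element `d` of the plane through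
that line and `g` -/
theorem hat_act (hb : b ∈ C) (he : Hat C x y b e) (hg : g ∈ C) {d δ : G} (hd : d ∈ C) (hδ : δ ∈ C)
    (hd' : d ∈ closure ({b, g} : Set G)) (hδ' : δ ∈ closure ({b, g} : Set G)) {k : ℕ}
    (hk : Par d (b ^ k)) (hp : ¬ p ∣ k) (j : ℕ) (hv : v ∈ Wg (LF C x y)) :
    Commute ((x ^ (k * j) * v * (x ^ (k * j))⁻¹ * e (x ^ (k * j) * v * (x ^ (k * j))⁻¹))⁻¹ *
      (d ^ j * (v * e v) * (d ^ j)⁻¹)) δ ∧ (Commute (v * e v) δ → v = 1) := by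
  obtain ⟨b', hb', hpar, hne, hfl, hl⟩ := he.line
  have hD : HS p (Sb C {b, b', g}) := m.hs.sb _
  have hc : Cons (Sb C {b, b', g}) := m.pl b hb b' hb' g hg hpar hne hfl
  have bD : b ∈ Sb C {b, b', g} := ⟨hb, mem3a _ _ _⟩
  have δD : δ ∈ Sb C {b, b', g} := ⟨hδ, le3' _ _ _ hδ'⟩
  have hw : v * e v ∈ WH (Sb C {b, b', g}) := by
    rw [hD.WH_eq hc bD]
    refine Wg_mono (fun z hz => ?_) (hl v hv)
    exact ⟨⟨hz.1.1, le3 _ _ _ hz.2⟩, hz.1.2⟩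
  constructor
  · have kD := hD.pow_mem bD hp
    have := (cg_pow (hD.sysF hc kD) ⟨kD, par_refl _⟩ ⟨⟨hd, le3' _ _ _ hd'⟩, hk.symm⟩ (hD.WH_eq hc kD ▸ hw) j).2
    rw [← hD.EH_eq hc kD, ← pow_mul, m.mpa_pow he _ hv] at this
    exact (mem_EH.1 this).2 δ δD
  · intro h
    obtain ⟨δ', h1, ⟨n, rfl⟩, h3⟩ := hD.exists_par bD δD
    have sA := hD.sysF hc bD
    have h4 := (mem_Eg.1 (sA.mem_E sA.aff ⟨h1, h3⟩ (hD.WH_eq hc bD ▸ hw) (h.zpow_right n))).2 b ⟨bD, par_refl b⟩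
    refine he.fix v hv ?_
    have := h4.mul_left (he.cb v hv)
    rwa [mul_assoc, he.sq v hv, mul_one] at this

end Mq

end Cfsg.Agent.CY
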