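import Mathlib
import Cfsg.Agent.CY.MpA

set_option autoImplicit false
set_option linter.unusedSectionVars false

namespace Cfsg.Agent.CY

open Subgroup Cfsg.Agent.SY
open scoped commutatorElement

variable {G : Type*} [Group G] [Finite G] {p : ℕ} {C : Set G} {x y b g u v : G} {e f : G → G}

namespace MpB

/-- two elements act alike on `z` -/
theorem act_eq {s t z : G} (h : Commute (s⁻¹ * t) z) : t * z * t⁻¹ = s * z * s⁻¹ := by
  calc t * z * t⁻¹ = s * (s⁻¹ * t * z) * t⁻¹ := by group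
    _ = _ := by rw [h.eq]; group

theorem of_act_eq {s t z : G} (h : t * z * t⁻¹ = s * z * s⁻¹) : Commute (s⁻¹ * t) z := by
  calc s⁻¹ * t * z = s⁻¹ * (t * z * t⁻¹) * t := by group
    _ = _ := by rw [h]; group

theorem mem2a (a b : G) : a ∈ closure ({a, b} : Set G) := subset_closure (by simp)
theorem mem2b (a b : G) : b ∈ closure ({a, b} : Set G) := subset_closure (by simp)

theorem pow_pred {z : G} (hp : p.Prime) (h : z ^ p = 1) (n : ℕ) : z ^ ((p - 1) * n) = (z ^ n)⁻¹ := by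
  rw [eq_inv_iff_mul_eq_one, ← pow_add, ← Nat.succ_mul, Nat.succ_eq_add_one, Nat.sub_add_cancel hp.one_le, pow_mul, h,
    one_pow]

theorem not_modEq (hp : p.Prime) {k j : ℕ} (hk : ¬ p ∣ k) (hj : ¬ p ∣ j) : ¬ j ≡ j + (p - 1) * (k * j) [MOD p] := by
  intro h
  have h1 := (Nat.modEq_iff_dvd' (Nat.le_add_right _ _)).1 h
  rw [Nat.add_sub_cancel_left] at h1
  rcases (Nat.Prime.dvd_mul hp).1 h1 with h2 | h2
  · have := Nat.le_of_dvd (by have := hp.two_le; omega) h2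
    have := hp.two_le
    omega
  · rcases (Nat.Prime.dvd_mul hp).1 h2 with h3 | h3
    exacts [hk h3, hj h3]

end MpB

open MpB

namespace Mq

variable (m : Mq p C x y)
include m

/-- `(♣)`: `n = p - 1`, so that `x ^ (n * i) = (x ^ i)⁻¹`. -/
theorem club (hb : b ∈ C) (hg : g ∈ C) (he : Hat C x y b e) (hf : Hat C x y g f) {k : ℕ}
    (hk : Par g (b ^ k)) (hp : ¬ p ∣ k) (j : ℕ) (hv : v ∈ Wg (LF C x y)) {δ a : G}
    (hδ : δ = (b ^ (k * j))⁻¹ * g * b ^ (k * j))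
    (ha : a = x ^ (j + (p - 1) * (k * j)) * v * (x ^ (j + (p - 1) * (k * j)))⁻¹) :
    v * f v * δ * (v * f v)⁻¹ =
      a * e (x ^ j * v * (x ^ j)⁻¹ * a) * δ * (a * e (x ^ j * v * (x ^ j)⁻¹ * a))⁻¹ := by
  have h1 := (m.hat_act hg hf hb (m.hs.pow_mem hb hp) hg (pow_mem (mem2b g b) k) (mem2a g b) (k := 1)
    (by rw [pow_one]; exact hk.symm) (fun h => m.hs.prime.one_lt.ne' (Nat.dvd_one.1 h)) j hv).1
  rw [one_mul, ← pow_mul] at h1
  have hw := m.V_pow j hv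
  set w := x ^ j * v * (x ^ j)⁻¹ with hwe
  have h2 := act_eq h1
  rw [show w * f w * g * (w * f w)⁻¹ = w * (f w * g) * (f w)⁻¹ * w⁻¹ by group, (hf.cb w hw).eq] at h2
  have h3 := m.hat_pow he ((p - 1) * (k * j)) hw
  have h4 : x ^ ((p - 1) * (k * j)) * w * (x ^ ((p - 1) * (k * j)))⁻¹ = a := by rw [ha, hwe]; group
  have ha' : a ∈ Wg (LF C x y) := h4 ▸ m.V_pow _ hw
  rw [h4, pow_pred m.hs.prime (m.hs.pow_p hb), mul_assoc a, (m.hat_comm he ha' hw).eq, ← he.mul w hw a ha'] at h3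
  rw [← h3, hδ]
  calc _ = (b ^ (k * j))⁻¹ * (b ^ (k * j) * (v * f v) * (b ^ (k * j))⁻¹ * g *
        (b ^ (k * j) * (v * f v) * (b ^ (k * j))⁻¹)⁻¹) * b ^ (k * j) := by group
    _ = _ := by rw [h2]; group

theorem mpb_j (hb : b ∈ C) (hg : g ∈ C) (he : Hat C x y b e) (hf : Hat C x y g f) {k : ℕ}
    (hk : Par g (b ^ k)) (hp : ¬ p ∣ k) {j : ℕ} (hj : ¬ p ∣ j) (hu : u ∈ Wg (LF C x y)) (hv : v ∈ Wg (LF C x y)) :
    Commute ((e u * f v)⁻¹ * (f v * e u)) ((b ^ (k * j))⁻¹ * g * b ^ (k * j)) := by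
  obtain ⟨w, hw, rfl⟩ := m.V_surj (not_modEq m.hs.prime hp hj) hu
  set δ := (b ^ (k * j))⁻¹ * g * b ^ (k * j) with hδ
  let a : G → G := fun t => x ^ (j + (p - 1) * (k * j)) * t * (x ^ (j + (p - 1) * (k * j)))⁻¹
  let l : G → G := fun t => x ^ j * t * (x ^ j)⁻¹ * a t
  have ha : ∀ t ∈ Wg (LF C x y), a t ∈ Wg (LF C x y) := fun t ht => m.V_pow _ ht
  have hl : ∀ t ∈ Wg (LF C x y), l t ∈ Wg (LF C x y) := fun t ht => mul_mem (m.V_pow _ ht) (ha t ht)
  have cl : ∀ t ∈ Wg (LF C x y), f t * δ * (f t)⁻¹ = t⁻¹ * a t * (e (l t) * δ * (e (l t))⁻¹) * (t⁻¹ * a t)⁻¹ :=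
    fun t ht => by
      have := m.club hb hg he hf hk hp j ht hδ rfl
      calc f t * δ * (f t)⁻¹ = t⁻¹ * (t * f t * δ * (t * f t)⁻¹) * t := by group
        _ = _ := by rw [this]; simp only [l, a]; group
  have am : a (v * w) = a v * a w := by simp only [a]; group
  have lm : l (v * w) = l w * l v := by
    have c1 := (m.V_comm (m.V_pow j hw) (ha v hv)).eq
    rw [(m.V_comm (hl w hw) (hl v hv)).eq]
    simp only [l]
    rw [am]
    calc _ = x ^ j * v * (x ^ j)⁻¹ * (x ^ j * w * (x ^ j)⁻¹ * a v) * a w := by group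
      _ = _ := by rw [c1]; group
  have mm : (v * w)⁻¹ * a (v * w) = (w⁻¹ * a w) * (v⁻¹ * a v) := by
    rw [am, (m.V_comm (ha v hv) (ha w hw)).eq, mul_assoc w⁻¹, ← mul_assoc (a w) v⁻¹,
      (m.V_comm (ha w hw) (inv_mem hv)).eq]
    generalize a v = s
    generalize a w = t
    group
  have hμv := mul_mem (inv_mem hv) (ha v hv)
  have hμw := mul_mem (inv_mem hw) (ha w hw)
  have k1 := cl _ (mul_mem hv hw)
  rw [mm, lm, he.mul _ (hl w hw) _ (hl v hv), hf.mul v hv w hw] at k1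
  have k2 := cl v hv
  have k3 := cl w hw
  change Commute ((e (l w) * f v)⁻¹ * (f v * e (l w))) δ
  generalize v⁻¹ * a v = μ at hμv k1 k2
  generalize w⁻¹ * a w = ν at hμw k1 k3
  have c1 := (hf.cv v hv ν hμw).eq
  have c2 := (he.cv _ (hl w hw) μ hμv).eq
  apply of_act_eq
  calc f v * e (l w) * δ * (f v * e (l w))⁻¹
      = ν⁻¹ * ((ν * f v) * (e (l w) * δ * (e (l w))⁻¹) * (ν * f v)⁻¹) * ν := by group
    _ = ν⁻¹ * (f v * (ν * (e (l w) * δ * (e (l w))⁻¹) * ν⁻¹) * (f v)⁻¹) * ν := by rw [← c1]; group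
    _ = ν⁻¹ * (f v * f w * δ * (f v * f w)⁻¹) * ν := by rw [← k3]; group
    _ = (μ * e (l w)) * (e (l v) * δ * (e (l v))⁻¹) * (μ * e (l w))⁻¹ := by rw [k1]; group
    _ = e (l w) * (μ * (e (l v) * δ * (e (l v))⁻¹) * μ⁻¹) * (e (l w))⁻¹ := by rw [← c2]; group
    _ = _ := by rw [← k2]; group

theorem j1 (hb : b ∈ C) (hg : g ∈ C) (hxb : Par x b) (hxg : Par x g) (he : Hat C x y b e)
    (hf : Hat C x y g f) (hu : u ∈ Wg (LF C x y)) (hv : v ∈ Wg (LF C x y)) :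
    Commute (f v) (e u * g * (e u)⁻¹) := by
  have h := m.hs
  by_cases hz : b ∈ zpowers g
  · obtain rfl := h.par_uniq m.hx hg hb hz hxg hxb
    rw [(he.cb u hu).eq, mul_inv_cancel_right]
    exact hf.cb v hv
  obtain ⟨b', hb', h1, hk⟩ := h.exists_par hg hb
  obtain ⟨k, hp, rfl⟩ := h.exists_pow hb hb' h1
  have c1 := m.mpb_j hb hg he hf hk hp (j := 1) (fun e => h.prime.one_lt.ne' (Nat.dvd_one.1 e)) hu hv
  have c2 := m.mpb_j hb hg he hf hk hp (j := 2)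
    (fun e => h.ne_two ((Nat.prime_dvd_prime_iff_eq h.prime Nat.prime_two).1 e)) hu hv
  rw [mul_one] at c1
  rw [pow_mul, pow_two] at c2
  have hd : b ^ k ∈ closure ({b, g} : Set G) := pow_mem (mem2a b g) k
  set d := b ^ k with hde
  have hm : ∀ t ∈ closure ({b, g} : Set G), t⁻¹ * g * t ∈ Sb C {b, g} := fun t ht => by
    have := (h.sb {b, g}).conj_mem (g := t⁻¹) (y := g)
      (closure_mono (by rintro z (rfl | rfl); exacts [⟨hb, mem2a _ _⟩, ⟨hg, mem2b _ _⟩]) (inv_mem ht)) ⟨hg, mem2b _ _⟩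
    rwa [inv_inv] at this
  have hne : (d * d)⁻¹ * g * (d * d) ∉ zpowers (d⁻¹ * g * d) := by
    rintro ⟨n, hn⟩
    have e1 : d⁻¹ * g * d⁻¹⁻¹ = g ^ n := by
      have : (d⁻¹ * g * d⁻¹⁻¹) ^ n = d⁻¹ * g ^ n * d⁻¹⁻¹ := conj_zpow
      simp only [inv_inv] at this hn ⊢
      rw [this] at hn
      calc d⁻¹ * g * d = d * ((d * d)⁻¹ * g * (d * d)) * d⁻¹ := by group
        _ = _ := by rw [← hn]; group
    have e2 := h.eq_of_par hg (by rw [inv_inv]; exact (hm d hd).1) ⟨n, e1.symm⟩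
      (h.par_conj_self hg hb (inv_mem (pow_mem (mem2b g b) k)))
    have e3 : Commute g d := by
      calc g * d = d * (d⁻¹ * g * d⁻¹⁻¹) := by group
        _ = _ := by rw [← e2]
    exact hz (zpowers_le.2 (h.mem_zpowers_of_commute hg hb' e3) (h.mem_zpowers_symm hb hb' h1))
  have c3 : Commute ((e u * f v)⁻¹ * (f v * e u)) g := by
    refine commute_closure (S := {d⁻¹ * g * d, (d * d)⁻¹ * g * (d * d)}) ?_ ?_
    · rintro z (rfl | rfl)
      exacts [c1, c2]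
    · rw [h.closure_eq hb hg (hm d hd) (hm _ (mul_mem hd hd)) hne]
      exact mem2b b g
  have c4 := act_eq c3
  rw [show e u * f v * g * (e u * f v)⁻¹ = e u * (f v * g) * (f v)⁻¹ * (e u)⁻¹ by group, (hf.cb v hv).eq] at c4
  calc f v * (e u * g * (e u)⁻¹) = f v * e u * g * (f v * e u)⁻¹ * f v := by group
    _ = _ := by rw [c4]; group

end Mq

end Cfsg.Agent.CY
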