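import Mathlib
import Cfsg.Agent.CY.MpB

set_option autoImplicit false
set_option linter.unusedSectionVars false

namespace Cfsg.Agent.CY

open Subgroup Cfsg.Agent.SY
open scoped commutatorElement

namespace MpC

theorem core {V Ω : Type*} [CommGroup V] [MulAction (V × V) Ω] {p : ℕ} (sq : ∀ v : V, v * v = 1) (σ : ℕ → V →* V)
    (σσ : ∀ i j v, σ i (σ j v) = σ j (σ i v)) (per : ∀ i j, i ≡ j [MOD p] → σ i = σ j)
    (fix : ∀ i j v, v ≠ 1 → σ i v = σ j v → i ≡ j [MOD p]) (T : Ω → Ω) (δ : Ω) (Tδ : T δ = δ) {k c n : ℕ}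
    (hn : ¬ 1 ≡ n [MOD p]) (hk : ¬ 1 ≡ k [MOD p])
    (E0 : ∀ w u : V, T ((w, u) • δ) = (σ c w, (1 : V)) • T (((1 : V), u) • δ))
    (E1 : ∀ v, T ((σ n v, σ 1 v * σ n v) • δ) = (σ n (σ 1 v), σ 1 (σ 1 v) * σ n (σ 1 v)) • δ)
    (E2 : ∀ u : V, T ((u, u) • δ) = (σ k u, σ k u) • δ) (F1 : ∀ u : V, (u, u) • δ = δ → u = 1)
    (F2 : ∀ v, (σ n v, σ 1 v * σ n v) • δ = δ → v = 1) (F3 : ∀ w : V, (w, (1 : V)) • δ = δ → w = 1) (v : V) :
    v = 1 := by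
  by_contra hv
  have sq' : ∀ a b : V, a * (a * b) = b := fun a b => by rw [← mul_assoc, sq, one_mul]
  have sq2 : ∀ (q : V × V) (z : Ω), q • q • z = z := fun q z => by
    rw [smul_smul, show q * q = 1 from Prod.ext (sq _) (sq _), one_smul]
  have ne : ∀ i j v, v ≠ 1 → ¬ i ≡ j [MOD p] → σ i v * σ j v ≠ 1 := fun i j v h1 h2 e =>
    h2 (fix i j v h1 (by rw [← mul_one (σ i v), ← e, sq']))
  obtain ⟨l, hl⟩ : ∃ l : V → V, ∀ v, l v = σ 1 v * σ n v := ⟨_, fun _ => rfl⟩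
  obtain ⟨ν, hν⟩ : ∃ ν : V → V, ∀ v, ν v = σ 1 (l v) * σ k (l v) := ⟨_, fun _ => rfl⟩
  obtain ⟨P, hP⟩ : ∃ P : V → V, ∀ v, P v = σ c (σ n v) * σ 1 (σ n v) * (σ c (l v) * σ k (l v)) := ⟨_, fun _ => rfl⟩
  have lσ : ∀ i v, l (σ i v) = σ i (l v) := fun i v => by rw [hl, hl, map_mul, σσ 1 i, σσ n i]
  have νσ : ∀ i v, ν (σ i v) = σ i (ν v) := fun i v => by rw [hν, hν, lσ, map_mul, σσ 1 i, σσ k i]
  have Pσ : ∀ i v, P (σ i v) = σ i (P v) := fun i v => by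
    rw [hP, hP, lσ, map_mul, map_mul, map_mul, σσ n i, σσ c i, σσ 1 i, σσ c i, σσ k i]
  have R : ∀ v, (P v, ν v) • δ = δ := fun v => by
    have h1 := E0 (σ n v) (l v)
    have h2 := E0 (l v) (l v)
    rw [E2] at h2
    rw [hl, E1, ← hl, ← hl, lσ, σσ n 1] at h1
    have e : (P v, ν v) = (σ 1 (σ n v), σ 1 (l v)) * (σ c (σ n v), 1) * (σ c (l v), 1) * (σ k (l v), σ k (l v)) := by
      rw [hP, hν]
      simp only [Prod.mk_mul_mk, mul_one]
      rw [mul_comm (σ c (σ n v)), mul_assoc, mul_assoc, mul_assoc]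
    rw [e, mul_smul, mul_smul, mul_smul, h2, sq2, ← h1, sq2]
  have hQ : ∀ v, (ν v, ν v) • δ = (ν v * P v, (1 : V)) • δ := fun v => by
    conv_rhs => rw [← R v, smul_smul, Prod.mk_mul_mk, mul_assoc, sq, mul_one, one_mul]
  have ν1 : ν v ≠ 1 := hν v ▸ ne _ _ _ (hl v ▸ ne _ _ _ hv hn) hk
  have Q1 : ν v * P v ≠ 1 := fun e => ν1 (F1 _ (by rw [hQ, e]; exact one_smul _ _))
  have kc : c ≡ k [MOD p] := by
    refine fix _ _ _ Q1 ?_
    have h1 := E2 (ν v)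
    rw [hQ, E0, ← νσ, hQ, νσ, Pσ, ← map_mul, show ((1 : V), (1 : V)) • δ = δ from one_smul _ _, Tδ] at h1
    have h2 := F3 (σ c (ν v * P v) * σ k (ν v * P v)) (by
      rw [← mul_one (1 : V), ← Prod.mk_mul_mk, mul_smul, ← h1, sq2])
    rw [← mul_one (σ c (ν v * P v)), ← h2, sq']
  refine ne _ _ _ hv hk (F2 _ ?_)
  have h3 := R v
  rw [hP, hν, per _ _ kc, sq, mul_one, ← lσ, ← lσ, hl, hl] at h3
  convert h3 using 3
  · rw [map_mul, σσ n 1, σσ n k, mul_comm]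
  · simp only [map_mul, mul_assoc, mul_left_comm]

end MpC

open MpB

variable {G : Type*} [Group G] [Finite G] {p : ℕ} {C : Set G} {x y b g : G}

theorem Mq.par' (m : Mq p C x y) (hb : b ∈ C) (hg : g ∈ C) (hxb : Par x b) (hxg : Par x g) :
    Par b g := by
  have h := m.hs
  have p1 : ¬ p ∣ 1 := fun e => h.prime.one_lt.ne' (Nat.dvd_one.1 e)
  obtain ⟨d, hdC, h1, hk⟩ := h.exists_par hg hb
  obtain ⟨k, hp, hd⟩ := h.exists_pow hb hdC h1
  by_cases hk1 : 1 ≡ k [MOD p]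
  · rw [← h.ord b hb, ← pow_eq_pow_iff_modEq, pow_one, ← hd] at hk1
    exact (hk1 ▸ hk).symm
  exfalso
  obtain ⟨e, he, -⟩ := m.exists_hat hb hxb
  obtain ⟨f, hf, -⟩ := m.exists_hat hg hxg
  have dm : d ∈ closure ({b, g} : Set G) := hd ▸ pow_mem (mem2a b g) k
  have dm' : d ∈ closure ({g, b} : Set G) := hd ▸ pow_mem (mem2b g b) k
  obtain ⟨δ, hδ⟩ : ∃ δ, δ = d⁻¹ * g * d⁻¹⁻¹ := ⟨_, rfl⟩
  have δC : δ ∈ C := hδ ▸ h.conj _ (h.inv_mem hdC) _ hg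
  have δm : δ ∈ closure ({b, g} : Set G) :=
    hδ ▸ mul_mem (mul_mem (inv_mem dm) (mem2b b g)) (inv_mem (inv_mem dm))
  have δm' : δ ∈ closure ({g, b} : Set G) := by rwa [Set.pair_comm]
  have δg : Par δ (g ^ 1) := by rw [pow_one, hδ]; exact (h.par_conj_self hg hb (inv_mem dm')).symm
  have δd : Par δ (b ^ k) := by
    have := hk.conj d⁻¹
    rwa [← hδ, inv_mul_cancel, one_mul, inv_inv, hd] at this
  obtain ⟨γ, γC, γm, hγ⟩ := h.exists_par m.hx δC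
  obtain ⟨c, -, hc⟩ := h.exists_pow γC δC (h.mem_zpowers_symm δC γC γm)
  obtain ⟨ζ, hζ, -⟩ := m.exists_hat γC hγ
  let V := Wg (LF C x y)
  letI : CommGroup V := { (inferInstance : Group V) with mul_comm := fun a b => Subtype.ext (m.V_comm a.2 b.2).eq }
  let σ : ℕ → V →* V := fun i => MonoidHom.mk' (fun v => ⟨x ^ i * v * (x ^ i)⁻¹, m.V_pow i v.2⟩)
    fun a b => Subtype.ext (by simp only [Subgroup.coe_mul]; group)
  have σv : ∀ i (v : V), (σ i v : G) = x ^ i * v * (x ^ i)⁻¹ := fun _ _ => rfl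
  let ψ : V × V →* G := MonoidHom.mk' (fun q => q.1 * e q.2) fun q r => by
    simp only [Prod.fst_mul, Prod.snd_mul, Subgroup.coe_mul]
    rw [he.mul _ q.2.2 _ r.2.2, mul_assoc, mul_assoc, ← mul_assoc (e q.2), (he.cv _ q.2.2 _ r.1.2).eq, mul_assoc]
  letI : MulAction (V × V) G := MulAction.compHom G (MulAut.conj.comp ψ)
  have sm : ∀ (w u : V) (z : G), (w, u) • z = w * e u * z * (w * e u)⁻¹ := fun _ _ _ => rfl
  have e1 : e 1 = 1 := by
    have := he.mul 1 (one_mem _) 1 (one_mem _)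
    rwa [he.sq 1 (one_mem _), mul_one] at this
  have sm1 : ∀ (w : V) (z : G), (w, (1 : V)) • z = w * z * (w : G)⁻¹ := fun w z => by
    rw [sm, OneMemClass.coe_one, e1, mul_one]
  have cj : ∀ w : G, δ * (w * δ * w⁻¹) * δ⁻¹ = δ ^ 1 * w * (δ ^ 1)⁻¹ * δ * (δ ^ 1 * w * (δ ^ 1)⁻¹)⁻¹ := fun w => by group
  have cl : ∀ v : V, (σ (1 + (p - 1) * (k * 1)) v, σ 1 v * σ (1 + (p - 1) * (k * 1)) v) • δ =
      v * f v * δ * (v * f v)⁻¹ := fun v =>
    (m.club hb hg he hf (hd ▸ hk) hp 1 v.2 (by rw [hδ, mul_one, ← hd, inv_inv]) rfl).symm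
  obtain ⟨v, hv, v1⟩ := m.V_ne
  refine v1 (congrArg Subtype.val (MpC.core (p := p) (fun v : V => Subtype.ext (m.V_sq v.2)) σ
    (fun i j v => Subtype.ext (by simp only [σv]; group)) (fun i j hij => ?_)
    (fun i j v h1 h2 => m.V_fix v.2 (fun e => h1 (Subtype.ext e)) (congrArg Subtype.val h2))
    (fun z => δ * z * δ⁻¹) δ (mul_inv_cancel_right _ _) (k := k) (c := c) (not_modEq h.prime hp p1) hk1
    (fun w u => ?_) (fun v => ?_) (fun u => ?_) (fun u hu => ?_) (fun v hv => ?_) (fun w hw => ?_) ⟨v, hv⟩))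
  · rw [← h.ord x m.hx, ← pow_eq_pow_iff_modEq] at hij
    ext v
    rw [σv, σv, hij]
  · have k1 := m.hat_pow hζ c w.2
    have k2 : ∀ t ∈ Wg (LF C x y), Commute (ζ t) (δ * (e u * δ * (e u)⁻¹) * δ⁻¹) := fun t ht => by
      have a1 : Commute (ζ t) δ := hc ▸ (hζ.cb t ht).pow_right c
      have a2 := (m.j1 hb γC hxb hγ he hζ u.2 ht).pow_right c
      rw [conj_pow, ← hc] at a2
      exact (a1.mul_right a2).mul_right a1.inv_right
    have k3 := ((k2 _ (m.V_pow c w.2)).mul_left (k2 _ w.2)).eq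
    rw [← hc, mul_assoc _ _ (ζ w)] at k1
    simp only [sm1, sm, OneMemClass.coe_one, one_mul, σv]
    calc _ = δ * w * δ⁻¹ * (δ * (e u * δ * (e u)⁻¹) * δ⁻¹) * (δ * w * δ⁻¹)⁻¹ := by group
      _ = _ := by rw [k1, mul_assoc _ (_ * ζ w), k3]; group
  · rw [cl, cl, cj, act_eq (m.hat_act hg hf hb δC δC δm' δm' δg p1 1 v.2).1]
    rfl
  · rw [sm, sm, cj, act_eq (m.hat_act hb he hg δC δC δm δm δd hp 1 u.2).1, mul_one]
    rfl
  · exact Subtype.ext ((m.hat_act hb he hg δC δC δm δm δd hp 1 u.2).2 (mul_inv_eq_iff_eq_mul.1 hu))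
  · rw [cl] at hv
    exact Subtype.ext ((m.hat_act hg hf hb δC δC δm' δm' δg p1 1 v.2).2 (mul_inv_eq_iff_eq_mul.1 hv))
  · rw [sm1] at hw
    obtain ⟨n, rfl⟩ := γm
    exact Subtype.ext (hζ.fix _ w.2 ((show Commute (w : G) δ from mul_inv_eq_iff_eq_mul.1 hw).zpow_right n))

theorem Mq.cons (m : Mq p C x y) : Cons C := by
  intro a ha b hb c hc hab hac
  have h := m.hs
  obtain ⟨a', ha', h1, h2⟩ := h.exists_par m.hx ha
  obtain ⟨k, hk, rfl⟩ := h.exists_pow ha ha' h1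
  have key : ∀ z ∈ C, Par a z → Par x (z ^ k) := fun z hz haz => by
    obtain ⟨z', hz', h3, h4⟩ := h.exists_par m.hx hz
    rw [h.par_uniq ha' (h.pow_mem hz hk) hz' (zpowers_le.2 (h.mem_zpowers_symm hz (h.pow_mem hz hk)
      (npow_mem_zpowers z k)) h3) (h.par_pow ha hz haz k) (m.par' ha' hz' h2 h4)]
    exact h4
  obtain ⟨l, -, hl⟩ := Nat.exists_mul_mod_eq_one_of_coprime
    ((Nat.Prime.coprime_iff_not_dvd h.prime).2 hk).symm h.prime.one_lt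
  have e : ∀ z ∈ C, (z ^ k) ^ l = z := fun z hz => by
    rw [← pow_mul, ← pow_mod_orderOf, h.ord z hz, hl, pow_one]
  have := h.par_pow (h.pow_mem hb hk) (h.pow_mem hc hk)
    (m.par' (h.pow_mem hb hk) (h.pow_mem hc hk) (key b hb hab) (key c hc hac)) l
  rwa [e b hb, e c hc] at this

end Cfsg.Agent.CY
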