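import Mathlib
import Cfsg.Agent.CY.HQuo
import Cfsg.Agent.CY.HBase
import Cfsg.Agent.CY.MpC
import Cfsg.Agent.CY.M2
import Cfsg.Agent.CY.M3

/-! HS: the induction. -/

set_option autoImplicit false
set_option linter.unusedSectionVars false
set_option linter.unusedVariables false

namespace Cfsg.Agent.CY

open Subgroup Cfsg.Agent.SY
open scoped commutatorElement

universe u

namespace HMain

variable {G : Type*} [Group G] [Finite G] {p : ℕ} {C : Set G} {a b c x y e : G}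

theorem eq_of_exc {H : Type*} [Group H] {D : Set H} {a b : H} (h : Exc D) (ha : a ∈ D) (hb : b ∈ D)
    (h1 : Par a b) (h2 : (a⁻¹ * b) ^ 2 = 1) : a = b := by
  by_contra hn
  exact (h a ha b hb h1 hn).1 h2

theorem par_map {H : Type*} [Group H] (φ : G →* H) (h : Par a b) : Par (φ a) (φ b) := by
  rw [Par, ← map_inv, ← map_mul, ← map_pow, h, map_one]

theorem zp (e2 : e * e = 1) (h : a ∈ zpowers e) : a = 1 ∨ a = e := by
  obtain ⟨n, rfl⟩ := mem_zpowers_iff.1 h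
  have h2 : e ^ (2 : ℤ) = 1 := by rw [zpow_two, e2]
  rcases Int.even_or_odd' n with ⟨k, rfl | rfl⟩
  · exact Or.inl (by rw [zpow_mul, h2, one_zpow])
  · exact Or.inr (by rw [zpow_add, zpow_mul, h2, one_zpow, one_mul, zpow_one])

theorem zp_sq (e2 : e * e = 1) (h : a ∈ zpowers e) : a ^ 2 = 1 := by
  rcases zp e2 h with rfl | rfl
  exacts [one_pow _, by rw [pow_two, e2]]

theorem normal_zp (h : e ∈ center G) : (zpowers e).Normal :=
  ⟨fun n hn g => by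
    rwa [mem_center_iff.1 (zpowers_le.2 h hn) g, mul_inv_cancel_right]⟩

variable (h : HS p C)
  (S : ∀ K : Subgroup G, K ≠ ⊤ → Cons (C ∩ K) ∨ (p = 3 ∧ Exc (C ∩ K)))
  (Q : ∀ (N : Subgroup G) [N.Normal], N ≠ ⊥ → (∀ x ∈ C, QuotientGroup.mk' N x ≠ 1) →
    Cons C ∨ (p = 3 ∧ Exc (QuotientGroup.mk' N '' C)))
include h S Q

theorem sub_iso (ha : a ∈ C) (hb : b ∈ C) (h1 : Par a b) (hn : a ≠ b) (h2 : (a⁻¹ * b) ^ 2 = 1)
    (hg : closure ({a, b, c} : Set G) ≠ ⊤) : Cons (Sb C {a, b, c}) :=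
  (S _ hg).resolve_right fun h3 => hn (eq_of_exc h3.2 ⟨ha, subset_closure (by simp)⟩
    ⟨hb, subset_closure (by simp)⟩ h1 h2)

theorem plane (ha : a ∈ C) (hb : b ∈ C) (hc : c ∈ C) (h1 : Par a b) (hn : a ≠ b) (hf : Fl C a b) :
    Cons (Sb C {a, b, c}) := by
  have h2 := hf b (right_mem_LF hb h1)
  by_cases hg : closure ({a, b, c} : Set G) = ⊤
  swap
  · exact sub_iso h S Q ha hb h1 hn h2 hg
  rw [Sb, hg, coe_top, Set.inter_univ]
  have key : ∀ (N : Subgroup G) [N.Normal], N ≠ ⊥ → (∀ x ∈ C, QuotientGroup.mk' N x ≠ 1) → Cons C := by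
    intro N _ hN h3
    refine (Q N hN h3).elim id fun h4 => h.cons_of_map _ h3 ?_
    have h5 := eq_of_exc h4.2 ⟨a, ha, rfl⟩ ⟨b, hb, rfl⟩ (par_map _ h1)
      (by rw [← map_inv, ← map_mul, ← map_pow, h2, map_one])
    refine (h.map _ h3).cons_of_pair ⟨a, ha, rfl⟩ ⟨c, hc, rfl⟩ ?_
    rintro _ ⟨g, -, rfl⟩
    have h6 := mem_map_of_mem (QuotientGroup.mk' N) (hg ▸ mem_top g : g ∈ closure ({a, b, c} : Set G))
    rwa [MonoidHom.map_closure, Set.image_insert_eq, Set.image_insert_eq, Set.image_singleton, ← h5,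
      Set.insert_eq_of_mem (Set.mem_insert _ _)] at h6
  by_cases hz : center G = ⊥
  swap
  · by_contra hC
    exact hC (key _ hz fun g hg' e => hC (h.cons_of_center hg' ((QuotientGroup.eq_one_iff g).1 e)))
  by_cases ho : ∀ N : Subgroup G, N.Normal → IsPGroup 2 N → N = ⊥
  swap
  · push Not at ho
    obtain ⟨N, hN, h3, h4⟩ := ho
    exact key N h4 (h.ne_one_of_two N h3)
  exact (Bs.base ⟨h, hz, ho, fun a ha b hb c _ h1 hn h2 hg => sub_iso h S Q ha hb h1 hn h2 hg⟩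
    ha hb hc h1 hn hf hg).elim

variable (hC : ¬ Cons C)
include hC

theorem cen (he : e ∈ center G) (e2 : e * e = 1) (e1 : e ≠ 1) [(zpowers e).Normal] :
    p = 3 ∧ Exc (QuotientGroup.mk' (zpowers e) '' C) :=
  (Q _ (by simpa using e1) (h.ne_one_of_two _ fun g => ⟨1, Subtype.ext (zp_sq e2 g.2)⟩)).resolve_left hC

theorem not_cen (hx : x ∈ C) (hy : y ∈ C) (h1 : Par x y) (h2 : (x⁻¹ * y) ^ 2 ≠ 1) :
    (x⁻¹ * y) ^ 2 ∉ center G := fun hz => by
  have := normal_zp hz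
  have e2 : (x⁻¹ * y) ^ 2 * (x⁻¹ * y) ^ 2 = 1 := by rw [← pow_add]; exact h1
  have h3 := eq_of_exc (cen h S Q hC hz e2 h2).2 ⟨x, hx, rfl⟩ ⟨y, hy, rfl⟩ (par_map _ h1) (by
    rw [← map_inv, ← map_mul, ← map_pow]
    exact (QuotientGroup.eq_one_iff _).2 (mem_zpowers _))
  exact h2 (zp_sq e2 (QuotientGroup.eq.1 h3))

omit h S Q hC in
theorem ne_top (he : e ∉ center G) : centralizer ({e} : Set G) ≠ ⊤ := fun e1 =>
  he (mem_center_iff.2 fun g => mem_centralizer_singleton_iff.1 (e1 ▸ mem_top g))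

omit S Q hC in
theorem mem_blk (hx : x ∈ C) (hy : y ∈ C) (h1 : Par x y) :
    x ∈ Fx C ((x⁻¹ * y) ^ 2) ∧ y ∈ Fx C ((x⁻¹ * y) ^ 2) :=
  ⟨mem_Fx.2 ⟨hx, h.sq_comm hx hy h1 (subset_closure (by simp))⟩,
    mem_Fx.2 ⟨hy, h.sq_comm hx hy h1 (subset_closure (by simp))⟩⟩

theorem blk_cons {B : Set G} (hB : Bk C B) : Cons B := by
  obtain ⟨x, hx, y, hy, h1, h2, rfl⟩ := hB
  obtain ⟨mx, my⟩ := mem_blk h hx hy h1
  refine (S _ (ne_top (not_cen h S Q hC hx hy h1 h2))).elim id fun h3 => (h.fx _).cons_of_pair mx my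
    fun z hz => (h3.2 x mx y my h1 ?_).2 z hz (mem_Fx.1 hz).2
  rintro rfl
  exact h2 (by simp)

theorem blk_fx {B : Set G} (hB : Bk C B) (he : e ∈ EH B) (e1 : e ≠ 1) : Fx C e = B := by
  have hc := blk_cons h S Q hC hB
  obtain ⟨x, hx, y, hy, h1, h2, rfl⟩ := hB
  obtain ⟨mx, my⟩ := mem_blk h hx hy h1
  have xy : x ≠ y := by
    rintro rfl
    exact h2 (by simp)
  have e2 : e * e = 1 := by
    have s := (h.fx _).sysF hc mx
    exact s.E_sq s.aff ((h.fx _).EH_eq hc mx ▸ he)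
  have sub : Fx C ((x⁻¹ * y) ^ 2) ⊆ Fx C e := fun z hz => mem_Fx.2 ⟨hz.1, (mem_EH.1 he).2 z hz⟩
  have T : p = 3 → (∀ z ∈ Fx C ((x⁻¹ * y) ^ 2), z ∈ closure ({x, y} : Set G)) →
      Fx C e = Fx C ((x⁻¹ * y) ^ 2) := by
    rintro rfl h3
    have h4 : Fx C ((x⁻¹ * y) ^ 2) = Sb C {x, y} := Set.ext fun z =>
      ⟨fun hz => ⟨hz.1, h3 z hz⟩, fun hz => mem_Fx.2 ⟨hz.1, h.sq_comm hx hy h1 hz.2⟩⟩
    rw [(h.EH_three hx hy h1 (h4 ▸ he)).resolve_left e1]
  by_cases hz : e ∈ center G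
  · have := normal_zp hz
    obtain ⟨p3, h3⟩ := cen h S Q hC hz e2 e1
    refine T p3 fun b hb => ?_
    have h4 := (h3 _ ⟨x, hx, rfl⟩ _ ⟨y, hy, rfl⟩ (par_map _ h1) fun e3 =>
      h2 (zp_sq e2 (QuotientGroup.eq.1 e3))).2 _ ⟨b, hb.1, rfl⟩ (by
        rw [← map_inv, ← map_mul, ← map_pow]
        exact (mem_Fx.1 hb).2.map _)
    rw [← Set.image_singleton, ← Set.image_insert_eq, ← MonoidHom.map_closure] at h4
    obtain ⟨g, hg, h5⟩ := h4
    have h6 : g⁻¹ * b ∈ zpowers e := QuotientGroup.eq.1 h5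
    have h7 : b = b ^ 4 := by
      have := h.pow_p hb.1
      rw [p3] at this
      rw [pow_succ, this, one_mul]
    have h8 : Commute g (g⁻¹ * b) := mem_center_iff.1 (zpowers_le.2 hz h6) g
    rw [h7, ← mul_inv_cancel_left g b, h8.mul_pow, show (g⁻¹ * b) ^ 4 = ((g⁻¹ * b) ^ 2) ^ 2 by
      rw [← pow_mul], zp_sq e2 h6, one_pow, mul_one]
    exact pow_mem hg 4
  rcases S _ (ne_top hz) with h3 | ⟨p3, h3⟩
  · refine Set.Subset.antisymm (fun z hz => mem_Fx.2 ⟨hz.1, ?_⟩) sub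
    have s := (h.fx e).sysF h3 (sub mx)
    have h4 := s.gen_sq s.aff ⟨sub mx, par_refl x⟩ ⟨sub my, h1⟩
    rw [← (h.fx e).EH_eq h3 (sub mx)] at h4
    exact (mem_EH.1 h4).2 z hz
  · exact T p3 fun b hb => (h3 x (sub mx) y (sub my) h1 xy).2 b (sub hb) (mem_Fx.1 hb).2

omit hC in
theorem step (hg : closure C = ⊤) : Cons C ∨ (p = 3 ∧ Exc C) := by
  by_cases nf : ∀ x ∈ C, ∀ y ∈ C, Par x y → x ≠ y → ¬ Fl C x y
  swap
  · push Not at nf
    obtain ⟨x, hx, y, hy, h1, h2, h3⟩ := nf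
    exact Or.inl (Mq.cons ⟨h, fun a ha b hb c hc h4 h5 h6 => plane h S Q ha hb hc h4 h5 h6, hx, hy, h1,
      h2, h3⟩)
  refine or_iff_not_imp_left.2 fun hC => ?_
  have m : Mn p C := ⟨h, hg, nf, fun B hB => blk_cons h S Q hC hB, fun B hB => ?_,
    fun B hB e he e1 => blk_fx h S Q hC hB he e1⟩
  · by_cases hB : ∃ B, Bk C B
    · obtain ⟨B, hB⟩ := hB
      obtain rfl := m.three hB
      exact ⟨rfl, m.exc⟩
    · have h1 : ∀ x ∈ C, ∀ y ∈ C, Par x y → x = y := fun x hx y hy h1 => by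
        by_contra hn
        refine nf x hx y hy h1 hn fun z hz => ?_
        by_contra h2
        exact hB ⟨_, x, hx, z, hz.1.1, hz.1.2, h2, rfl⟩
      refine absurd (fun x hx y hy z hz h2 h3 => ?_) hC
      rw [← h1 x hx y hy h2]
      exact h3
  · obtain ⟨x, hx, y, hy, h1, h2, rfl⟩ := hB
    by_contra hn
    push Not at hn
    exact not_cen h S Q hC hx hy h1 h2 (mem_center_iff.2 fun g =>
      (commute_closure (fun s hs => (mem_Fx.1 (hn s hs)).2) (hg ▸ mem_top g)).symm)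

omit h S Q hC in
theorem aux {p : ℕ} (n : ℕ) : ∀ (G : Type u) [Group G] [Finite G] (C : Set G), Nat.card G = n →
    HS p C → Cons C ∨ (p = 3 ∧ Exc C) := by
  induction n using Nat.strong_induction_on with
  | _ n ih =>
  intro G _ _ C hn h
  have S : ∀ K : Subgroup G, K ≠ ⊤ → Cons (C ∩ K) ∨ (p = 3 ∧ Exc (C ∩ K)) := fun K hK =>
    (ih _ (by
      rw [← hn, ← K.card_mul_index]
      exact lt_mul_of_one_lt_right Nat.card_pos (one_lt_index_of_ne_top hK)) K _ rfl (h.comap K)).imp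
      cons_of_comap (And.imp_right exc_of_comap)
  by_cases hg : closure C = ⊤
  swap
  · have := S _ hg
    rwa [Set.inter_eq_left.2 Subgroup.subset_closure] at this
  exact step h S (fun N _ hN h1 => (ih _ (by
    rw [← hn, card_eq_card_quotient_mul_card_subgroup N]
    exact lt_mul_of_one_lt_right Nat.card_pos ((one_lt_card_iff_ne_bot N).2 hN)) _ _ rfl
      (h.map _ h1)).imp_left (h.cons_of_map _ h1)) hg

end HMain

variable {G : Type*} [Group G] [Finite G] {p : ℕ} {C : Set G}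

theorem HS.main (h : HS p C) : Cons C ∨ (p = 3 ∧ Exc C) := HMain.aux _ G C rfl h

end Cfsg.Agent.CY
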